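import Mathlib

/-! # The spectrum of an algebra is the limit of the spectra of its finitely generated subalgebras -/

set_option autoImplicit false
universe u

open CategoryTheory CategoryTheory.Limits AlgebraicGeometry

noncomputable section

namespace Groth.Agent.PurX.AdjLim

set_option backward.isDefEq.respectTransparency false
set_option backward.isDefEq.respectTransparency.types false

variable (A B : Type u) [CommRing A] [CommRing B] [Algebra A B]

/-- Generated subalgebras. -/
abbrev sub (s : Finset B) : Subalgebra A B := Algebra.adjoin A (s : Set B)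

/-- The system of subalgebras. -/
def rings : Finset B ⥤ CommRingCat.{u} where
  obj s := CommRingCat.of (sub A B s)
  map {s t} h := CommRingCat.ofHom
    (Subalgebra.inclusion (Algebra.adjoin_mono (Finset.coe_subset.2 (leOfHom h)))).toRingHom

/-- The inclusions. -/
def cocone : Cocone (rings A B) where
  pt := CommRingCat.of B
  ι := { app := fun s => CommRingCat.ofHom (sub A B s).val.toRingHom }

/-- `B` is the colimit. -/
def isColimit : IsColimit (cocone A B) := by
  classical
  haveI : ReflectsColimit (rings A B) (forget CommRingCat.{u}) := reflectsColimit_of_reflectsIsomorphisms _ _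
  refine isColimitOfReflects (forget CommRingCat.{u}) ?_
  refine Types.FilteredColimit.isColimitOf' _ _ (fun z => ?_) fun s x y h => ?_
  · exact ⟨{z}, ⟨z, Algebra.subset_adjoin (Finset.mem_singleton_self z)⟩, rfl⟩
  · exact ⟨s, 𝟙 s, congrArg _ (Subtype.ext h)⟩

/-- Spectra of the subalgebras. -/
def specs : (Finset B)ᵒᵖ ⥤ Scheme.{u} := (rings A B).op ⋙ Scheme.Spec

/-- The cone. -/
def specCone : Cone (specs A B) := Scheme.Spec.mapCone (cocone A B).op

/-- It is a limit. -/
def isLimitSpec : IsLimit (specCone A B) := isLimitOfPreserves Scheme.Spec (isColimit A B).op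

instance isCofiltered : IsCofiltered (Finset B)ᵒᵖ := by
  classical
  infer_instance

instance (s t : (Finset B)ᵒᵖ) (g : s ⟶ t) : IsAffineHom ((specs A B).map g) :=
  inferInstanceAs (IsAffineHom (Spec.map _))

instance (s : (Finset B)ᵒᵖ) : IsAffine ((specs A B).obj s) :=
  inferInstanceAs (IsAffine (Spec _))

end Groth.Agent.PurX.AdjLim
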