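import Groth.Agent.PurX.Lift
import Groth.Agent.Pi1X.FEtFull
import Groth.Agent.Pi1Ext.PuritySch

/-!
# Full faithfulness of restriction to a hypersurface of the punctured spectrum from lifting of clopens
-/

set_option autoImplicit false
set_option linter.style.haveILetI false

universe u

open CategoryTheory CategoryTheory.Limits AlgebraicGeometry TensorProduct IsLocalRing
open Groth.Agent.Pi1Ext Groth.Agent.Pi1Ext.RegPurity

set_option backward.isDefEq.respectTransparency false

noncomputable section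

namespace Groth.Agent.PurX

variable {A : Type u} [CommRing A] [IsLocalRing A]

/-- An algebra which is finite étale off the closed point is split at every element of `g`. -/
theorem split_of_etOff [IsNoetherianRing A] (D : Type u) [CommRing D] [Algebra A D] [Module.Finite A D]
    (hD : EtOff A D) {ι : Type} (g : ι → A) (hg : ∀ i, g i ∈ maximalIdeal A) : Split g D := by
  haveI : Module.FinitePresentation A D := Module.finitePresentation_of_finite A D
  refine split_of_projective fun i => ?_
  let Ag := Localization.Away (g i)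
  haveI : Algebra.Etale Ag (Ag ⊗[A] D) :=
    etale_tensor_of_etAway (hD (g i) (hg i)) _ (IsLocalization.Away.algebraMap_isUnit (g i))
  haveI : Module.Flat Ag (Ag ⊗[A] D) := inferInstance
  haveI : Module.FinitePresentation Ag (Ag ⊗[A] D) := inferInstance
  haveI : Module.Projective Ag (Ag ⊗[A] D) := Module.Flat.projective_of_finitePresentation
  exact Module.Projective.of_equiv
    (LocalizedModule.equivTensorProduct (Submonoid.powers (g i)) D).symm

/-- Relatively clopen subsets extend, in scheme form. -/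
theorem lifts_scheme {X P : Scheme.{u}} {D : Type u} [CommRing D] {ι : Type} {G : ι → D} {f : D}
    (hL : Lifts G f) (E : X ⟶ Spec (CommRingCat.of D)) [IsOpenImmersion E]
    (hE : ∀ q : PrimeSpectrum D, q ∈ Set.range E.base ↔ q ∈ punct G)
    (j : P ⟶ X) [IsClosedImmersion j]
    (hj : ∀ x : X, x ∈ Set.range j.base ↔ f ∈ (E.base x : PrimeSpectrum D).asIdeal) :
    (∀ C : Set X, IsClopen C → C ∩ Set.range j.base = ∅ → C = ∅) ∧
      ∀ C : Set P, IsClopen C → ∃ G' : Set X, IsClopen G' ∧ j.base ⁻¹' G' = C := by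
  have hinj := E.isOpenEmbedding.injective
  have hzl : ∀ x : X, (E.base x : PrimeSpectrum D) ∈ PrimeSpectrum.zeroLocus {f} ↔ x ∈ Set.range j.base :=
    fun x => by
      rw [hj]
      exact Set.singleton_subset_iff
  have himg : ∀ S : Set X, (E.base '' S : Set (PrimeSpectrum D)) ⊆ punct G := by
    rintro S _ ⟨x, -, rfl⟩
    exact (hE _).1 ⟨x, rfl⟩
  refine ⟨fun C hC hCj => ?_, fun C hC => ?_⟩
  · have h := hL.1 (E.base '' C) (E.isOpenEmbedding.isOpenMap _ hC.2) ?_ (himg C) ?_
    · exact Set.image_eq_empty.1 h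
    · have : (punct G \ E.base '' C : Set (PrimeSpectrum D)) = E.base '' Cᶜ := by
        ext q
        constructor
        · rintro ⟨hq, hqC⟩
          obtain ⟨x, rfl⟩ := (hE q).2 hq
          exact ⟨x, fun hx => hqC ⟨x, hx, rfl⟩, rfl⟩
        · rintro ⟨x, hx, rfl⟩
          exact ⟨himg _ ⟨x, hx, rfl⟩, fun ⟨y, hy, hyx⟩ => hx (hinj hyx ▸ hy)⟩
      rw [this]
      exact E.isOpenEmbedding.isOpenMap _ hC.compl.2
    · refine Set.eq_empty_iff_forall_notMem.2 ?_
      rintro _ ⟨⟨x, hx, rfl⟩, hf⟩
      exact Set.eq_empty_iff_forall_notMem.1 hCj x ⟨hx, (hzl x).1 hf⟩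
  · have hje := j.isClosedEmbedding
    obtain ⟨O₁, hO₁, hC₁⟩ := hje.isInducing.isOpen_iff.1 hC.2
    obtain ⟨O₂, hO₂, hC₂⟩ := hje.isInducing.isOpen_iff.1 hC.compl.2
    have hcov : punct G ∩ PrimeSpectrum.zeroLocus {f} ⊆ E.base '' O₁ ∪ E.base '' O₂ := by
      rintro q ⟨hq, hqf⟩
      obtain ⟨x, rfl⟩ := (hE q).2 hq
      obtain ⟨p, rfl⟩ := (hzl x).1 hqf
      by_cases hp : p ∈ C
      · exact Or.inl ⟨_, (Set.ext_iff.1 hC₁ p).2 hp, rfl⟩
      · exact Or.inr ⟨_, (Set.ext_iff.1 hC₂ p).2 hp, rfl⟩
    have hdis : E.base '' O₁ ∩ E.base '' O₂ ∩ punct G ∩ PrimeSpectrum.zeroLocus {f} = ∅ := by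
      refine Set.eq_empty_iff_forall_notMem.2 ?_
      rintro _ ⟨⟨⟨⟨x, hx, rfl⟩, y, hy, hyx⟩, -⟩, hf⟩
      obtain ⟨p, rfl⟩ := (hzl x).1 hf
      exact (Set.ext_iff.1 hC₂ p).1 (hinj hyx ▸ hy : j.base p ∈ O₂) ((Set.ext_iff.1 hC₁ p).1 hx)
    obtain ⟨C', hC', hC'o, hC'sub, hC'f⟩ := hL.2 (E.base '' O₁) (E.base '' O₂)
      (E.isOpenEmbedding.isOpenMap _ hO₁) (E.isOpenEmbedding.isOpenMap _ hO₂) hcov hdis (himg _)
    · refine ⟨E.base ⁻¹' C', ⟨?_, hC'.preimage E.continuous⟩, ?_⟩
      · have : (E.base ⁻¹' C')ᶜ = E.base ⁻¹' (punct G \ C') := by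
          ext x
          exact ⟨fun h => ⟨(hE _).1 ⟨x, rfl⟩, h⟩, fun h => h.2⟩
        exact isOpen_compl_iff.1 (this ▸ hC'o.preimage E.continuous)
      · ext p
        have hf := (hzl (j.base p)).2 ⟨p, rfl⟩
        have e := Set.ext_iff.1 hC'f (E.base (j.base p))
        rw [← hC₁]
        constructor
        · intro hp
          obtain ⟨x, hx, hxp⟩ := (e.1 ⟨hp, hf⟩).1
          exact show j.base p ∈ O₁ from hinj hxp ▸ hx
        · intro hp
          exact (e.2 ⟨⟨j.base p, hp, rfl⟩, hf⟩).1

theorem mem_range_spec_quot (f : A) (q : PrimeSpectrum A) :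
    q ∈ Set.range (Spec.map (CommRingCat.ofHom (Ideal.Quotient.mk (Ideal.span {f})))).base ↔ f ∈ q.asIdeal := by
  have h : q ∈ Set.range (PrimeSpectrum.comap (Ideal.Quotient.mk (Ideal.span {f}))) ↔ f ∈ q.asIdeal := by
    rw [range_comap_of_surjective _ _ Ideal.Quotient.mk_surjective, Ideal.mk_ker,
      PrimeSpectrum.mem_zeroLocus, SetLike.coe_subset_coe, Ideal.span_singleton_le_iff_mem]
  exact h

theorem mem_range_punctured {ι : Type} {g : ι → A} (hg : Ideal.span (Set.range g) = maximalIdeal A)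
    (q : PrimeSpectrum A) :
    q ∈ Set.range (FEt.puncturedSpec A).ι.base ↔ ∃ i, g i ∉ q.asIdeal := by
  rw [Scheme.Opens.range_ι]
  show q ≠ IsLocalRing.closedPoint A ↔ _
  constructor
  · intro hq
    by_contra! h
    refine hq (PrimeSpectrum.ext (((IsLocalRing.maximalIdeal.isMaximal A).eq_of_le
      q.isPrime.ne_top ?_).symm))
    rw [← hg, Ideal.span_le]
    rintro _ ⟨i, rfl⟩
    exact h i
  · rintro ⟨i, hi⟩ rfl
    refine hi (?_ : g i ∈ maximalIdeal A)
    rw [← hg]
    exact Ideal.subset_span ⟨i, rfl⟩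

variable [IsNoetherianRing A]

/-- Lifting of clopens for all finite models gives full faithfulness. -/
theorem restrict_ff_of_lifts (f : A) {ι : Type} (g : ι → A)
    (hg : Ideal.span (Set.range g) = maximalIdeal A)
    (h : ∀ (D : Type u) [CommRing D] [Algebra A D] [Module.Finite A D], EtOff A D →
      Lifts (algebraMap A D ∘ g) (algebraMap A D f)) :
    (FEt.restrict (pullback.fst (FEt.puncturedSpec A).ι (Spec.map (CommRingCat.ofHom (Ideal.Quotient.mk (Ideal.span {f})))))).Full ∧
      (FEt.restrict (pullback.fst (FEt.puncturedSpec A).ι (Spec.map (CommRingCat.ofHom (Ideal.Quotient.mk (Ideal.span {f})))))).Faithful := by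
  haveI : IsClosedImmersion (Spec.map (CommRingCat.ofHom (Ideal.Quotient.mk (Ideal.span {f})))) :=
    IsClosedImmersion.spec_of_surjective _ Ideal.Quotient.mk_surjective
  let i := pullback.fst (FEt.puncturedSpec A).ι (Spec.map (CommRingCat.ofHom (Ideal.Quotient.mk (Ideal.span {f}))))
  haveI : IsClosedImmersion i := inferInstance
  have hi : ∀ x : (FEt.puncturedSpec A : Scheme.{u}),
      x ∈ Set.range i.base ↔ f ∈ ((FEt.puncturedSpec A).ι.base x : PrimeSpectrum A).asIdeal := fun x => by
    rw [show Set.range i.base = _ from Scheme.Pullback.range_fst _ _, Set.mem_preimage]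
    exact mem_range_spec_quot f _
  have hAA : EtOff A A := fun g' _ => Algebra.Etale.of_isLocalizationAway g'
  have hdense : ∀ C : Set (FEt.puncturedSpec A : Scheme.{u}), IsClopen C → C.Nonempty →
      (C ∩ Set.range i.base).Nonempty := by
    intro C hC hne
    by_contra hemp
    exact hne.ne_empty ((lifts_scheme (h A hAA) (FEt.puncturedSpec A).ι (mem_range_punctured hg) i hi).1 C hC
      (Set.not_nonempty_iff_eq_empty.1 hemp))
  refine ⟨Pi1X.restrict_full i hdense fun W C hC => ?_, Pi1X.restrict_faithful i hdense⟩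
  obtain ⟨D, _, _, _, hD, ⟨e⟩⟩ := PuritySch.exists_finite_model W
  let v : pullback (PuritySch.sp A D) (FEt.puncturedSpec A).ι ⟶ W.left := e.hom.left
  haveI : IsIso v :=
    ⟨e.inv.left, congrArg (fun t => t.left) e.hom_inv_id, congrArg (fun t => t.left) e.inv_hom_id⟩
  let E : W.left ⟶ Spec (CommRingCat.of D) := inv v ≫ pullback.fst _ _
  haveI : IsOpenImmersion E := inferInstance
  have hcond : E ≫ PuritySch.sp A D = W.hom ≫ (FEt.puncturedSpec A).ι := by
    have hw : v ≫ W.hom = PuritySch.rest A D := MorphismProperty.Over.w e.hom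
    rw [← cancel_epi v, reassoc_of% hw]
    simp only [E, Category.assoc, IsIso.hom_inv_id_assoc]
    exact pullback.condition
  refine (lifts_scheme (h D hD) E (fun q => ?_) (pullback.fst W.hom i) (fun x => ?_)).2 C hC
  · have hr : Set.range E.base = (PuritySch.sp A D).base ⁻¹' Set.range (FEt.puncturedSpec A).ι.base := by
      rw [← Scheme.Pullback.range_fst]
      simp only [E, Scheme.Hom.comp_base, TopCat.coe_comp]
      exact Function.Surjective.range_comp (inv v).surjective _
    rw [hr]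
    exact mem_range_punctured hg _
  · rw [Scheme.Pullback.range_fst, Set.mem_preimage]
    refine (hi _).trans ?_
    have hx : (FEt.puncturedSpec A).ι.base (W.hom.base x) = (PuritySch.sp A D).base (E.base x) :=
      congrArg (fun t : W.left ⟶ Spec (CommRingCat.of A) => t.base x) hcond.symm
    exact iff_of_eq (congrArg (fun q : PrimeSpectrum A => f ∈ q.asIdeal) hx)


/-- Full faithfulness from local cohomology killed by a power of `f`. -/
theorem restrict_ff_of_killed {A : Type u} [CommRing A] [IsLocalRing A] [IsNoetherianRing A]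
    (f : A) (hf : f ∈ maximalIdeal A) [HenselianRing A (Ideal.span {f})] {ι : Type} [Fintype ι] (g : ι → A)
    (hg : Ideal.span (Set.range g) = maximalIdeal A) {n : ℕ}
    (h0 : H0Killed g A (f ^ n)) (h1 : H1Killed g A (f ^ n)) :
    (FEt.restrict (pullback.fst (FEt.puncturedSpec A).ι (Spec.map (CommRingCat.ofHom (Ideal.Quotient.mk (Ideal.span {f})))))).Full ∧
      (FEt.restrict (pullback.fst (FEt.puncturedSpec A).ι (Spec.map (CommRingCat.ofHom (Ideal.Quotient.mk (Ideal.span {f})))))).Faithful :=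
  restrict_ff_of_lifts f g hg fun D _ _ _ hD =>
    lifts_finite_henselian D hg hf h0 h1
      (split_of_etOff D hD g fun i => hg ▸ Ideal.subset_span ⟨i, rfl⟩)

end Groth.Agent.PurX
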