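import Groth.Agent.Pi1X.FEtFull

/-!
# Clopen subsets of covers extend along a fully faithful restriction
-/

set_option autoImplicit false
set_option linter.style.haveILetI false

universe u

open CategoryTheory CategoryTheory.Limits AlgebraicGeometry

noncomputable section

set_option backward.isDefEq.respectTransparency false

namespace Groth.Agent.PurX

variable {X S : Scheme.{u}} (i : X ⟶ S)

/-- Two copies of the base. -/
theorem prop_fold (S : Scheme.{u}) : FEt.prop (coprod.desc (𝟙 S) (𝟙 S)) := by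
  refine ⟨inferInstance, ?_⟩
  refine IsZariskiLocalAtSource.of_openCover (P := @Etale) (AlgebraicGeometry.coprodOpenCover.{u, u} S S) fun x => ?_
  rcases x with ⟨⟩ | ⟨⟩
  · show Etale (coprod.inl ≫ coprod.desc (𝟙 S) (𝟙 S)); rw [coprod.inl_desc]; infer_instance
  · show Etale (coprod.inr ≫ coprod.desc (𝟙 S) (𝟙 S)); rw [coprod.inr_desc]; infer_instance

/-- A clopen subset of a cover with empty restriction is empty. -/
theorem eq_empty_of_full [(FEt.restrict i).Full] (W : FEt.Cat S) (C : Set W.left) (hC : IsClopen C)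
    (hCi : (pullback.fst W.hom i).base ⁻¹' C = ∅) : C = ∅ := by
  let U : W.left.Opens := ⟨C, hC.2⟩
  let E : S.Opens := ⊥
  let W₁ : FEt.Cat S := MorphismProperty.Over.mk ⊤ (U.ι ≫ W.hom)
    (MorphismProperty.comp_mem _ _ _ (Pi1X.prop_ι_of_isClopen U hC.1) W.prop)
  let W₀ : FEt.Cat S := MorphismProperty.Over.mk ⊤ E.ι (Pi1X.prop_ι_of_isClopen E isClosed_empty)
  let P := pullback W₁.hom i
  haveI : IsEmpty P := by
    refine ⟨fun p => ?_⟩
    let t : P ⟶ pullback W.hom i := pullback.lift (pullback.fst W₁.hom i ≫ U.ι) (pullback.snd W₁.hom i) (by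
      rw [Category.assoc]
      exact pullback.condition)
    have h1 : t ≫ pullback.fst W.hom i = pullback.fst W₁.hom i ≫ U.ι := pullback.lift_fst _ _ _
    refine Set.eq_empty_iff_forall_notMem.1 hCi (t.base p) ?_
    rw [Set.mem_preimage, ← Scheme.Hom.comp_apply, h1, Scheme.Hom.comp_apply]
    exact (show U from (pullback.fst W₁.hom i).base p).2
  haveI : IsEmpty ((FEt.restrict i).obj W₁).left := inferInstanceAs (IsEmpty P)
  have hI : IsInitial ((FEt.restrict i).obj W₁).left := isInitialOfIsEmpty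
  obtain ⟨φ, -⟩ := (FEt.restrict i).map_surjective (MorphismProperty.Over.homMk (hI.to ((FEt.restrict i).obj W₀).left) (hI.hom_ext _ _) :
    (FEt.restrict i).obj W₁ ⟶ (FEt.restrict i).obj W₀)
  refine Set.eq_empty_of_forall_notMem fun y hy => ?_
  let φ' : (U : Scheme.{u}) ⟶ (E : Scheme.{u}) := φ.left
  exact (φ' ⟨y, hy⟩).2

/-- Clopen subsets of restricted covers extend. -/
theorem exists_clopen_of_full [(FEt.restrict i).Full] (W : FEt.Cat S)
    (C : Set ↥(pullback W.hom i)) (hC : IsClopen C) :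
    ∃ G : Set W.left, IsClopen G ∧ (pullback.fst W.hom i).base ⁻¹' G = C := by
  let P := pullback W.hom i
  let O₁ : P.Opens := ⟨C, hC.2⟩
  let O₂ : P.Opens := ⟨Cᶜ, hC.compl.2⟩
  have hcompl : IsCompl O₁.ι.opensRange O₂.ι.opensRange := by
    rw [Scheme.Opens.opensRange_ι, Scheme.Opens.opensRange_ι, isCompl_iff, disjoint_iff, codisjoint_iff]
    exact ⟨TopologicalSpace.Opens.ext (Set.inter_compl_self C),
      TopologicalSpace.Opens.ext (Set.union_compl_self C)⟩
  obtain ⟨hcol⟩ := nonempty_isColimit_binaryCofanMk_of_isCompl O₁.ι O₂.ι hcompl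
  let T : Scheme.{u} := S ⨿ S
  let q : T ⟶ S := coprod.desc (𝟙 S) (𝟙 S)
  let s : P ⟶ S := pullback.snd W.hom i ≫ i
  obtain ⟨m, hm₁, hm₂⟩ := BinaryCofan.IsColimit.desc' hcol (O₁.ι ≫ s ≫ (coprod.inl : S ⟶ T))
    (O₂.ι ≫ s ≫ (coprod.inr : S ⟶ T))
  replace hm₁ : O₁.ι ≫ m = O₁.ι ≫ s ≫ (coprod.inl : S ⟶ T) := hm₁
  replace hm₂ : O₂.ι ≫ m = O₂.ι ≫ s ≫ (coprod.inr : S ⟶ T) := hm₂
  have hm : m ≫ q = s := by
    refine BinaryCofan.IsColimit.hom_ext hcol ?_ ?_
    · show O₁.ι ≫ m ≫ q = O₁.ι ≫ s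
      rw [reassoc_of% hm₁, coprod.inl_desc, Category.comp_id]
    · show O₂.ι ≫ m ≫ q = O₂.ι ≫ s
      rw [reassoc_of% hm₂, coprod.inr_desc, Category.comp_id]
  let WT : FEt.Cat S := MorphismProperty.Over.mk ⊤ q (prop_fold S)
  let ψ : (FEt.restrict i).obj W ⟶ (FEt.restrict i).obj WT :=
    MorphismProperty.Over.homMk (pullback.lift m (pullback.snd W.hom i) hm) (pullback.lift_snd _ _ _)
  obtain ⟨φ, hφ⟩ := (FEt.restrict i).map_surjective ψ
  let φ' : W.left ⟶ T := φ.left
  have hφ' : pullback.fst W.hom i ≫ φ' = m := by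
    have h1 := congrArg (fun t => t.left ≫ pullback.fst q i) hφ
    simp [FEt.restrict, ψ, WT] at h1
    erw [pullback.lift_fst, pullback.lift_fst] at h1
    exact h1
  have hr : IsClopen (Set.range (coprod.inl : S ⟶ T).base) := by
    refine ⟨?_, (coprod.inl : S ⟶ T).isOpenEmbedding.isOpen_range⟩
    rw [(isCompl_range_inl_inr S S).eq_compl]
    exact (coprod.inr : S ⟶ T).isOpenEmbedding.isOpen_range.isClosed_compl
  refine ⟨φ'.base ⁻¹' Set.range (coprod.inl : S ⟶ T).base, hr.preimage φ'.continuous, ?_⟩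
  ext p
  show φ'.base ((pullback.fst W.hom i).base p) ∈ Set.range (coprod.inl : S ⟶ T).base ↔ p ∈ C
  rw [show φ'.base ((pullback.fst W.hom i).base p) = m.base p from congrArg (fun t : P ⟶ T => t.base p) hφ']
  constructor
  · rintro ⟨y, hy⟩
    by_contra hp
    let p' : O₂ := ⟨p, hp⟩
    have h1 : m.base p = (coprod.inr : S ⟶ T).base (s.base p) := congrArg (fun t => t.base p') hm₂
    exact inl_ne_inr S S y _ (hy.trans h1)
  · intro hp
    let p' : O₁ := ⟨p, hp⟩
    exact ⟨s.base p, (congrArg (fun t => t.base p') hm₁).symm⟩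

end Groth.Agent.PurX
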