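import Groth.Agent.PurX.Bridge
import Groth.Agent.PurX.FFClopen
import Mathlib.AlgebraicGeometry.Pullbacks

/-!
# Lifting of clopens over the completion from full faithfulness
-/

set_option autoImplicit false
set_option linter.style.haveILetI false

universe u

open CategoryTheory CategoryTheory.Limits AlgebraicGeometry TensorProduct IsLocalRing
open Groth.Agent.Pi1Ext Groth.Agent.Pi1Ext.RegPurity

set_option backward.isDefEq.respectTransparency false

noncomputable section

namespace Groth.Agent.PurX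

/-- The converse of `lifts_scheme`. -/
theorem lifts_of_scheme {X P : Scheme.{u}} {D : Type u} [CommRing D] {ι : Type} {G : ι → D} {f : D}
    (E : X ⟶ Spec (CommRingCat.of D)) [IsOpenImmersion E]
    (hE : ∀ q : PrimeSpectrum D, q ∈ Set.range E.base ↔ q ∈ punct G)
    (j : P ⟶ X)
    (hj : ∀ x : X, x ∈ Set.range j.base ↔ f ∈ (E.base x : PrimeSpectrum D).asIdeal)
    (h1 : ∀ C : Set X, IsClopen C → j.base ⁻¹' C = ∅ → C = ∅)
    (h2 : ∀ C : Set P, IsClopen C → ∃ G' : Set X, IsClopen G' ∧ j.base ⁻¹' G' = C) : Lifts G f := by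
  have hinj := E.isOpenEmbedding.injective
  have hzl : ∀ x : X, (E.base x : PrimeSpectrum D) ∈ PrimeSpectrum.zeroLocus {f} ↔ x ∈ Set.range j.base :=
    fun x => by
      rw [hj]
      exact Set.singleton_subset_iff
  refine ⟨fun C hC hC' hsub hCf => ?_, fun O O' hO hO' hcov hdis hsub => ?_⟩
  · have hcl : IsClopen (E.base ⁻¹' C) := by
      refine ⟨?_, hC.preimage E.continuous⟩
      have : (E.base ⁻¹' C)ᶜ = E.base ⁻¹' (punct G \ C) := by
        ext x
        exact ⟨fun h => ⟨(hE _).1 ⟨x, rfl⟩, h⟩, fun h => h.2⟩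
      exact isOpen_compl_iff.1 (this ▸ hC'.preimage E.continuous)
    have he := h1 _ hcl (Set.eq_empty_of_forall_notMem fun p hp =>
      Set.eq_empty_iff_forall_notMem.1 hCf _ ⟨hp, (hzl _).2 ⟨p, rfl⟩⟩)
    refine Set.eq_empty_of_forall_notMem fun q hq => ?_
    obtain ⟨x, rfl⟩ := (hE q).2 (hsub hq)
    exact Set.eq_empty_iff_forall_notMem.1 he x hq
  · let c : Set P := {p | E.base (j.base p) ∈ O}
    have hc : IsClopen c := by
      refine ⟨?_, hO.preimage (E.continuous.comp j.continuous)⟩
      have : cᶜ = {p | E.base (j.base p) ∈ O'} := by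
        ext p
        have hp : E.base (j.base p) ∈ punct G ∩ PrimeSpectrum.zeroLocus {f} :=
          ⟨(hE _).1 ⟨_, rfl⟩, (hzl _).2 ⟨p, rfl⟩⟩
        exact ⟨fun h => (hcov hp).resolve_left h,
          fun h h' => Set.eq_empty_iff_forall_notMem.1 hdis _ ⟨⟨⟨h', h⟩, hp.1⟩, hp.2⟩⟩
      exact isOpen_compl_iff.1 (this ▸ hO'.preimage (E.continuous.comp j.continuous))
    obtain ⟨G', hG', hGc⟩ := h2 c hc
    refine ⟨E.base '' G', E.isOpenEmbedding.isOpenMap _ hG'.2, ?_, ?_, ?_⟩
    · have : (punct G \ E.base '' G' : Set (PrimeSpectrum D)) = E.base '' G'ᶜ := by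
        ext q
        constructor
        · rintro ⟨hq, hqC⟩
          obtain ⟨x, rfl⟩ := (hE q).2 hq
          exact ⟨x, fun hx => hqC ⟨x, hx, rfl⟩, rfl⟩
        · rintro ⟨x, hx, rfl⟩
          exact ⟨(hE _).1 ⟨x, rfl⟩, fun ⟨y, hy, hyx⟩ => hx (hinj hyx ▸ hy)⟩
      rw [this]
      exact E.isOpenEmbedding.isOpenMap _ hG'.compl.2
    · rintro _ ⟨x, -, rfl⟩
      exact (hE _).1 ⟨x, rfl⟩
    · ext q
      constructor
      · rintro ⟨⟨x, hx, rfl⟩, hf⟩
        obtain ⟨p, rfl⟩ := (hzl x).1 hf
        exact ⟨(Set.ext_iff.1 hGc p).1 hx, hf⟩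
      · rintro ⟨hq, hf⟩
        obtain ⟨x, rfl⟩ := (hE q).2 (hsub hq)
        obtain ⟨p, rfl⟩ := (hzl x).1 hf
        exact ⟨⟨_, (Set.ext_iff.1 hGc p).2 hq, rfl⟩, hf⟩

variable {A : Type u} [CommRing A] [IsLocalRing A] [IsNoetherianRing A]

/-- Lifting of clopens over the completion from fullness. -/
theorem lifts_cplBC_of_full (f : A) {ι : Type} (g : ι → A) (hg : Ideal.span (Set.range g) = maximalIdeal A)
    [(FEt.restrict (pullback.fst
        (pullback.fst (FEt.puncturedSpec A).ι (Spec.map (CommRingCat.ofHom (algebraMap A (Cpl A)))))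
        (pullback.fst (FEt.puncturedSpec A).ι (Spec.map (CommRingCat.ofHom (Ideal.Quotient.mk (Ideal.span {f}))))))).Full]
    (D : Type u) [CommRing D] [Algebra A D] [Module.Finite A D] (hD : EtOff A D) :
    Lifts (algebraMap D (CplBC A D) ∘ algebraMap A D ∘ g) (algebraMap D (CplBC A D) (algebraMap A D f)) := by
  let Uι := (FEt.puncturedSpec A).ι
  let c := Spec.map (CommRingCat.ofHom (algebraMap A (Cpl A)))
  let i := pullback.fst Uι (Spec.map (CommRingCat.ofHom (Ideal.Quotient.mk (Ideal.span {f}))))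
  let u₁ := pullback.fst Uι c
  let u₂ := pullback.snd Uι c
  let i' := pullback.fst u₁ i
  let W₀ : FEt.Cat (FEt.puncturedSpec A : Scheme.{u}) := PuritySch.obj D (PuritySch.prop_rest D hD)
  let W : FEt.Cat (pullback Uι c) := (FEt.restrict u₁).obj W₀
  let sp := PuritySch.sp A D
  let w₀ : pullback (PuritySch.rest A D) u₁ ⟶ pullback (PuritySch.rest A D) u₁ := 𝟙 _
  let X := pullback (PuritySch.rest A D) u₁
  let a : X ⟶ Spec (CommRingCat.of D) := pullback.fst (PuritySch.rest A D) u₁ ≫ pullback.fst sp Uι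
  let b : X ⟶ pullback Uι c := pullback.snd (PuritySch.rest A D) u₁
  have hab : IsPullback a b sp (u₁ ≫ Uι) :=
    (IsPullback.of_hasPullback (PuritySch.rest A D) u₁).paste_horiz (IsPullback.of_hasPullback sp Uι)
  have hcond : a ≫ sp = (b ≫ u₂) ≫ c := by
    rw [hab.w, Category.assoc, pullback.condition]
  let l : X ⟶ pullback sp c := pullback.lift a (b ≫ u₂) hcond
  have hl : IsPullback l b (pullback.snd sp c) u₂ := by
    refine IsPullback.of_right ?_ (pullback.lift_snd _ _ _) (IsPullback.of_hasPullback sp c)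
    rw [show l ≫ pullback.fst sp c = a from pullback.lift_fst _ _ _,
      show u₂ ≫ c = u₁ ≫ Uι from pullback.condition.symm]
    exact hab
  haveI : IsOpenImmersion u₂ := MorphismProperty.pullback_snd _ _ inferInstance
  haveI : IsOpenImmersion l := MorphismProperty.of_isPullback (P := @IsOpenImmersion) hl.flip inferInstance
  let E : X ⟶ Spec (CommRingCat.of (CplBC A D)) := l ≫ (pullbackSpecIso A D (Cpl A)).hom
  haveI : IsOpenImmersion E := inferInstance
  have hEfst : E ≫ Spec.map (CommRingCat.ofHom (algebraMap D (CplBC A D))) = a := by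
    simp only [E, Category.assoc]
    rw [pullbackSpecIso_hom_fst', pullback.lift_fst]
  have hA : ∀ x : X, ((u₁ ≫ Uι).base (b.base x) : PrimeSpectrum A) =
      PrimeSpectrum.comap (algebraMap A D) (PrimeSpectrum.comap (algebraMap D (CplBC A D)) (E.base x)) := by
    intro x
    rw [← Scheme.Hom.comp_apply, ← hab.w, ← hEfst]
    rfl
  haveI : IsClosedImmersion (Spec.map (CommRingCat.ofHom (Ideal.Quotient.mk (Ideal.span {f})))) :=
    IsClosedImmersion.spec_of_surjective _ Ideal.Quotient.mk_surjective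
  let j : pullback b i' ⟶ X := pullback.fst b i'
  refine lifts_of_scheme E (fun q => ?_) j (fun x => ?_) ?_ ?_
  · have hr : Set.range E.base = (pullbackSpecIso A D (Cpl A)).hom.base '' Set.range l.base := by
      simp only [E, Scheme.Hom.comp_base, TopCat.coe_comp]
      exact Set.range_comp _ _
    have hrl : ∀ z : ↥(pullback sp c), z ∈ Set.range l.base ↔ (pullback.snd sp c).base z ∈ Set.range u₂.base := by
      intro z
      constructor
      · rintro ⟨x, rfl⟩
        exact ⟨b.base x, by rw [← Scheme.Hom.comp_apply, ← hl.w, Scheme.Hom.comp_apply]⟩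
      · rintro ⟨y, hy⟩
        obtain ⟨x, hx, -⟩ := Scheme.exists_preimage_of_isPullback hl z y hy.symm
        exact ⟨x, hx⟩
    obtain ⟨z, rfl⟩ := (pullbackSpecIso A D (Cpl A)).hom.surjective q
    rw [hr, (pullbackSpecIso A D (Cpl A)).hom.isOpenEmbedding.injective.mem_set_image, hrl,
      show Set.range u₂.base = _ from Scheme.Pullback.range_snd _ _, Set.mem_preimage]
    refine (mem_range_punctured hg _).trans ?_
    have hz : c.base ((pullback.snd sp c).base z) = PrimeSpectrum.comap (algebraMap A D)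
        (PrimeSpectrum.comap (algebraMap D (CplBC A D)) ((pullbackSpecIso A D (Cpl A)).hom.base z)) := by
      rw [← Scheme.Hom.comp_apply, ← pullback.condition, ← pullbackSpecIso_hom_fst' A D (Cpl A)]
      rfl
    rw [hz]
    rfl
  · rw [show Set.range j.base = _ from Scheme.Pullback.range_fst _ _, Set.mem_preimage,
      show Set.range i'.base = _ from Scheme.Pullback.range_fst _ _, Set.mem_preimage,
      show Set.range i.base = _ from Scheme.Pullback.range_fst _ _, Set.mem_preimage]
    refine (mem_range_spec_quot f _).trans ?_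
    refine iff_of_eq ?_
    have := congrArg (fun q : PrimeSpectrum A => f ∈ q.asIdeal) (hA x)
    exact this
  · exact fun C hC hCi => eq_empty_of_full i' W C hC hCi
  · exact fun C hC => exists_clopen_of_full i' W C hC

end Groth.Agent.PurX
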