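import Groth.Agent.PurX.Data
import Mathlib.RingTheory.Filtration
import Mathlib.Algebra.Module.Injective
import Mathlib.Data.Fintype.BigOperators

/-!
# Sections over punctured spectra and first Čech classes, elementwise

`H0Killed g M c`: the cokernel of `M → Γ(⋃ D(g i), M~)` is killed by `c`;
`H1Killed g M c`: the first Čech cohomology of `M~` for the covering by the `D(g i)` is killed by `c`.
Both are stated on numerators.
-/

set_option autoImplicit false

universe u v

namespace Groth.Agent.PurX

variable {R : Type u} [CommRing R] {ι : Type}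

/-- Compatible numerators are, after multiplication by `c`, restrictions of elements of `M`. -/
def H0Killed (g : ι → R) (M : Type v) [AddCommGroup M] [Module R M] (c : R) : Prop :=
  ∀ (k : ℕ) (y : ι → M), Compat (fun i => g i ^ k) y →
    ∃ (x : M) (p : ℕ), ∀ i, g i ^ p • c • y i = g i ^ (k + p) • x

/-- Čech 1-cocycles are, after multiplication by `c`, coboundaries. -/
def H1Killed (g : ι → R) (M : Type v) [AddCommGroup M] [Module R M] (c : R) : Prop :=
  ∀ (k : ℕ) (a : ι → ι → M), (∀ i j l, g l ^ k • a i j + g i ^ k • a j l = g j ^ k • a i l) →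
    ∃ (p : ℕ) (w : ι → M), ∀ i j,
      (g i * g j) ^ p • c • a i j = g j ^ (k + p) • w i - g i ^ (k + p) • w j

theorem H0Killed.mul_left {g : ι → R} {M : Type v} [AddCommGroup M] [Module R M] {c : R}
    (h : H0Killed g M c) (r : R) : H0Killed g M (r * c) := by
  intro k y hy
  obtain ⟨x, p, hx⟩ := h k y hy
  refine ⟨r • x, p, fun i => ?_⟩
  rw [mul_smul, smul_comm (g i ^ p) r, hx, smul_comm]

theorem H1Killed.mul_left {g : ι → R} {M : Type v} [AddCommGroup M] [Module R M] {c : R}
    (h : H1Killed g M c) (r : R) : H1Killed g M (r * c) := by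
  intro k a ha
  obtain ⟨p, w, hw⟩ := h k a ha
  refine ⟨p, fun i => r • w i, fun i j => ?_⟩
  rw [mul_smul, smul_comm ((g i * g j) ^ p) r, hw, smul_sub, smul_comm r, smul_comm r]

theorem H0Killed.one {g : ι → R} {M : Type v} [AddCommGroup M] [Module R M]
    (h : H0Killed g M 1) (c : R) : H0Killed g M c := by
  simpa using h.mul_left c

theorem H1Killed.one {g : ι → R} {M : Type v} [AddCommGroup M] [Module R M]
    (h : H1Killed g M 1) (c : R) : H1Killed g M c := by
  simpa using h.mul_left c

section Hom

variable [Fintype ι] [IsNoetherianRing R] {M : Type v} [AddCommGroup M] [Module R M]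

/-- Compatible numerators define a linear map on a power of the ideal they generate. -/
theorem exists_hom_pow (h : ι → R) (y : ι → M) (hy : Compat h y) :
    ∃ (q : ℕ) (φ : ↥(Ideal.span (Set.range h) ^ (q + 1)) →ₗ[R] M),
      ∀ i, φ ⟨h i ^ (q + 1), Ideal.pow_mem_pow (Ideal.subset_span (Set.mem_range_self i)) _⟩ = h i ^ q • y i := by
  classical
  let I := Ideal.span (Set.range h)
  let π : (ι → R) →ₗ[R] R := Fintype.linearCombination R h
  let ψ : (ι → R) →ₗ[R] M := Fintype.linearCombination R y
  have hπ : LinearMap.range π = I := Fintype.range_linearCombination R h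
  have hkill : ∀ r ∈ LinearMap.ker π, ∀ j, h j • ψ r = 0 := by
    intro r hr j
    have hr' : ∑ i, r i * h i = 0 := by
      simpa [π, Fintype.linearCombination_apply] using hr
    show h j • Fintype.linearCombination R y r = 0
    rw [Fintype.linearCombination_apply, Finset.smul_sum]
    calc ∑ i, h j • r i • y i = ∑ i, (r i * h i) • y j := by
          refine Finset.sum_congr rfl fun i _ => ?_
          rw [smul_comm, hy i j, mul_smul]
      _ = 0 := by rw [← Finset.sum_smul, hr', zero_smul]
  have hI : ∀ z ∈ I • LinearMap.ker π, ψ z = 0 := by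
    intro z hz
    refine Submodule.smul_induction_on hz (fun a ha r hr => ?_) fun a b ha hb => by rw [map_add, ha, hb, add_zero]
    rw [map_smul]
    refine Submodule.span_induction (fun _ ⟨j, hj⟩ => hj ▸ hkill r hr j) (zero_smul _ _)
      (fun a b _ _ ha hb => by rw [add_smul, ha, hb, add_zero])
      (fun a b _ hb => by rw [smul_eq_mul, mul_smul, hb, smul_zero]) ha
  obtain ⟨k, hk⟩ := Ideal.exists_pow_inf_eq_pow_smul I (LinearMap.ker π)
  let q := k + 1
  let S : Submodule R (ι → R) := I ^ q • ⊤
  have hSk : ∀ z ∈ S, π z = 0 → ψ z = 0 := by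
    intro z hz hz0
    have : z ∈ I ^ (q - k) • (I ^ k • ⊤ ⊓ LinearMap.ker π) := hk q (Nat.le_succ k) ▸ ⟨hz, hz0⟩
    rw [show q - k = 1 by simp [q], pow_one] at this
    exact hI z (Submodule.smul_mono le_rfl inf_le_right this)
  have hSmap : Submodule.map π S = I ^ (q + 1) := by
    rw [Submodule.map_smul'', Submodule.map_top, hπ, pow_succ]
    rfl
  have hex : ∀ x : ↥(I ^ (q + 1)), ∃ z ∈ S, π z = x := fun x => by
    have := hSmap.ge x.2
    exact this
  choose z hzS hz using hex
  have huniq : ∀ (x : ↥(I ^ (q + 1))) (z' : ι → R), z' ∈ S → π z' = x → ψ z' = ψ (z x) := by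
    intro x z' hz' he
    rw [← sub_eq_zero, ← map_sub]
    exact hSk _ (sub_mem hz' (hzS x)) (by rw [map_sub, he, hz, sub_self])
  let φ : ↥(I ^ (q + 1)) →ₗ[R] M :=
    { toFun := fun x => ψ (z x)
      map_add' := fun x x' => by
        rw [← map_add]
        exact (huniq _ _ (add_mem (hzS x) (hzS x')) (by rw [map_add, hz, hz]; rfl)).symm
      map_smul' := fun r x => by
        rw [RingHom.id_apply, ← map_smul]
        exact (huniq _ _ (S.smul_mem r (hzS x)) (by rw [map_smul, hz]; rfl)).symm }
  refine ⟨q, φ, fun i => ?_⟩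
  have hmem : Pi.single i (h i ^ q) ∈ S := by
    have : Pi.single i (h i ^ q) = h i ^ q • (Pi.single i (1 : R) : ι → R) := by
      rw [← Pi.single_smul', smul_eq_mul, mul_one]
    rw [this]
    exact Submodule.smul_mem_smul (Ideal.pow_mem_pow (Ideal.subset_span (Set.mem_range_self i)) _) trivial
  show ψ (z _) = _
  rw [← huniq _ (Pi.single i (h i ^ q)) hmem (by simp [π, pow_succ])]
  simp [ψ]

/-- Injective modules have no cokernel to sections. -/
theorem h0Killed_of_injective [Small.{v} R] [Module.Injective R M] (g : ι → R) : H0Killed g M 1 := by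
  intro k y hy
  obtain ⟨q, φ, hφ⟩ := exists_hom_pow _ y hy
  obtain ⟨Φ, hΦ⟩ := Module.Baer.of_injective (R := R) (Q := M) inferInstance _ φ
  refine ⟨Φ 1, k * q, fun i => ?_⟩
  have h2 : (g i ^ k) ^ (q + 1) • Φ 1 = (g i ^ k) ^ q • y i := by
    rw [← map_smul, smul_eq_mul, mul_one, ← hφ i]
    exact hΦ _ _
  rw [one_smul, pow_mul, ← h2]
  congr 1
  ring

/-- Injective modules have no first Čech cohomology. -/
theorem h1Killed_of_injective [Small.{v} R] [Module.Injective R M] (g : ι → R) : H1Killed g M 1 := by
  classical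
  intro k a ha
  -- normalise so that the cocycle is antisymmetric and vanishes on the diagonal
  let b : ι → ι → M := fun i j => (g i * g j) ^ (2 * k) • a i j
  let K := 3 * k
  have hb : ∀ i j l, g l ^ K • b i j + g i ^ K • b j l = g j ^ K • b i l := by
    intro i j l
    have h0 := congrArg (fun m => (g i * g j * g l) ^ (2 * k) • m) (ha i j l)
    simp only [smul_add, smul_smul] at h0 ⊢
    simp only [b, K, smul_smul]
    rw [show g l ^ (3 * k) * (g i * g j) ^ (2 * k) = (g i * g j * g l) ^ (2 * k) * g l ^ k by ring,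
      show g i ^ (3 * k) * (g j * g l) ^ (2 * k) = (g i * g j * g l) ^ (2 * k) * g i ^ k by ring,
      show g j ^ (3 * k) * (g i * g l) ^ (2 * k) = (g i * g j * g l) ^ (2 * k) * g j ^ k by ring]
    exact h0
  have hdiag : ∀ i, b i i = 0 := by
    intro i
    have h0 : g i ^ k • a i i = 0 := by simpa using ha i i i
    show (g i * g i) ^ (2 * k) • a i i = 0
    rw [show (g i * g i) ^ (2 * k) = g i ^ (3 * k) * g i ^ k by ring, mul_smul, h0, smul_zero]
  have hanti : ∀ i l, b i l + b l i = 0 := by
    intro i l
    have h0 : g i ^ k • a i l + g i ^ k • a l i = g l ^ k • a i i := ha i l i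
    have h1 : g i ^ k • a i i = 0 := by simpa using ha i i i
    show (g i * g l) ^ (2 * k) • a i l + (g l * g i) ^ (2 * k) • a l i = 0
    rw [mul_comm (g l) (g i), ← smul_add,
      show (g i * g l) ^ (2 * k) = (g i ^ k * g l ^ (2 * k)) * g i ^ k by ring, mul_smul, smul_add, h0,
      smul_smul, show g i ^ k * g l ^ (2 * k) * g l ^ k = g l ^ (3 * k) * g i ^ k by ring, mul_smul, h1, smul_zero]
  suffices H : ∀ S : Finset ι, ∃ (L : ℕ) (w : ι → M), ∀ i ∈ S, ∀ j ∈ S,
      (g i * g j) ^ L • b i j = g j ^ (K + L) • w i - g i ^ (K + L) • w j by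
    obtain ⟨L, w, hw⟩ := H Finset.univ
    refine ⟨L + 2 * k, w, fun i j => ?_⟩
    have := hw i (Finset.mem_univ i) j (Finset.mem_univ j)
    simp only [b, smul_smul] at this
    rw [one_smul, pow_add, this]
    congr 2 <;> · congr 1; simp only [K]; omega
  intro S
  induction S using Finset.induction with
  | empty => exact ⟨0, fun _ => 0, fun i hi => absurd hi (Finset.notMem_empty i)⟩
  | @insert l S hl ih =>
    obtain ⟨L, w, hw⟩ := ih
    let u : ↥S → M := fun i => g l ^ (K + L) • w i - (g i * g l) ^ L • b i l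
    have hu : Compat (fun i : ↥S => g i ^ (K + L)) u := by
      intro i j
      have e := hw i i.2 j j.2
      have c := congrArg (fun m => (g i * g j * g l) ^ L • m) (hb i j l)
      simp only [u, smul_sub, smul_add, smul_smul] at c ⊢
      rw [sub_eq_sub_iff_sub_eq_sub]
      have e' := congrArg (fun m => g l ^ (K + L) • m) e
      simp only [smul_sub, smul_smul] at e'
      rw [show (g (j:ι) ^ (K + L) * g l ^ (K + L)) = g l ^ (K + L) * g (j:ι) ^ (K + L) by ring,
        show (g (i:ι) ^ (K + L) * g l ^ (K + L)) = g l ^ (K + L) * g (i:ι) ^ (K + L) by ring, ← e',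
        show g l ^ (K + L) * (g (i:ι) * g (j:ι)) ^ L = (g i * g j * g l) ^ L * g l ^ K by ring,
        show g (j:ι) ^ (K + L) * (g (i:ι) * g l) ^ L = (g i * g j * g l) ^ L * g j ^ K by ring,
        show g (i:ι) ^ (K + L) * (g (j:ι) * g l) ^ L = (g i * g j * g l) ^ L * g i ^ K by ring, eq_sub_iff_add_eq]
      exact c
    obtain ⟨x, p, hx⟩ := h0Killed_of_injective (M := M) (fun i : ↥S => g i) _ u hu
    let w' : ι → M := fun i => if i = l then g l ^ p • x else g i ^ p • w i
    have key : ∀ i ∈ S, (g i * g l) ^ (L + p) • b i l =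
        g l ^ (K + (L + p)) • w' i - g i ^ (K + (L + p)) • w' l := by
      intro i hi
      have hne : i ≠ l := fun e => hl (e ▸ hi)
      have e := congrArg (fun m => g l ^ p • m) (hx ⟨i, hi⟩)
      simp only [u, smul_sub, smul_smul, one_mul] at e
      simp only [w', if_neg hne, if_pos, smul_smul]
      rw [show g i ^ (K + (L + p)) * g l ^ p = g l ^ p * g i ^ (K + L + p) by ring, ← e,
        show g l ^ (K + (L + p)) * g i ^ p = g l ^ p * (g i ^ p * g l ^ (K + L)) by ring,
        show (g i * g l) ^ (L + p) = g l ^ p * (g i ^ p * (g i * g l) ^ L) by ring]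
      abel
    refine ⟨L + p, w', fun i hi j hj => ?_⟩
    rcases Finset.mem_insert.1 hi with rfl | hiS <;> rcases Finset.mem_insert.1 hj with rfl | hjS
    · rw [hdiag, smul_zero, sub_self]
    · rw [eq_neg_of_add_eq_zero_left (hanti i j), smul_neg, mul_comm (g i), key j hjS, neg_sub]
    · exact key i hiS
    · have e := congrArg (fun m => (g i * g j) ^ p • m) (hw i hiS j hjS)
      simp only [smul_sub, smul_smul] at e
      simp only [w', if_neg (fun e : i = l => hl (e ▸ hiS)), if_neg (fun e : j = l => hl (e ▸ hjS)), smul_smul]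
      rw [show (g i * g j) ^ (L + p) = (g i * g j) ^ p * (g i * g j) ^ L by ring, e]
      congr 2 <;> ring

end Hom

/-- `H¹` is killed if the sections of the quotient by an injective hull are. -/
theorem h1Killed_of_quotient {M E N : Type v} [AddCommGroup M] [Module R M] [AddCommGroup E] [Module R E]
    [AddCommGroup N] [Module R N] (g : ι → R) (i₀ : M →ₗ[R] E) (π : E →ₗ[R] N) (hi : Function.Injective i₀)
    (hπ : Function.Surjective π) (hex : Function.Exact i₀ π) (hE : H1Killed g E 1) {c : R} (hN : H0Killed g N c) :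
    H1Killed g M c := by
  intro k a ha
  obtain ⟨p, w, hw⟩ := hE k (fun i j => i₀ (a i j)) fun i j l => by rw [← map_smul, ← map_smul, ← map_smul, ← map_add, ha i j l]
  have hy : Compat (fun i => g i ^ (k + p)) (fun i => π (w i)) := by
    intro i j
    have := congrArg π (hw i j)
    simp only [one_smul, map_smul, map_sub, hex.apply_apply_eq_zero, smul_zero] at this
    exact sub_eq_zero.1 this.symm
  obtain ⟨x, q, hx⟩ := hN _ _ hy
  obtain ⟨x', rfl⟩ := hπ x
  have hex' : ∀ i, ∃ m, i₀ m = g i ^ q • c • w i - g i ^ (k + p + q) • x' := fun i =>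
    (hex _).1 (by rw [map_sub, map_smul, map_smul, map_smul, hx, sub_self])
  choose w' hw' using hex'
  refine ⟨p + q, w', fun i j => hi ?_⟩
  have := congrArg (fun m => (g i * g j) ^ q • c • m) (hw i j)
  simp only [one_smul, smul_sub, smul_smul, map_smul, map_sub, hw'] at this ⊢
  rw [show (g i * g j) ^ (p + q) * c = (g i * g j) ^ q * (c * (g i * g j) ^ p) by ring, this,
    show g j ^ (k + (p + q)) * g i ^ (k + p + q) = g i ^ (k + (p + q)) * g j ^ (k + p + q) by ring,
    sub_sub_sub_cancel_right]
  congr 2 <;> ring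

end Groth.Agent.PurX
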