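import Groth.Agent.PurX.Cech
import Groth.Agent.LC.CohDT
import Groth.Agent.LC.Depth
import Mathlib.Algebra.Category.ModuleCat.Injective
import Mathlib.Algebra.Category.ModuleCat.EnoughInjectives
import Mathlib.RingTheory.Noetherian.Basic

/-!
# Killing of Čech classes from killing of local cohomology
-/

set_option autoImplicit false
set_option linter.style.haveILetI false

universe u

open CategoryTheory Limits

namespace Groth.Agent.PurX

variable {R : Type u} [CommRing R] [IsNoetherianRing R] {ι : Type} [Fintype ι]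

theorem h0Killed_of_H (g : ι → R) {J : Ideal R} (hJ : Ideal.span (Set.range g) = J)
    (M : ModuleCat.{u} R) (c : R) (hc : ∀ z : (localCohomology J 1).obj M, c • z = 0) :
    H0Killed g M c := by
  subst hJ
  intro k y hy
  obtain ⟨q, φ, hφ⟩ := exists_hom_pow _ y hy
  let J := Ideal.span (Set.range g)
  let I := Ideal.span (Set.range fun i => g i ^ k)
  have hrad : J ≤ I.radical := by
    refine Ideal.span_le.2 ?_
    rintro _ ⟨i, rfl⟩
    exact ⟨k, Ideal.subset_span (Set.mem_range_self i)⟩
  obtain ⟨N, hN⟩ := Ideal.exists_pow_le_of_le_radical_of_fg hrad (IsNoetherian.noetherian J)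
  let n := N * (q + 1) + k * (q + 1)
  have hle : J ^ n ≤ I ^ (q + 1) := (Ideal.pow_le_pow_right (Nat.le_add_right _ _)).trans
    (by rw [pow_mul]; exact Ideal.pow_right_mono hN _)
  let f : LC.pObj J n ⟶ M := ModuleCat.ofHom (φ ∘ₗ Submodule.inclusion hle)
  have hz : LC.δD J M (LC.toD J M n (c • f)) = 0 := by rw [map_smul, map_smul]; exact hc _
  obtain ⟨x, hx⟩ := (LC.exact_toDT_δD J M _).1 hz
  rw [LC.toDT_eq J M x n, ← sub_eq_zero, ← map_sub, LC.toD_eq_zero_iff] at hx
  obtain ⟨m, hm, hx⟩ := hx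
  have hkn : k ≤ n := le_trans (Nat.le_mul_of_pos_right k q.succ_pos) (Nat.le_add_left _ _)
  refine ⟨x, m - k, fun i => ?_⟩
  have hgJ : g i ^ m ∈ J ^ m := Ideal.pow_mem_pow (Ideal.subset_span (Set.mem_range_self i)) _
  have key := congrArg (fun t : LC.pObj J m ⟶ M => t.hom ⟨g i ^ m, hgJ⟩) hx
  have key' : g i ^ m • x - c • φ ⟨g i ^ m, hle (Ideal.pow_le_pow_right hm hgJ)⟩ = 0 := key
  rw [sub_eq_zero] at key'
  have hsplit : (⟨g i ^ m, hle (Ideal.pow_le_pow_right hm hgJ)⟩ : ↥(I ^ (q + 1))) =
      g i ^ (m - k * (q + 1)) • ⟨(g i ^ k) ^ (q + 1),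
        Ideal.pow_mem_pow (Ideal.subset_span (Set.mem_range_self i)) _⟩ := by
    refine Subtype.ext ?_
    show g i ^ m = g i ^ (m - k * (q + 1)) * (g i ^ k) ^ (q + 1)
    rw [← pow_mul, ← pow_add, Nat.sub_add_cancel ((Nat.le_add_left _ _).trans hm)]
  rw [hsplit, map_smul, hφ] at key'
  rw [show k + (m - k) = m by omega, key', smul_smul, smul_smul, smul_smul]
  congr 1
  rw [← pow_mul, show g i ^ (m - k) = g i ^ (m - k * (q + 1)) * g i ^ (k * q) by
    rw [← pow_add]; congr 1
    have := (Nat.le_add_left (k * (q + 1)) (N * (q + 1))).trans hm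
    rw [Nat.mul_succ] at this ⊢
    omega]
  ring

theorem h1Killed_of_H (g : ι → R) {J : Ideal R} (hJ : Ideal.span (Set.range g) = J)
    (M : ModuleCat.{u} R) (c : R) (hc : ∀ z : (localCohomology J 2).obj M, c • z = 0) :
    H1Killed g M c := by
  haveI := ‹IsNoetherianRing R›
  let E : ModuleCat.{u} R := Injective.under M
  let i₀ : M ⟶ E := Injective.ι M
  let S : ShortComplex (ModuleCat.{u} R) := ShortComplex.mk i₀ (cokernel.π i₀) (cokernel.condition i₀)
  haveI : Mono S.f := inferInstanceAs (Mono i₀)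
  haveI : Epi S.g := inferInstanceAs (Epi (cokernel.π i₀))
  have hS : S.ShortExact := { exact := ShortComplex.exact_cokernel i₀ }
  haveI : Injective (ModuleCat.of R E) := Injective.injective_under M
  haveI : Module.Injective R E := Module.injective_module_of_injective_object R E
  haveI : Subsingleton ((localCohomology J 1).obj S.X₂) := LC.subsingleton_of_injective J E 0
  have hinj : Function.Injective (LC.δH J 1 hS 2 rfl) := by
    rw [injective_iff_map_eq_zero]
    intro z hz
    obtain ⟨w, rfl⟩ := (LC.exact₃ J 1 hS 2 rfl z).1 hz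
    rw [Subsingleton.elim w 0, map_zero]
  refine h1Killed_of_quotient g i₀.hom S.g.hom ((ModuleCat.mono_iff_injective _).1 ‹Mono S.f›)
    ((ModuleCat.epi_iff_surjective _).1 ‹Epi S.g›)
    ((ShortComplex.ShortExact.moduleCat_exact_iff_function_exact S).1 hS.exact) (h1Killed_of_injective g)
    (h0Killed_of_H g hJ S.X₃ c fun z => hinj ?_)
  rw [map_smul, map_zero]
  exact hc _

/-- Depth at least three kills both. -/
theorem killed_of_depth [IsLocalRing R] (g : ι → R)
    (hg : Ideal.span (Set.range g) = IsLocalRing.maximalIdeal R)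
    (M : Type u) [AddCommGroup M] [Module R M] [Module.Finite R M]
    (h : (3 : ℕ∞) ≤ LocCoh.depth R M) : H0Killed g M 1 ∧ H1Killed g M 1 := by
  have hs := (LC.le_idealDepth_iff_H (IsLocalRing.maximalIdeal R) M 3).1 h
  haveI := hs 1 (by norm_num)
  haveI := hs 2 (by norm_num)
  exact ⟨h0Killed_of_H g hg (ModuleCat.of R M) 1 fun z => Subsingleton.elim _ _,
    h1Killed_of_H g hg (ModuleCat.of R M) 1 fun z => Subsingleton.elim _ _⟩

/-- Generators of the maximal ideal. -/
theorem exists_gens (J : Ideal R) : ∃ (n : ℕ) (g : Fin n → R), Ideal.span (Set.range g) = J :=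
  Submodule.fg_iff_exists_fin_generating_family.1 (IsNoetherian.noetherian J)

end Groth.Agent.PurX
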