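import Groth.Agent.PurX.Cech
import Mathlib.RingTheory.Flat.EquationalCriterion
import Mathlib.Algebra.Module.FinitePresentation
import Mathlib.RingTheory.Localization.Finiteness
import Mathlib.Algebra.Module.Projective
import Mathlib.RingTheory.TensorProduct.Finite
import Mathlib.RingTheory.TensorProduct.IsBaseChangePi

/-!
# Transfer of the killing predicates
-/

set_option autoImplicit false
set_option linter.style.haveILetI false

universe u v

namespace Groth.Agent.PurX

variable {R : Type u} [CommRing R] {ι : Type}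

theorem H0Killed.restrictScalars {S : Type v} [CommRing S] [Algebra R S] {M : Type v} [AddCommGroup M]
    [Module R M] [Module S M] [IsScalarTower R S M] {g : ι → R} {c : R} :
    H0Killed g M c ↔ H0Killed (algebraMap R S ∘ g) M (algebraMap R S c) := by
  simp only [H0Killed, Compat, Function.comp_apply, ← map_pow, IsScalarTower.algebraMap_smul]

theorem H1Killed.restrictScalars {S : Type v} [CommRing S] [Algebra R S] {M : Type v} [AddCommGroup M]
    [Module R M] [Module S M] [IsScalarTower R S M] {g : ι → R} {c : R} :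
    H1Killed g M c ↔ H1Killed (algebraMap R S ∘ g) M (algebraMap R S c) := by
  simp only [H1Killed, Function.comp_apply, ← map_pow, ← map_mul, IsScalarTower.algebraMap_smul]

section Quotient

variable {M : Type v} [AddCommGroup M] [Module R M] (K : Submodule R M) {c c₀ : R} {g : ι → R}

theorem H0Killed.quotient (hK : ∀ x ∈ K, c₀ • x = 0) (h : H0Killed g M c) :
    H0Killed g (M ⧸ K) (c * c₀) := by
  intro k y hy
  choose z hz using fun i => Submodule.Quotient.mk_surjective K (y i)
  have hc : Compat (fun i => g i ^ k) fun i => c₀ • z i := by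
    intro i j
    have : g j ^ k • z i - g i ^ k • z j ∈ K := by
      rw [← Submodule.Quotient.mk_eq_zero]
      simp only [Submodule.Quotient.mk_sub, Submodule.Quotient.mk_smul, hz]
      exact sub_eq_zero.2 (hy i j)
    have h0 := hK _ this
    rw [smul_sub, sub_eq_zero] at h0
    rw [smul_comm _ c₀, smul_comm _ c₀, h0]
  obtain ⟨x, p, hx⟩ := h k _ hc
  refine ⟨Submodule.Quotient.mk x, p, fun i => ?_⟩
  rw [← hz, ← Submodule.Quotient.mk_smul, ← Submodule.Quotient.mk_smul, ← Submodule.Quotient.mk_smul, mul_smul, hx]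

theorem H1Killed.quotient (hK : ∀ x ∈ K, c₀ • x = 0) (h : H1Killed g M c) :
    H1Killed g (M ⧸ K) (c * c₀) := by
  intro k a ha
  choose z hz using fun i j => Submodule.Quotient.mk_surjective K (a i j)
  have hc : ∀ i j l, g l ^ k • c₀ • z i j + g i ^ k • c₀ • z j l = g j ^ k • c₀ • z i l := by
    intro i j l
    have : g l ^ k • z i j + g i ^ k • z j l - g j ^ k • z i l ∈ K := by
      rw [← Submodule.Quotient.mk_eq_zero]
      simp only [Submodule.Quotient.mk_sub, Submodule.Quotient.mk_add, Submodule.Quotient.mk_smul, hz]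
      exact sub_eq_zero.2 (ha i j l)
    have h0 := hK _ this
    rw [smul_sub, smul_add, sub_eq_zero] at h0
    rw [smul_comm _ c₀, smul_comm _ c₀, smul_comm _ c₀, h0]
  obtain ⟨p, w, hw⟩ := h k _ hc
  refine ⟨p, fun i => Submodule.Quotient.mk (w i), fun i j => ?_⟩
  rw [← hz, ← Submodule.Quotient.mk_smul, ← Submodule.Quotient.mk_smul, ← Submodule.Quotient.mk_smul,
    ← Submodule.Quotient.mk_smul, ← Submodule.Quotient.mk_sub, mul_smul, hw]

end Quotient

/-- `M` is, locally on the `D(g i)`, a direct summand of a free module of finite rank. -/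
def Split (g : ι → R) (M : Type v) [AddCommGroup M] [Module R M] : Prop :=
  ∀ i, ∃ (r m : ℕ) (α : M →ₗ[R] Fin r → R) (β : (Fin r → R) →ₗ[R] M), ∀ d, β (α d) = g i ^ m • d

section Split

variable [Fintype ι] {M : Type v} [AddCommGroup M] [Module R M] {g : ι → R} {f c : R}

theorem exists_sum_pow (hf : f ∈ (Ideal.span (Set.range g)).radical) (m : ι → ℕ) :
    ∃ (t : ℕ) (s : ι → R), ∑ i, s i * g i ^ m i = f ^ t := by
  classical
  let I := Ideal.span (Set.range fun i => g i ^ m i)
  have hle : Ideal.span (Set.range g) ≤ I.radical := by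
    refine Ideal.span_le.2 ?_
    rintro _ ⟨i, rfl⟩
    exact ⟨m i, Ideal.subset_span (Set.mem_range_self i)⟩
  obtain ⟨t, ht⟩ := (Ideal.radical_mono hle).trans (Ideal.radical_idem I).le hf
  obtain ⟨s, hs⟩ := Ideal.mem_span_range_iff_exists_fun.1 ht
  exact ⟨t, s, hs⟩

theorem Split.h0Killed (hM : Split g M) (hf : f ∈ (Ideal.span (Set.range g)).radical)
    (h : H0Killed g R c) : ∃ t : ℕ, H0Killed g M (f ^ t * c) := by
  classical
  choose r m α β hαβ using hM
  obtain ⟨t, s, hs⟩ := exists_sum_pow hf m
  refine ⟨t, fun k y hy => ?_⟩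
  have hl : ∀ l, ∃ (x : M) (p : ℕ), ∀ i, g i ^ p • c • g l ^ m l • y i = g i ^ (k + p) • x := by
    intro l
    have hq : ∀ q, ∃ (x : R) (p : ℕ), ∀ i, g i ^ p • c • α l (y i) q = g i ^ (k + p) • x := fun q =>
      h k _ fun i j => by
        have := congrArg (fun v => α l v q) (hy i j)
        simpa [map_smul] using this
    choose x p hx using hq
    let P := ∑ q, p q
    refine ⟨β l (fun q => x q), P, fun i => ?_⟩
    rw [← hαβ l (y i), ← map_smul (β l), ← map_smul (β l), ← map_smul (β l)]
    congr 1
    funext q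
    obtain ⟨d, hd⟩ := Nat.exists_eq_add_of_le (Finset.single_le_sum (f := p) (fun _ _ => Nat.zero_le _) (Finset.mem_univ q))
    have := congrArg (fun v => g i ^ d * v) (hx q i)
    simp only [smul_eq_mul, Pi.smul_apply] at this ⊢
    simp only [P, hd]
    linear_combination this
  choose x p hx using hl
  refine ⟨∑ l, s l • x l, ∑ l, p l, fun i => ?_⟩
  rw [← hs, Finset.sum_mul, Finset.sum_smul, Finset.smul_sum, Finset.smul_sum]
  refine Finset.sum_congr rfl fun l _ => ?_
  obtain ⟨d, hd⟩ := Nat.exists_eq_add_of_le (Finset.single_le_sum (f := p) (fun _ _ => Nat.zero_le _) (Finset.mem_univ l))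
  have := congrArg (fun v => (s l * g i ^ d) • v) (hx l i)
  simp only [smul_smul] at this ⊢
  rw [hd, show g i ^ (p l + d) * (s l * g l ^ m l * c) = s l * g i ^ d * (g i ^ p l * (c * g l ^ m l)) by ring, this]
  congr 1
  ring

theorem Split.h1Killed (hM : Split g M) (hf : f ∈ (Ideal.span (Set.range g)).radical)
    (h : H1Killed g R c) : ∃ t : ℕ, H1Killed g M (f ^ t * c) := by
  classical
  choose r m α β hαβ using hM
  obtain ⟨t, s, hs⟩ := exists_sum_pow hf m
  refine ⟨t, fun k a ha => ?_⟩
  have hl : ∀ l, ∃ (p : ℕ) (w : ι → M), ∀ i j,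
      (g i * g j) ^ p • c • g l ^ m l • a i j = g j ^ (k + p) • w i - g i ^ (k + p) • w j := by
    intro l
    have hq : ∀ q, ∃ (p : ℕ) (w : ι → R), ∀ i j,
        (g i * g j) ^ p • c • α l (a i j) q = g j ^ (k + p) • w i - g i ^ (k + p) • w j := fun q =>
      h k _ fun i j o => by
        have := congrArg (fun v => α l v q) (ha i j o)
        simpa [map_smul] using this
    choose p w hw using hq
    let P := ∑ q, p q
    refine ⟨P, fun i => β l (fun q => g i ^ (P - p q) * w q i), fun i j => ?_⟩
    beta_reduce
    rw [← hαβ l (a i j), ← map_smul (β l), ← map_smul (β l), ← map_smul (β l), ← map_smul (β l), ← map_sub (β l)]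
    congr 1
    funext q
    obtain ⟨d, hd⟩ := Nat.exists_eq_add_of_le (Finset.single_le_sum (f := p) (fun _ _ => Nat.zero_le _) (Finset.mem_univ q))
    have := congrArg (fun v => (g i * g j) ^ d * v) (hw q i j)
    simp only [smul_eq_mul, Pi.smul_apply, Pi.sub_apply] at this ⊢
    simp only [P, hd, Nat.add_sub_cancel_left]
    linear_combination this
  choose p w hw using hl
  refine ⟨∑ l, p l, fun i => ∑ l, (s l * g i ^ ((∑ l, p l) - p l)) • w l i, fun i j => ?_⟩
  rw [← hs, Finset.sum_mul, Finset.sum_smul, Finset.smul_sum, Finset.smul_sum, Finset.smul_sum, ← Finset.sum_sub_distrib]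
  refine Finset.sum_congr rfl fun l _ => ?_
  obtain ⟨d, hd⟩ := Nat.exists_eq_add_of_le (Finset.single_le_sum (f := p) (fun _ _ => Nat.zero_le _) (Finset.mem_univ l))
  have := congrArg (fun v => (s l * (g i * g j) ^ d) • v) (hw l i j)
  simp only [smul_smul, smul_sub] at this ⊢
  rw [hd, Nat.add_sub_cancel_left,
    show (g i * g j) ^ (p l + d) * (s l * g l ^ m l * c) = s l * (g i * g j) ^ d * ((g i * g j) ^ p l * (c * g l ^ m l)) by ring,
    this]
  congr 2 <;> ring

omit [Fintype ι] in
/-- Regularity transfers to split modules, up to torsion. -/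
theorem Split.regular (hM : Split g M) (hf : ∀ x : R, f * x = 0 → x = 0) {z : M} (hz : f • z = 0) (i : ι) :
    ∃ p : ℕ, g i ^ p • z = 0 := by
  obtain ⟨r, m, α, β, h⟩ := hM i
  have : α z = 0 := funext fun q => hf _ (by simpa using congrFun (congrArg α hz) q)
  exact ⟨m, by rw [← h z, this, map_zero]⟩

end Split

/-- A finitely presented module, projective on the `D(g i)`, is split there. -/
theorem split_of_projective {M : Type u} [AddCommGroup M] [Module R M] [Module.FinitePresentation R M]
    {g : ι → R}
    (h : ∀ i, Module.Projective (Localization.Away (g i)) (LocalizedModule (Submonoid.powers (g i)) M)) :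
    Split g M := by
  intro i
  classical
  let S := Submonoid.powers (g i)
  haveI := h i
  obtain ⟨r, π, hπ⟩ := Module.Finite.exists_fin' R M
  let πL : (Fin r → Localization.Away (g i)) →ₗ[Localization.Away (g i)] LocalizedModule S M :=
    Fintype.linearCombination (Localization.Away (g i)) fun q => LocalizedModule.mkLinearMap S M (π (Pi.single q 1))
  have key : ∀ v : Fin r → R, πL (fun q => algebraMap R _ (v q)) = LocalizedModule.mkLinearMap S M (π v) := by
    intro v
    have hv : v = ∑ q, v q • (Pi.single q 1 : Fin r → R) := by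
      funext j
      simp [Finset.sum_apply, Pi.single_apply]
    conv_rhs => rw [hv]
    simp only [πL, Fintype.linearCombination_apply, map_sum, map_smul, algebraMap_smul]
  have hsur : Function.Surjective πL := by
    intro z
    induction z using LocalizedModule.induction_on with
    | h m s =>
      obtain ⟨v, rfl⟩ := hπ m
      obtain ⟨e, he⟩ := IsLocalization.map_units (Localization.Away (g i)) s
      refine ⟨(↑e⁻¹ : Localization.Away (g i)) • fun q => algebraMap R _ (v q), ?_⟩
      rw [map_smul, key, LocalizedModule.mkLinearMap_apply]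
      have hs : (s : R) • LocalizedModule.mk (π v) s = LocalizedModule.mk (π v) (1 : S) := by
        rw [LocalizedModule.smul'_mk, ← Submonoid.smul_def, LocalizedModule.mk_cancel]
      rw [← hs, ← algebraMap_smul (Localization.Away (g i)) (s : R), smul_smul, ← he, Units.inv_mul, one_smul]
  obtain ⟨σ, hσ⟩ := Module.projective_lifting_property πL LinearMap.id hsur
  let ι' : (Fin r → R) →ₗ[R] (Fin r → Localization.Away (g i)) :=
    LinearMap.pi fun q => (Algebra.linearMap R (Localization.Away (g i))).comp (LinearMap.proj q)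
  haveI : IsLocalizedModule S (Algebra.linearMap R (Localization.Away (g i))) := inferInstance
  haveI : IsLocalizedModule S ι' := IsLocalizedModule.pi S (fun _ : Fin r => Algebra.linearMap R (Localization.Away (g i)))
  obtain ⟨α, ⟨_, m, rfl⟩, hα⟩ := Module.FinitePresentation.exists_lift_of_isLocalizedModule S ι'
    ((σ.restrictScalars R).comp (LocalizedModule.mkLinearMap S M))
  simp only at hα
  have hz : (LocalizedModule.mkLinearMap S M).comp (π ∘ₗ α) =
      g i ^ m • (LocalizedModule.mkLinearMap S M) := by
    refine LinearMap.ext fun d => ?_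
    have h1 : πL (ι' (α d)) = LocalizedModule.mkLinearMap S M (π (α d)) := key (α d)
    have h2 := LinearMap.congr_fun hα d
    simp only [LinearMap.comp_apply, LinearMap.smul_apply, LinearMap.restrictScalars_apply] at h2 ⊢
    rw [← h1, h2, Submonoid.smul_def, LinearMap.map_smul_of_tower]
    exact congrArg _ (LinearMap.congr_fun hσ _)
  obtain ⟨q, s, hs⟩ := (Submodule.fg_iff_exists_fin_generating_family).1 (Module.Finite.fg_top : (⊤ : Submodule R M).FG)
  have hn : ∀ t, ∃ n : ℕ, g i ^ n • (π (α (s t)) - g i ^ m • s t) = 0 := fun t => by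
    have e := LinearMap.congr_fun hz (s t)
    simp only [LinearMap.comp_apply, LinearMap.smul_apply] at e
    rw [← map_smul] at e
    obtain ⟨⟨_, n, rfl⟩, hn⟩ := (IsLocalizedModule.eq_iff_exists S (LocalizedModule.mkLinearMap S M)).1 e
    exact ⟨n, by rw [smul_sub]; exact sub_eq_zero.2 hn⟩
  choose n hn using hn
  refine ⟨r, (∑ t, n t) + m, g i ^ (∑ t, n t) • α, π, fun d => ?_⟩
  have : (g i ^ (∑ t, n t)) • (π ∘ₗ α) = g i ^ ((∑ t, n t) + m) • LinearMap.id := by
    refine LinearMap.ext_on hs ?_
    rintro _ ⟨t, rfl⟩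
    obtain ⟨e, he⟩ := Nat.exists_eq_add_of_le (Finset.single_le_sum (f := n) (fun _ _ => Nat.zero_le _) (Finset.mem_univ t))
    have h0 := congrArg (fun v => g i ^ e • v) (hn t)
    simp only [smul_sub, smul_smul, smul_zero, sub_eq_zero] at h0
    simp only [LinearMap.smul_apply, LinearMap.comp_apply, LinearMap.id_apply]
    rw [he, add_comm (n t) e, pow_add, h0, ← pow_add, ← pow_add, add_assoc]
  simpa using LinearMap.congr_fun this d

section Flat

variable [Fintype ι] {S : Type u} [CommRing S] [Algebra R S] [Module.Flat R S]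

/-- Homogeneous linear equations: solutions in a flat algebra are combinations of solutions. -/
theorem exists_combination {κ σ : Type} [Finite κ] [Fintype σ] (L : κ → σ → R) (x : σ → S)
    (hx : ∀ e, ∑ s, L e s • x s = 0) :
    ∃ (q : ℕ) (sol : Fin q → σ → R) (d : Fin q → S),
      (∀ t e, ∑ s, L e s * sol t s = 0) ∧ ∀ s, x s = ∑ t, sol t s • d t := by
  classical
  haveI := Fintype.ofFinite κ
  let F : (κ → R) →ₗ[R] (σ → R) := Fintype.linearCombination R L
  let X : (σ → R) →ₗ[R] S := Fintype.linearCombination R x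
  have hXF : X ∘ₗ F = 0 := LinearMap.pi_ext' fun e => LinearMap.ext_ring <| by
    simpa [F, X, Fintype.linearCombination_apply] using hx e
  obtain ⟨q, a, y, hxy, haF⟩ := Module.Flat.exists_factorization_of_comp_eq_zero_of_free hXF
  refine ⟨q, fun t s => a (Pi.single s 1) t, fun t => y (Finsupp.single t 1), fun t e => ?_, fun s => ?_⟩
  · have h1 : a (L e) = 0 := by simpa [F] using LinearMap.congr_fun haF (Pi.single e 1)
    have h2 : L e = ∑ s, L e s • (Pi.single s (1 : R) : σ → R) := by
      funext s'
      simp [Pi.single_apply]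
    rw [h2, map_sum] at h1
    simpa using congrArg (fun v => v t) h1
  · have := LinearMap.congr_fun hxy (Pi.single s 1)
    simp only [X, Fintype.linearCombination_apply_single, one_smul, LinearMap.comp_apply] at this
    rw [this]
    conv_lhs => rw [← Finsupp.univ_sum_single (a (Pi.single s 1)), map_sum]
    refine Finset.sum_congr rfl fun t _ => ?_
    rw [← map_smul]
    simp

/-- Sections over a flat algebra are combinations of sections. -/
theorem exists_compat_combination (h : ι → R) (y : ι → S) (hy : Compat h y) :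
    ∃ (q : ℕ) (sol : Fin q → ι → R) (d : Fin q → S),
      (∀ t, Compat h (sol t)) ∧ ∀ i, y i = ∑ t, sol t i • d t := by
  classical
  obtain ⟨q, sol, d, hsol, hd⟩ := exists_combination (κ := ι × ι)
    (fun e s => (if s = e.1 then h e.2 else 0) - (if s = e.2 then h e.1 else 0)) y fun e => by
      simp [sub_smul, ite_smul, hy e.1 e.2]
  refine ⟨q, sol, d, fun t i j => ?_, hd⟩
  have := hsol t (i, j)
  simpa [sub_mul, ite_mul, sub_eq_zero] using this

theorem H0Killed.of_flat {g : ι → R} {c : R} (h : H0Killed g R c) : H0Killed g S c := by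
  intro k y hy
  obtain ⟨q, sol, d, hsol, hd⟩ := exists_compat_combination _ y hy
  choose x p hx using fun t => h k (sol t) (hsol t)
  refine ⟨∑ t, x t • d t, ∑ t, p t, fun i => ?_⟩
  rw [hd, Finset.smul_sum, Finset.smul_sum, Finset.smul_sum]
  refine Finset.sum_congr rfl fun t _ => ?_
  obtain ⟨e, he⟩ := Nat.exists_eq_add_of_le (Finset.single_le_sum (f := p) (fun _ _ => Nat.zero_le _) (Finset.mem_univ t))
  have := congrArg (fun v => g i ^ e * v) (hx t i)
  simp only [smul_eq_mul] at this
  rw [smul_smul, smul_smul, smul_smul]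
  congr 1
  rw [he]
  linear_combination this

theorem H1Killed.of_flat {g : ι → R} {c : R} (h : H1Killed g R c) : H1Killed g S c := by
  classical
  intro k a ha
  obtain ⟨q, sol, d, hsol, hd⟩ := exists_combination (κ := ι × ι × ι) (σ := ι × ι)
    (fun e s => (if s = (e.1, e.2.1) then g e.2.2 ^ k else 0) + (if s = (e.2.1, e.2.2) then g e.1 ^ k else 0)
      - (if s = (e.1, e.2.2) then g e.2.1 ^ k else 0)) (fun s => a s.1 s.2) fun e => by
        simp [sub_smul, add_smul, ite_smul, Finset.sum_add_distrib, ha e.1 e.2.1 e.2.2]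
  choose p w hw using fun t => h k (fun i j => sol t (i, j)) fun i j l => by
    have := hsol t (i, j, l)
    simpa [sub_mul, add_mul, ite_mul, Finset.sum_add_distrib, sub_eq_zero] using this
  refine ⟨∑ t, p t, fun i => ∑ t, (g i ^ ((∑ t, p t) - p t) * w t i) • d t, fun i j => ?_⟩
  rw [show a i j = ∑ t, sol t (i, j) • d t from hd (i, j), Finset.smul_sum, Finset.smul_sum,
    Finset.smul_sum, Finset.smul_sum, ← Finset.sum_sub_distrib]
  refine Finset.sum_congr rfl fun t _ => ?_
  obtain ⟨e, he⟩ := Nat.exists_eq_add_of_le (Finset.single_le_sum (f := p) (fun _ _ => Nat.zero_le _) (Finset.mem_univ t))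
  have := congrArg (fun v => (g i * g j) ^ e * v) (hw t i j)
  simp only [smul_eq_mul] at this
  rw [smul_smul, smul_smul, smul_smul, smul_smul, ← sub_smul]
  congr 1
  rw [he, Nat.add_sub_cancel_left]
  linear_combination this

end Flat

end Groth.Agent.PurX
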