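import Groth.Agent.PurX.CechTrans
import Groth.Agent.Adic7.Basic
import Mathlib.RingTheory.AdicCompletion.Basic

/-!
# Clopen subsets lift from a hypersurface of the punctured spectrum of an adically complete ring
-/

set_option autoImplicit false
set_option linter.style.haveILetI false

universe u

open PrimeSpectrum

namespace Groth.Agent.PurX

variable {D : Type u} [CommRing D] {ι : Type}

/-- Two idempotents with the same clopen set agree up to powers. -/
theorem exists_pow_sub_eq_zero (g : ι → D) {k k' : ℕ} (hk : 0 < k) (hk' : 0 < k') {y y' : ι → D}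
    (hy : IsIdem (fun i => g i ^ k) y) (hy' : IsIdem (fun i => g i ^ k') y')
    (hcl : cl (fun i => g i ^ k) y = cl (fun i => g i ^ k') y') (i : ι) :
    ∃ p : ℕ, g i ^ p * (g i ^ k' * y i - g i ^ k * y' i) = 0 := by
  obtain ⟨p, hp⟩ := exists_pow_mul_eq_zero (H := g i ^ k * g i ^ k') (d := g i ^ k' * y i - g i ^ k * y' i)
    (cube_sub (by linear_combination (g i ^ k') ^ 2 * hy.idem i) (by linear_combination (g i ^ k) ^ 2 * hy'.idem i))
    fun q hq => by
      have h1 : g i ^ k ∉ q.asIdeal := fun hm => hq (Ideal.mul_mem_right _ _ hm)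
      have h2 : g i ^ k' ∉ q.asIdeal := fun hm => hq (Ideal.mul_mem_left _ _ hm)
      have hiff : y i ∈ q.asIdeal ↔ y' i ∈ q.asIdeal := by
        rw [← not_iff_not, ← hy.mem_cl_iff h1, ← hy'.mem_cl_iff h2, hcl]
      by_cases hm : y i ∈ q.asIdeal
      · exact sub_mem (Ideal.mul_mem_left _ _ hm) (Ideal.mul_mem_left _ _ (hiff.1 hm))
      · have e1 : y i - g i ^ k ∈ q.asIdeal :=
          (q.isPrime.mem_or_mem (show y i * (y i - g i ^ k) ∈ q.asIdeal by
            rw [show y i * (y i - g i ^ k) = 0 by linear_combination hy.idem i]; exact zero_mem _)).resolve_left hm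
        have e2 : y' i - g i ^ k' ∈ q.asIdeal :=
          (q.isPrime.mem_or_mem (show y' i * (y' i - g i ^ k') ∈ q.asIdeal by
            rw [show y' i * (y' i - g i ^ k') = 0 by linear_combination hy'.idem i]; exact zero_mem _)).resolve_left
            fun h => hm (hiff.2 h)
        have := sub_mem (Ideal.mul_mem_left _ (g i ^ k') e1) (Ideal.mul_mem_left _ (g i ^ k) e2)
        convert this using 1
        ring
  exact ⟨(k + k') * p, by rw [pow_mul, pow_add]; exact hp⟩

variable [Fintype ι] {g : ι → D} {f : D} {n : ℕ}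

section Regular

variable (htors : ∀ z : D, (∀ i, ∃ p, g i ^ p * z = 0) → z = 0) (hreg : ∀ z : D, f * z = 0 → z = 0)

include hreg in
theorem pow_regular {z : D} : ∀ {m : ℕ}, f ^ m * z = 0 → z = 0
  | 0, h => by simpa using h
  | m + 1, h => pow_regular (m := m) (hreg _ (by rw [← mul_assoc, ← pow_succ']; exact h))

include htors hreg in
theorem mem_of_locally (h0 : H0Killed g D (f ^ n)) {m : ℕ} (hm : n ≤ m) {z : D}
    (hz : ∀ i, ∃ p, g i ^ p * z ∈ Ideal.span {f ^ m}) : z ∈ Ideal.span {f ^ (m - n)} := by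
  choose p hp using hz
  choose w hw using fun i => Ideal.mem_span_singleton'.1 (Ideal.mul_mem_left _ (g i ^ ((∑ j, p j) - p i)) (hp i))
  have hw' : ∀ i, w i * f ^ m = g i ^ (∑ j, p j) * z := fun i => by
    rw [hw, ← mul_assoc, ← pow_add, Nat.sub_add_cancel (Finset.single_le_sum (fun _ _ => Nat.zero_le _) (Finset.mem_univ i))]
  have hc : Compat (fun i => g i ^ (∑ j, p j)) w := fun i j => by
    simp only [smul_eq_mul]
    rw [← sub_eq_zero]
    refine pow_regular hreg (m := m) ?_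
    linear_combination g j ^ (∑ j, p j) * hw' i - g i ^ (∑ j, p j) * hw' j
  obtain ⟨x, q, hx⟩ := h0 _ w hc
  have hz0 : f ^ n * z - f ^ m * x = 0 := htors _ fun i => ⟨(∑ j, p j) + q, by
    have := hx i
    simp only [smul_eq_mul] at this
    linear_combination f ^ m * this - g i ^ q * f ^ n * hw' i⟩
  refine Ideal.mem_span_singleton'.2 ⟨x, ?_⟩
  refine (sub_eq_zero.1 (pow_regular hreg (m := n) ?_)).symm
  obtain ⟨d, rfl⟩ := Nat.exists_eq_add_of_le hm
  rw [Nat.add_sub_cancel_left]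
  linear_combination hz0

include htors hreg in
/-- Uniqueness. -/
theorem cl_eq_empty (hsep : IsHausdorff (Ideal.span {f}) D) (h0 : H0Killed g D (f ^ n))
    (C : Set (PrimeSpectrum D)) (hC : IsOpen C) (hC' : IsOpen (punct g \ C)) (hsub : C ⊆ punct g)
    (hCf : C ∩ zeroLocus {f} = ∅) : C = ∅ := by
  obtain ⟨k, z, hk, hz, rfl⟩ := exists_isIdem g C hC hC' hsub
  have hzero : ∀ i, ∃ p, g i ^ p * z i ∈ Ideal.span {f} := by
    intro i
    let π := Ideal.Quotient.mk (Ideal.span {f})
    have hcube : π (z i) ^ 3 = (π (g i ^ k)) ^ 2 * π (z i) := by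
      rw [← map_pow, ← map_pow, ← map_mul]
      congr 1
      linear_combination (z i + g i ^ k) * hz.idem i
    obtain ⟨p, hp⟩ := exists_pow_mul_eq_zero hcube fun q hq => by
      by_contra hzq
      have : comap π q ∈ cl (fun i => g i ^ k) z ∩ zeroLocus {f} := ⟨⟨i, hq, hzq⟩, by
        simp only [mem_zeroLocus, Set.singleton_subset_iff, SetLike.mem_coe]
        show π f ∈ q.asIdeal
        rw [Ideal.Quotient.eq_zero_iff_mem.2 (Ideal.mem_span_singleton_self _)]
        exact zero_mem _⟩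
      rw [hCf] at this
      exact this
    refine ⟨k * p, ?_⟩
    rw [← Ideal.Quotient.eq_zero_iff_mem]
    show π (g i ^ (k * p) * z i) = 0
    rw [map_mul, pow_mul, map_pow, hp]
  choose p hp using hzero
  let P := ∑ i, p i
  have hz' : ∀ i, g i ^ P * z i = 0 := by
    intro i
    choose w hw using fun j => Ideal.mem_span_singleton'.1 (Ideal.mul_mem_left _ (g j ^ (P - p j)) (hp j))
    have hw' : ∀ j, w j * f = g j ^ P * z j := fun j => by
      rw [hw, ← mul_assoc, ← pow_add, Nat.sub_add_cancel (Finset.single_le_sum (fun _ _ => Nat.zero_le _) (Finset.mem_univ j))]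
    have hpow : ∀ (m : ℕ) (j : ι), (g j ^ (k + P)) ^ m * (g j ^ P * z j) = (g j ^ P * z j) ^ (m + 1) := by
      intro m j
      induction m with
      | zero => simp
      | succ m ih =>
        calc (g j ^ (k + P)) ^ (m + 1) * (g j ^ P * z j)
            = g j ^ (k + P) * ((g j ^ (k + P)) ^ m * (g j ^ P * z j)) := by ring
          _ = g j ^ (k + P) * (g j ^ P * z j) ^ (m + 1) := by rw [ih]
          _ = (g j ^ P * z j) ^ m * ((g j ^ P) ^ 2 * (g j ^ k * z j)) := by ring
          _ = (g j ^ P * z j) ^ (m + 1 + 1) := by rw [← hz.idem j]; ring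
    have hall : ∀ m, g i ^ P * z i ∈ Ideal.span {f ^ m} := fun m => by
      have := mem_of_locally htors hreg h0 (m := m + n) (Nat.le_add_left _ _) (z := g i ^ P * z i) fun j =>
        ⟨k + (k + P) * (m + n) + P, by
          have e : g j ^ k * z i = g i ^ k * z j := hz.compat i j
          rw [show g j ^ (k + (k + P) * (m + n) + P) * (g i ^ P * z i) =
            g i ^ P * (g j ^ (k + P)) ^ (m + n) * (g j ^ P * (g j ^ k * z i)) by ring, e,
            show g i ^ P * (g j ^ (k + P)) ^ (m + n) * (g j ^ P * (g i ^ k * z j)) =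
            g i ^ (k + P) * ((g j ^ (k + P)) ^ (m + n) * (g j ^ P * z j)) by ring, hpow, ← hw' j, mul_pow]
          exact Ideal.mem_span_singleton'.2 ⟨g i ^ (k + P) * w j ^ (m + n + 1) * f, by ring⟩⟩
      rwa [Nat.add_sub_cancel] at this
    refine hsep.haus' _ fun m => ?_
    rw [SModEq.zero, smul_eq_mul, Ideal.mul_top, Ideal.span_singleton_pow]
    exact hall m
  refine Set.eq_empty_iff_forall_notMem.2 ?_
  rintro q ⟨i, hi, hzi⟩
  refine hzi ((q.isPrime.mem_or_mem (show g i ^ P * z i ∈ q.asIdeal by rw [hz' i]; exact zero_mem _)).resolve_left ?_)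
  exact fun hm => hi (Ideal.pow_mem_of_mem _ (q.isPrime.mem_of_pow_mem _ hm) k hk)

/-- Approximations of `f ^ n` times the idempotent. -/
def Approx (g : ι → D) (f : D) (n : ℕ) (O : Set (PrimeSpectrum D)) (m : ℕ) (d : D) : Prop :=
  ∃ (k : ℕ) (y : ι → D), 0 < k ∧
    IsIdem (fun i => Ideal.Quotient.mk (Ideal.span {f ^ m}) (g i) ^ k) (Ideal.Quotient.mk (Ideal.span {f ^ m}) ∘ y) ∧
    cl (fun i => Ideal.Quotient.mk (Ideal.span {f ^ m}) (g i) ^ k) (Ideal.Quotient.mk (Ideal.span {f ^ m}) ∘ y) =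
      comap (Ideal.Quotient.mk (Ideal.span {f ^ m})) ⁻¹' O ∧
    ∀ i, ∃ p, g i ^ p * (g i ^ k * d - f ^ n * y i) ∈ Ideal.span {f ^ m}

theorem Approx.mono {O : Set (PrimeSpectrum D)} {m m' : ℕ} (h : m ≤ m') {d : D} (hd : Approx g f n O m' d) :
    Approx g f n O m d := by
  obtain ⟨k, y, hk, hy, hcl, hd⟩ := hd
  have hle : Ideal.span {f ^ m'} ≤ Ideal.span {f ^ m} :=
    Ideal.span_singleton_le_span_singleton.2 (pow_dvd_pow f h)
  let ρ := Ideal.Quotient.factor hle
  refine ⟨k, y, hk, ⟨fun i j => ?_, fun i => ?_⟩, ?_, fun i => (hd i).imp fun _ hp => hle hp⟩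
  · have := congrArg ρ (hy.compat i j)
    simp only [smul_eq_mul, map_mul, map_pow, Function.comp_apply, ρ, Ideal.Quotient.factor_mk] at this
    exact this
  · have := congrArg ρ (hy.idem i)
    simp only [map_mul, map_pow, Function.comp_apply, ρ, Ideal.Quotient.factor_mk] at this
    exact this
  · have h1 := congrArg (fun s => comap ρ ⁻¹' s) hcl
    simp only [comap_cl, ← Set.preimage_comp] at h1
    have e : ρ.comp (Ideal.Quotient.mk (Ideal.span {f ^ m'})) = Ideal.Quotient.mk (Ideal.span {f ^ m}) :=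
      Ideal.Quotient.factor_comp_mk hle
    have e2 : (comap (Ideal.Quotient.mk (Ideal.span {f ^ m'}))) ∘ (comap ρ) = comap (Ideal.Quotient.mk (Ideal.span {f ^ m})) := by
      funext q
      rw [Function.comp_apply, ← comap_comp_apply, e]
    rw [e2] at h1
    convert h1 using 2
    · funext i; simp [ρ]
    · funext i; simp [ρ]

include htors hreg in
theorem Approx.sub_mem {O : Set (PrimeSpectrum D)} (h0 : H0Killed g D (f ^ n)) {m : ℕ} (hm : n ≤ m) {d d' : D}
    (hd : Approx g f n O m d) (hd' : Approx g f n O m d') : d - d' ∈ Ideal.span {f ^ (m - n)} := by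
  obtain ⟨k, y, hk, hy, hcl, hp⟩ := hd
  obtain ⟨k', y', hk', hy', hcl', hp'⟩ := hd'
  refine mem_of_locally htors hreg h0 hm fun i => ?_
  obtain ⟨p, hp⟩ := hp i
  obtain ⟨p', hp'⟩ := hp' i
  obtain ⟨r, hr⟩ := exists_pow_sub_eq_zero _ hk hk' hy hy' (hcl.trans hcl'.symm) i
  refine ⟨p + p' + r + k + k', ?_⟩
  simp only [Function.comp_apply, ← map_pow, ← map_mul, ← map_sub, Ideal.Quotient.eq_zero_iff_mem] at hr
  have e : g i ^ (p + p' + r + k + k') * (d - d') = g i ^ (p' + r + k') * (g i ^ p * (g i ^ k * d - f ^ n * y i))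
      - g i ^ (p + r + k) * (g i ^ p' * (g i ^ k' * d' - f ^ n * y' i))
      + g i ^ (p + p') * f ^ n * (g i ^ r * (g i ^ k' * y i - g i ^ k * y' i)) := by ring
  rw [e]
  exact add_mem (Submodule.sub_mem _ (Ideal.mul_mem_left _ _ hp) (Ideal.mul_mem_left _ _ hp'))
    (Ideal.mul_mem_left _ _ hr)

include hreg in
theorem exists_approx (h0 : H0Killed g D (f ^ n)) (h1 : H1Killed g D (f ^ n)) {O : Set (PrimeSpectrum D)}
    (hO : IsOpen O) {O' : Set (PrimeSpectrum D)} (hO' : IsOpen O') (hcov : punct g ∩ zeroLocus {f} ⊆ O ∪ O')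
    (hdis : O ∩ O' ∩ punct g ∩ zeroLocus {f} = ∅) (hsub : O ⊆ punct g) (m : ℕ) : ∃ d, Approx g f n O m d := by
  rcases Nat.eq_zero_or_pos m with rfl | hm
  · refine ⟨0, 1, fun _ => 0, one_pos, ⟨fun i j => by simp, fun i => by simp⟩, ?_, fun i => ⟨0, by simp⟩⟩
    haveI : Subsingleton (D ⧸ Ideal.span {f ^ 0}) := Ideal.Quotient.subsingleton_iff.2 (by simp)
    ext q
    exact absurd (Ideal.eq_top_of_isUnit_mem _ q.asIdeal.zero_mem (isUnit_of_subsingleton _)) q.isPrime.ne_top
  let π := Ideal.Quotient.mk (Ideal.span {f ^ (m + n)})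
  have hf : ∀ q : PrimeSpectrum (D ⧸ Ideal.span {f ^ (m + n)}), comap π q ∈ zeroLocus {f} := fun q => by
    simp only [mem_zeroLocus, Set.singleton_subset_iff, SetLike.mem_coe]
    refine q.isPrime.mem_of_pow_mem (m + n) ?_
    rw [← map_pow, Ideal.Quotient.eq_zero_iff_mem.2 (Ideal.mem_span_singleton_self _)]
    exact zero_mem _
  have hdiff : punct (π ∘ g) \ comap π ⁻¹' O = punct (π ∘ g) ∩ comap π ⁻¹' O' := by
    ext q
    exact ⟨fun hq => ⟨hq.1, (hcov ⟨hq.1, hf q⟩).resolve_left hq.2⟩,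
      fun hq => ⟨hq.1, fun h => Set.eq_empty_iff_forall_notMem.1 hdis _ ⟨⟨⟨h, hq.2⟩, hq.1⟩, hf q⟩⟩⟩
  obtain ⟨k, yb, hk, hy, hcl⟩ := exists_isIdem (π ∘ g) (comap π ⁻¹' O)
    (hO.preimage (PrimeSpectrum.continuous_comap _))
    (by rw [hdiff]; exact (isOpen_punct _).inter (hO'.preimage (PrimeSpectrum.continuous_comap _)))
    (fun q hq => hsub hq)
  choose y hy' using fun i => Ideal.Quotient.mk_surjective (yb i)
  have hc : ∀ i j, ∃ a, a * f ^ (m + n) = g j ^ k * y i - g i ^ k * y j := fun i j => by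
    refine Ideal.mem_span_singleton'.1 ?_
    rw [← Ideal.Quotient.eq_zero_iff_mem]
    simp only [map_sub, map_mul, map_pow, hy']
    exact sub_eq_zero.2 (hy.compat i j)
  choose a ha using hc
  have hcoc : ∀ i j l, g l ^ k • a i j + g i ^ k • a j l = g j ^ k • a i l := fun i j l => by
    simp only [smul_eq_mul]
    rw [← sub_eq_zero]
    refine pow_regular hreg (m := m + n) ?_
    linear_combination g l ^ k * ha i j + g i ^ k * ha j l - g j ^ k * ha i l
  obtain ⟨p, w, hw⟩ := h1 k a hcoc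
  have hc' : Compat (fun i => g i ^ (k + p)) fun i => g i ^ p * y i - f ^ m * w i := fun i j => by
    have e := hw i j
    simp only [smul_eq_mul] at e ⊢
    linear_combination f ^ m * e - (g i * g j) ^ p * ha i j
  obtain ⟨d, q, hd⟩ := h0 _ _ hc'
  refine ⟨d, ?_⟩
  have hA : ∀ i, g i ^ (p + q) * (g i ^ k * d - f ^ n * y i) ∈ Ideal.span {f ^ m} := fun i => by
    refine Ideal.mem_span_singleton'.2 ⟨-(g i ^ q * f ^ n * w i), ?_⟩
    have e := hd i
    simp only [smul_eq_mul] at e
    linear_combination e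
  have hle : Ideal.span {f ^ (m + n)} ≤ Ideal.span {f ^ m} :=
    Ideal.span_singleton_le_span_singleton.2 (pow_dvd_pow f (Nat.le_add_right m n))
  let ρ := Ideal.Quotient.factor hle
  refine ⟨k, y, hk, ⟨fun i j => ?_, fun i => ?_⟩, ?_, fun i => ⟨p + q, hA i⟩⟩
  · have := congrArg ρ (hy.compat i j)
    simp only [smul_eq_mul, map_mul, map_pow, Function.comp_apply, ← hy', ρ, π, Ideal.Quotient.factor_mk] at this
    exact this
  · have := congrArg ρ (hy.idem i)
    simp only [map_mul, map_pow, Function.comp_apply, ← hy', ρ, π, Ideal.Quotient.factor_mk] at this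
    exact this
  · have h1 := congrArg (fun s => comap ρ ⁻¹' s) hcl
    simp only [comap_cl, ← Set.preimage_comp] at h1
    have e2 : (comap π) ∘ (comap ρ) = comap (Ideal.Quotient.mk (Ideal.span {f ^ m})) := by
      funext r
      rw [Function.comp_apply, ← comap_comp_apply, Ideal.Quotient.factor_comp_mk hle]
    rw [e2] at h1
    convert h1 using 2
    · funext i; simp [ρ, π]
    · funext i; simp only [Function.comp_apply, ← hy', ρ, π, Ideal.Quotient.factor_mk]

include htors hreg in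
/-- Existence. -/
theorem exists_cl_lift (hcpl : IsAdicComplete (Ideal.span {f}) D) (h0 : H0Killed g D (f ^ n))
    (h1 : H1Killed g D (f ^ n)) {O : Set (PrimeSpectrum D)}
    (hO : IsOpen O) {O' : Set (PrimeSpectrum D)} (hO' : IsOpen O') (hcov : punct g ∩ zeroLocus {f} ⊆ O ∪ O')
    (hdis : O ∩ O' ∩ punct g ∩ zeroLocus {f} = ∅) (hsub : O ⊆ punct g) :
    ∃ C : Set (PrimeSpectrum D), IsOpen C ∧ IsOpen (punct g \ C) ∧ C ⊆ punct g ∧
      C ∩ zeroLocus {f} = O ∩ zeroLocus {f} := by
  choose d hd using fun m => exists_approx hreg h0 h1 hO hO' hcov hdis hsub (m + n)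
  have hcauchy : ∀ {a b}, a ≤ b → d a ≡ d b [SMOD (Ideal.span {f} ^ a • ⊤ : Submodule D D)] := fun {a b} hab => by
    rw [SModEq.sub_mem, smul_eq_mul, Ideal.mul_top, Ideal.span_singleton_pow]
    have := Approx.sub_mem htors hreg h0 (Nat.le_add_left n a) (hd a)
      ((hd b).mono (Nat.add_le_add_right hab n))
    rwa [Nat.add_sub_cancel] at this
  obtain ⟨L, hL⟩ := IsPrecomplete.prec hcpl.toIsPrecomplete hcauchy
  have hL' : ∀ m, d m - L ∈ Ideal.span {f ^ m} := fun m => by
    have := hL m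
    rwa [SModEq.sub_mem, smul_eq_mul, Ideal.mul_top, Ideal.span_singleton_pow] at this
  have hLL : L * (L - f ^ n) = 0 := by
    refine hcpl.toIsHausdorff.haus' _ fun m => ?_
    rw [SModEq.zero, smul_eq_mul, Ideal.mul_top, Ideal.span_singleton_pow]
    obtain ⟨k, y, hk, hy, -, hp⟩ := hd (m + n)
    have h2 : ∀ i, ∃ p, g i ^ p * (d (m + n) * (d (m + n) - f ^ n)) ∈ Ideal.span {f ^ (m + n + n)} := fun i => by
      obtain ⟨p, hp⟩ := hp i
      have hid : y i * (y i - g i ^ k) ∈ Ideal.span {f ^ (m + n + n)} := by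
        rw [← Ideal.Quotient.eq_zero_iff_mem]
        have := hy.idem i
        simp only [Function.comp_apply] at this
        rw [map_mul, map_sub, map_pow, mul_sub, this, mul_comm, sub_self]
      refine ⟨p + 2 * k, ?_⟩
      rw [show g i ^ (p + 2 * k) * (d (m + n) * (d (m + n) - f ^ n)) =
        g i ^ p * (g i ^ k * d (m + n) - f ^ n * y i) * (g i ^ k * d (m + n) + f ^ n * y i - f ^ n * g i ^ k) +
          g i ^ p * (f ^ n) ^ 2 * (y i * (y i - g i ^ k)) by ring]
      exact add_mem (Ideal.mul_mem_right _ _ hp) (Ideal.mul_mem_left _ _ hid)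
    have h3 := mem_of_locally htors hreg h0 (Nat.le_add_left n (m + n)) h2
    rw [Nat.add_sub_cancel] at h3
    have h4 : d (m + n) - L ∈ Ideal.span {f ^ (m + n)} := hL' _
    have hle : Ideal.span {f ^ (m + n)} ≤ Ideal.span {f ^ m} :=
      Ideal.span_singleton_le_span_singleton.2 (pow_dvd_pow f (Nat.le_add_right m n))
    rw [show L * (L - f ^ n) = d (m + n) * (d (m + n) - f ^ n) - (d (m + n) - L) * (d (m + n) + L - f ^ n) by ring]
    exact Submodule.sub_mem _ (hle h3) (hle (Ideal.mul_mem_right _ _ h4))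
  let M := 2 * n + 1
  obtain ⟨k, y, hk, hy, hcl, hp⟩ := hd M
  choose p hp using hp
  let P := ∑ i, p i
  have hzex : ∀ i, ∃ z, z * f ^ n = g i ^ (P + k) * L ∧ z - g i ^ P * y i ∈ Ideal.span {f} := fun i => by
    have h1 := Ideal.mul_mem_left _ (g i ^ (P - p i)) (hp i)
    rw [← mul_assoc, ← pow_add, Nat.sub_add_cancel (Finset.single_le_sum (fun _ _ => Nat.zero_le _) (Finset.mem_univ i))] at h1
    have h2 : g i ^ (P + k) * L - g i ^ P * (f ^ n * y i) ∈ Ideal.span {f ^ M} := by
      rw [show g i ^ (P + k) * L - g i ^ P * (f ^ n * y i) =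
        g i ^ P * (g i ^ k * d M - f ^ n * y i) - g i ^ (P + k) * (d M - L) by ring]
      refine Submodule.sub_mem _ ?_ (Ideal.mul_mem_left _ _ (hL' M))
      exact Ideal.span_singleton_le_span_singleton.2 (pow_dvd_pow f (Nat.le_add_right M n)) h1
    obtain ⟨c, hc⟩ := Ideal.mem_span_singleton'.1 h2
    refine ⟨g i ^ P * y i + c * f ^ (n + 1), ?_, Ideal.mem_span_singleton'.2 ⟨c * f ^ n, by ring⟩⟩
    have : M = n + 1 + n := by omega
    rw [this] at hc
    linear_combination hc
  choose z hz hzy using hzex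
  have hidem : IsIdem (fun i => g i ^ (P + k)) z := by
    refine ⟨fun i j => ?_, fun i => ?_⟩
    · simp only [smul_eq_mul]
      rw [← sub_eq_zero]
      refine pow_regular hreg (m := n) ?_
      linear_combination g j ^ (P + k) * hz i - g i ^ (P + k) * hz j
    · rw [← sub_eq_zero]
      refine pow_regular hreg (m := n + n) ?_
      linear_combination (z i * f ^ n + g i ^ (P + k) * L - g i ^ (P + k) * f ^ n) * hz i + (g i ^ (P + k)) ^ 2 * hLL
  have hsub' : cl (fun i => g i ^ (P + k)) z ⊆ punct g := by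
    rw [← punct_pow g (show 0 < P + k by omega)]
    exact cl_subset _ _
  refine ⟨_, isOpen_cl _ z, ?_, hsub', ?_⟩
  · rw [← punct_pow g (show 0 < P + k by omega)]
    exact hidem.isOpen_diff
  ext q
  refine and_congr_left fun hqf => ?_
  have hqf' : f ∈ q.asIdeal := by simpa using hqf
  by_cases hqp : q ∈ punct g
  swap
  · exact iff_of_false (fun h => hqp (hsub' h)) (fun h => hqp (hsub h))
  obtain ⟨i, hi⟩ := hqp
  have hP : ∀ e, g i ^ e ∉ q.asIdeal := fun e hm => hi (q.isPrime.mem_of_pow_mem _ hm)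
  rw [hidem.mem_cl_iff (hP _)]
  have hle : Ideal.span {f ^ (M + n)} ≤ q.asIdeal := by
    rw [Ideal.span_singleton_le_iff_mem]
    exact Ideal.pow_mem_of_mem _ hqf' _ (by omega)
  let π := Ideal.Quotient.mk (Ideal.span {f ^ (M + n)})
  obtain ⟨q', rfl⟩ : q ∈ Set.range (comap π) := by
    rw [range_comap_of_surjective _ _ Ideal.Quotient.mk_surjective, Ideal.mk_ker]
    exact fun x hx => hle hx
  have e1 := Set.ext_iff.1 hcl q'
  rw [Set.mem_preimage, hy.mem_cl_iff (show π (g i) ^ k ∉ q'.asIdeal by rw [← map_pow]; exact hP k)] at e1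
  rw [← e1]
  refine not_congr ⟨fun hm => ?_, fun hm => ?_⟩
  · have := sub_mem hm ((Ideal.span_singleton_le_iff_mem _).2 hqf' (hzy i))
    rw [sub_sub_cancel] at this
    exact ((comap π q').isPrime.mem_or_mem this).resolve_left (hP P)
  · have := add_mem ((Ideal.span_singleton_le_iff_mem _).2 hqf' (hzy i))
      (Ideal.mul_mem_left (comap π q').asIdeal (g i ^ P) hm)
    rwa [sub_add_cancel] at this

end Regular

/-- The lifting property: relatively clopen subsets of `punct g ∩ V(f)` extend uniquely. -/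
def Lifts (g : ι → D) (f : D) : Prop :=
  (∀ C : Set (PrimeSpectrum D), IsOpen C → IsOpen (punct g \ C) → C ⊆ punct g →
      C ∩ zeroLocus {f} = ∅ → C = ∅) ∧
    ∀ O O' : Set (PrimeSpectrum D), IsOpen O → IsOpen O' → punct g ∩ zeroLocus {f} ⊆ O ∪ O' →
      O ∩ O' ∩ punct g ∩ zeroLocus {f} = ∅ → O ⊆ punct g →
        ∃ C : Set (PrimeSpectrum D), IsOpen C ∧ IsOpen (punct g \ C) ∧ C ⊆ punct g ∧
          C ∩ zeroLocus {f} = O ∩ zeroLocus {f}

/-- Clopen subsets lift from `V(f)` in the adically complete case. -/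
theorem lifts_of_killed [IsNoetherianRing D] (g : ι → D) (f : D) (n : ℕ)
    (hcpl : IsAdicComplete (Ideal.span {f}) D) (hf : f ∈ (Ideal.span (Set.range g)).radical)
    (h0 : H0Killed g D (f ^ n)) (h1 : H1Killed g D (f ^ n)) : Lifts g f := by
  -- torsion with respect to `punct g` minus `V(f)`
  let K : Ideal D :=
    { carrier := {z | ∀ i, ∃ p, (g i * f) ^ p * z = 0}
      add_mem' := fun {a b} ha hb i => by
        obtain ⟨p, hp⟩ := ha i
        obtain ⟨q, hq⟩ := hb i
        exact ⟨p + q, by linear_combination (g i * f) ^ q * hp + (g i * f) ^ p * hq⟩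
      zero_mem' := fun i => ⟨0, by simp⟩
      smul_mem' := fun r z hz i => by
        obtain ⟨p, hp⟩ := hz i
        exact ⟨p, by rw [smul_eq_mul, mul_left_comm, hp, mul_zero]⟩ }
  obtain ⟨P, hP⟩ : ∃ P : ℕ, ∀ z ∈ K, ∀ i, (g i * f) ^ P * z = 0 := by
    obtain ⟨s, v, hv⟩ := Submodule.fg_iff_exists_fin_generating_family.1 (IsNoetherian.noetherian K)
    choose p hp using fun t i => (hv ▸ Submodule.subset_span (Set.mem_range_self t) : v t ∈ K) i
    refine ⟨∑ t, ∑ i, p t i, fun z hz i => ?_⟩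
    rw [← hv] at hz
    induction hz using Submodule.span_induction with
    | mem z hz =>
      obtain ⟨t, rfl⟩ := hz
      obtain ⟨e, he⟩ := Nat.exists_eq_add_of_le ((Finset.single_le_sum (f := p t) (fun _ _ => Nat.zero_le _) (Finset.mem_univ i)).trans
        (Finset.single_le_sum (f := fun t => ∑ i, p t i) (fun _ _ => Nat.zero_le _) (Finset.mem_univ t)))
      rw [he]
      linear_combination (g i * f) ^ e * hp t i
    | zero => simp
    | add a b _ _ ha hb => rw [mul_add, ha, hb, add_zero]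
    | smul r a _ ha => rw [smul_eq_mul, mul_left_comm, ha, mul_zero]
  obtain ⟨t, s, hs⟩ := exists_sum_pow hf (fun _ => P)
  have hKkill : ∀ z ∈ K, f ^ (t + P) • z = 0 := fun z hz => by
    rw [smul_eq_mul, pow_add, ← hs, Finset.sum_mul, Finset.sum_mul]
    refine Finset.sum_eq_zero fun i _ => ?_
    linear_combination s i * hP z hz i
  let π := Ideal.Quotient.mk K
  have htors : ∀ z : D ⧸ K, (∀ i, ∃ p, (π ∘ g) i ^ p * z = 0) → z = 0 := fun z => by
    obtain ⟨z, rfl⟩ := Ideal.Quotient.mk_surjective z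
    intro hz
    refine Ideal.Quotient.eq_zero_iff_mem.2 fun i => ?_
    obtain ⟨p, hp⟩ := hz i
    rw [Function.comp_apply, ← map_pow, ← map_mul, Ideal.Quotient.eq_zero_iff_mem] at hp
    obtain ⟨q, hq⟩ := hp i
    exact ⟨p + q, by linear_combination f ^ p * hq⟩
  have hreg : ∀ z : D ⧸ K, π f * z = 0 → z = 0 := fun z => by
    obtain ⟨z, rfl⟩ := Ideal.Quotient.mk_surjective z
    intro hz
    refine Ideal.Quotient.eq_zero_iff_mem.2 fun i => ?_
    rw [← map_mul, Ideal.Quotient.eq_zero_iff_mem] at hz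
    obtain ⟨q, hq⟩ := hz i
    exact ⟨q + 1, by linear_combination g i * hq⟩
  haveI : IsAdicComplete (Ideal.span {π f}) (D ⧸ K) := by
    haveI := hcpl
    have h := Adic7.isAdicComplete_of_finite (Ideal.span {f}) (D ⧸ K)
    have e : (Ideal.span {f}).map (algebraMap D (D ⧸ K)) = Ideal.span {π f} := by
      rw [Ideal.map_span, Set.image_singleton]
      rfl
    rw [← e]
    exact (IsAdicComplete.map_algebraMap_iff (S := D ⧸ K) _ (D ⧸ K)).2 h
  have h0' : H0Killed (π ∘ g) (D ⧸ K) (π f ^ (n + (t + P))) := by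
    rw [← map_pow, pow_add]
    exact H0Killed.restrictScalars.1 (h0.quotient (K : Submodule D D) hKkill)
  have h1' : H1Killed (π ∘ g) (D ⧸ K) (π f ^ (n + (t + P))) := by
    rw [← map_pow, pow_add]
    exact H1Killed.restrictScalars.1 (h1.quotient (K : Submodule D D) hKkill)
  have hemb : Topology.IsClosedEmbedding (comap π) := isClosedEmbedding_comap_of_surjective _ π Ideal.Quotient.mk_surjective
  have hcov' : ∀ q ∈ punct g, q ∈ Set.range (comap π) ∨ f ∈ q.asIdeal := by
    rintro q ⟨i, hi⟩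
    refine or_iff_not_imp_right.2 fun hqf => ?_
    rw [range_comap_of_surjective _ _ Ideal.Quotient.mk_surjective, Ideal.mk_ker]
    intro z hz
    exact (q.isPrime.mem_or_mem (show (g i * f) ^ P * z ∈ q.asIdeal by rw [hP z hz i]; exact zero_mem _)).resolve_left
      fun hm => (q.isPrime.mem_or_mem (q.isPrime.mem_of_pow_mem _ hm)).elim hi hqf
  have hzl : comap π ⁻¹' zeroLocus {f} = zeroLocus {π f} := by
    rw [preimage_comap_zeroLocus, Set.image_singleton]
  refine ⟨fun C hC hC' hsub hCf => ?_, fun O O' hO hO' hcov hdis hsub => ?_⟩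
  · have hpre : comap π ⁻¹' C = ∅ := by
      refine cl_eq_empty htors hreg IsAdicComplete.toIsHausdorff h0' _ (hC.preimage (continuous_comap _)) ?_
        (fun q hq => hsub hq) ?_
      · rw [← comap_punct, ← Set.preimage_sdiff]
        exact hC'.preimage (continuous_comap _)
      · rw [← hzl, ← Set.preimage_inter, hCf, Set.preimage_empty]
    refine Set.eq_empty_iff_forall_notMem.2 fun q hq => ?_
    rcases hcov' q (hsub hq) with ⟨q', rfl⟩ | hqf
    · exact Set.eq_empty_iff_forall_notMem.1 hpre q' hq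
    · exact Set.eq_empty_iff_forall_notMem.1 hCf q ⟨hq, by simpa using hqf⟩
  · obtain ⟨C1, hC1, hC1', hC1sub, hC1f⟩ := exists_cl_lift htors hreg ‹_› h0' h1'
      (hO.preimage (continuous_comap π)) (hO'.preimage (continuous_comap π))
      (by
        rw [← comap_punct, ← hzl, ← Set.preimage_inter, ← Set.preimage_union]
        exact Set.preimage_mono hcov)
      (by
        rw [← comap_punct, ← hzl, ← Set.preimage_inter, ← Set.preimage_inter, ← Set.preimage_inter, hdis, Set.preimage_empty])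
      (fun q hq => hsub hq)
    obtain ⟨W, hW, hWeq⟩ := hemb.isInducing.isOpen_iff.1 hC1
    obtain ⟨W', hW', hW'eq⟩ := hemb.isInducing.isOpen_iff.1 hC1'
    -- the glued set
    let C : Set (PrimeSpectrum D) :=
      punct g ∩ ((zeroLocus {f})ᶜ ∩ W ∪ zeroLocus {f} ∩ O)
    have hpt : ∀ q ∈ punct g, ∀ q', comap π q' = q → (q ∈ W ↔ q' ∈ C1) ∧ (q ∈ W' ↔ q' ∉ C1) := by
      rintro q hq q' rfl
      refine ⟨by rw [← hWeq]; rfl, ?_⟩
      rw [show comap π q' ∈ W' ↔ q' ∈ comap π ⁻¹' W' from Iff.rfl, hW'eq]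
      exact ⟨fun h => h.2, fun h => ⟨hq, h⟩⟩
    have hgood : ∀ q ∈ punct g, f ∈ q.asIdeal → ∀ q', comap π q' = q → (q' ∈ C1 ↔ q ∈ O) := by
      rintro q hq hqf q' rfl
      have e := Set.ext_iff.1 hC1f q'
      have hf' : q' ∈ zeroLocus {π f} := by rw [← hzl]; simpa using hqf
      exact ⟨fun h => (e.1 ⟨h, hf'⟩).1, fun h => (e.2 ⟨h, hf'⟩).1⟩
    have hopen : ∀ (W : Set (PrimeSpectrum D)) (O : Set (PrimeSpectrum D)), IsOpen W → IsOpen O →
        (∀ q ∈ punct g, f ∈ q.asIdeal → ∀ q', comap π q' = q → (q ∈ W ↔ q ∈ O)) →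
        IsOpen (punct g ∩ ((zeroLocus {f})ᶜ ∩ W ∪ zeroLocus {f} ∩ O)) := by
      intro W O hW hO hWO
      have : punct g ∩ ((zeroLocus {f})ᶜ ∩ W ∪ zeroLocus {f} ∩ O) =
          punct g ∩ ((zeroLocus {f})ᶜ ∪ O) ∩ (W ∪ (Set.range (comap π))ᶜ) := by
        ext q
        simp only [Set.mem_inter_iff, Set.mem_union, Set.mem_compl_iff]
        constructor
        · rintro ⟨hq, ⟨hf', hW'⟩ | ⟨hf', hO'⟩⟩
          · exact ⟨⟨hq, Or.inl hf'⟩, Or.inl hW'⟩
          · refine ⟨⟨hq, Or.inr hO'⟩, ?_⟩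
            by_cases hr : q ∈ Set.range (comap π)
            · obtain ⟨q', hq'⟩ := hr
              exact Or.inl ((hWO q hq (by simpa using hf') q' hq').2 hO')
            · exact Or.inr hr
        · rintro ⟨⟨hq, h1⟩, h2⟩
          refine ⟨hq, ?_⟩
          by_cases hf' : q ∈ zeroLocus {f}
          · exact Or.inr ⟨hf', h1.resolve_left (not_not_intro hf')⟩
          · refine Or.inl ⟨hf', h2.resolve_right fun hr => hr ?_⟩
            exact (hcov' q hq).resolve_right (by simpa using hf')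
      rw [this]
      exact (isOpen_punct g |>.inter ((isClosed_zeroLocus _).isOpen_compl.union hO)).inter
        (hW.union hemb.isClosed_range.isOpen_compl)
    refine ⟨C, hopen W O hW hO fun q hq hqf q' hq' => (hpt q hq q' hq').1.trans (hgood q hq hqf q' hq'), ?_,
      Set.inter_subset_left, ?_⟩
    · have : punct g \ C = punct g ∩ ((zeroLocus {f})ᶜ ∩ W' ∪ zeroLocus {f} ∩ O') := by
        ext q
        constructor
        · rintro ⟨hq, hn⟩
          refine ⟨hq, ?_⟩
          by_cases hf' : q ∈ zeroLocus {f}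
          · exact Or.inr ⟨hf', (hcov ⟨hq, hf'⟩).resolve_left fun h => hn ⟨hq, Or.inr ⟨hf', h⟩⟩⟩
          · obtain ⟨q', hq'⟩ := (hcov' q hq).resolve_right (by simpa using hf')
            exact Or.inl ⟨hf', (hpt q hq q' hq').2.2 fun h => hn ⟨hq, Or.inl ⟨hf', (hpt q hq q' hq').1.2 h⟩⟩⟩
        · rintro ⟨hq, h⟩
          refine ⟨hq, ?_⟩
          rintro ⟨-, ⟨hf', hW'⟩ | ⟨hf', hO1⟩⟩
          · rcases h with ⟨-, h'⟩ | ⟨h'', -⟩
            · obtain ⟨q', hq'⟩ := (hcov' q hq).resolve_right (by simpa using hf')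
              exact (hpt q hq q' hq').2.1 h' ((hpt q hq q' hq').1.1 hW')
            · exact hf' h''
          · rcases h with ⟨h'', -⟩ | ⟨-, h'⟩
            · exact h'' hf'
            · exact Set.eq_empty_iff_forall_notMem.1 hdis q ⟨⟨⟨hO1, h'⟩, hq⟩, hf'⟩
      rw [this]
      refine hopen W' O' hW' hO' fun q hq hqf q' hq' => (hpt q hq q' hq').2.trans ?_
      rw [hgood q hq hqf q' hq']
      exact ⟨fun h => (hcov ⟨hq, by simpa using hqf⟩).resolve_left h,
        fun h h' => Set.eq_empty_iff_forall_notMem.1 hdis q ⟨⟨⟨h', h⟩, hq⟩, by simpa using hqf⟩⟩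
    · ext q
      constructor
      · rintro ⟨⟨-, ⟨hf', -⟩ | ⟨-, hO1⟩⟩, hf''⟩
        · exact absurd hf'' hf'
        · exact ⟨hO1, hf''⟩
      · rintro ⟨hO1, hf'⟩
        exact ⟨⟨hsub hO1, Or.inr ⟨hf', hO1⟩⟩, hf'⟩

end Groth.Agent.PurX
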