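import Groth.Agent.LocalCrit.Completion
import Groth.Agent.S0546
import Groth.Agent.Hensel.Factor
import Mathlib.RingTheory.AdicCompletion.AsTensorProduct
import Mathlib.RingTheory.AdicCompletion.LocalRing
import Mathlib.RingTheory.Flat.FaithfullyFlat.Algebra
import Mathlib.RingTheory.TensorProduct.Finite

/-!
# Base change of a finite algebra to the completion
-/

set_option autoImplicit false
set_option linter.style.haveILetI false

universe u

open IsLocalRing TensorProduct

namespace Groth.Agent.PurX

variable (A : Type u) [CommRing A] [IsLocalRing A] [IsNoetherianRing A]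

/-- The completion of a local ring. -/
abbrev Cpl : Type u := AdicCompletion (maximalIdeal A) A

instance isNoetherian_cpl : IsNoetherianRing (Cpl A) := by
  have hmax : maximalIdeal A = (maximalIdeal A).map (algebraMap A A) := by
    rw [Algebra.algebraMap_self, Ideal.map_id]
  exact LocalCrit.isNoetherianRing_completion (A := A) (C := A) hmax

instance faithfullyFlat_cpl : Module.FaithfullyFlat A (Cpl A) := by
  haveI : IsLocalHom (algebraMap A (Cpl A)) :=
    AdicCompletion.algebraMap_isLocalHom_of_fg (IsNoetherian.noetherian _)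
  exact Module.FaithfullyFlat.of_flat_of_isLocalHom

theorem exists_cpl_approx (n : ℕ) (x : Cpl A) :
    ∃ a, x - algebraMap A (Cpl A) a ∈ (maximalIdeal A ^ n).map (algebraMap A (Cpl A)) := by
  obtain ⟨a, ha⟩ := Submodule.mkQ_surjective _ (AdicCompletion.eval (maximalIdeal A) A n x)
  refine ⟨a, ?_⟩
  rw [← LocalCrit.smul_top_eq_map, AdicCompletion.pow_smul_top_eq_ker_eval (IsNoetherian.noetherian _),
    LinearMap.mem_ker, map_sub, ← ha, sub_eq_zero]
  exact (AdicCompletion.eval_of _ _ n a).symm

/-- The completion is complete for every ideal. -/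
theorem isAdicComplete_cpl {I : Ideal (Cpl A)} (hI : I ≠ ⊤) : IsAdicComplete I (Cpl A) :=
  Groth.Agent.S0546.result (Cpl A) I (maximalIdeal (Cpl A)) (le_maximalIdeal hI) (IsNoetherian.noetherian I) (Cpl A)

variable (D : Type u) [CommRing D] [Algebra A D] [Module.Finite A D]

/-- Base change of a finite algebra to the completion. -/
abbrev CplBC : Type u := D ⊗[A] Cpl A

variable {A}

/-- Elements of the base change are approximated. -/
theorem exists_cplBC_approx (J : Ideal A) (hJ : J = maximalIdeal A) (n : ℕ) (x : CplBC A D) :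
    ∃ d : D, x - algebraMap D (CplBC A D) d ∈
      ((J.map (algebraMap A D)) ^ n).map (algebraMap D (CplBC A D)) := by
  subst hJ
  induction x using TensorProduct.induction_on with
  | zero => exact ⟨0, by simp⟩
  | tmul d a =>
    obtain ⟨a₀, ha⟩ := exists_cpl_approx A n a
    refine ⟨a₀ • d, ?_⟩
    have : d ⊗ₜ[A] a - algebraMap D (CplBC A D) (a₀ • d) = algebraMap D (CplBC A D) d *
        (Algebra.TensorProduct.includeRight (R := A) (A := D) (a - algebraMap A (Cpl A) a₀)) := by
      rw [Algebra.TensorProduct.algebraMap_apply, Algebra.TensorProduct.algebraMap_apply,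
        Algebra.TensorProduct.includeRight_apply, Algebra.TensorProduct.tmul_mul_tmul,
        Algebra.algebraMap_self_apply, Algebra.algebraMap_self_apply, one_mul, mul_one, TensorProduct.tmul_sub,
        Algebra.algebraMap_eq_smul_one a₀, TensorProduct.tmul_smul, TensorProduct.smul_tmul']
    rw [this]
    refine Ideal.mul_mem_left _ _ ?_
    have h2 := Ideal.mem_map_of_mem (Algebra.TensorProduct.includeRight (R := A) (A := D) (B := Cpl A)).toRingHom ha
    rw [Ideal.map_map] at h2
    have e : ((Algebra.TensorProduct.includeRight (R := A) (A := D) (B := Cpl A)).toRingHom.comp (algebraMap A (Cpl A))) =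
        (algebraMap D (CplBC A D)).comp (algebraMap A D) := by
      ext r
      exact ((Algebra.TensorProduct.includeRight (R := A) (A := D) (B := Cpl A)).commutes r).trans rfl
    rw [e, ← Ideal.map_map, Ideal.map_pow] at h2
    exact h2
  | add x y hx hy =>
    obtain ⟨a, ha⟩ := hx
    obtain ⟨b, hb⟩ := hy
    exact ⟨a + b, by rw [map_add, add_sub_add_comm]; exact add_mem ha hb⟩

theorem map_maximalIdeal_le_jacobson_finite (R : Type u) [CommRing R] [IsLocalRing R] (B : Type u) [CommRing B]
    [Algebra R B] [Module.Finite R B] : (maximalIdeal R).map (algebraMap R B) ≤ Ideal.jacobson ⊥ := by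
  haveI : Algebra.IsIntegral R B := Algebra.IsIntegral.of_finite R B
  exact Hensel.map_le_jacobson_of_isIntegral (A := R) (I := maximalIdeal R) (B := B)
    (IsLocalRing.jacobson_eq_maximalIdeal (⊥ : Ideal R) bot_ne_top).ge

theorem finite_cplBC :
    letI := Algebra.TensorProduct.rightAlgebra (R := A) (A := D) (B := Cpl A)
    Module.Finite (Cpl A) (CplBC A D) := by
  letI := Algebra.TensorProduct.rightAlgebra (R := A) (A := D) (B := Cpl A)
  exact Module.Finite.equiv (AlgEquiv.ofRingEquiv (R := Cpl A)
    (f := (Algebra.TensorProduct.comm A (Cpl A) D).toRingEquiv) fun r => by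
      simp [Algebra.TensorProduct.algebraMap_apply, RingHom.algebraMap_toAlgebra]).toLinearEquiv

theorem map_le_jacobson_cplBC :
    ((maximalIdeal A).map (algebraMap A D)).map (algebraMap D (CplBC A D)) ≤ Ideal.jacobson ⊥ := by
  letI := Algebra.TensorProduct.rightAlgebra (R := A) (A := D) (B := Cpl A)
  haveI := finite_cplBC (A := A) D
  have h := map_maximalIdeal_le_jacobson_finite (Cpl A) (CplBC A D)
  rw [AdicCompletion.maximalIdeal_eq_map, Ideal.map_map] at h
  rw [Ideal.map_map]
  refine le_of_eq_of_le ?_ h
  congr 1
  ext r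
  exact ((Algebra.TensorProduct.includeRight (R := A) (A := D) (B := Cpl A)).commutes r).symm

theorem isNoetherianRing_cplBC : IsNoetherianRing (CplBC A D) := by
  letI := Algebra.TensorProduct.rightAlgebra (R := A) (A := D) (B := Cpl A)
  haveI := finite_cplBC (A := A) D
  exact IsNoetherianRing.of_finite (Cpl A) (CplBC A D)

theorem isAdicComplete_cplBC {f : A} (hf : f ∈ maximalIdeal A) :
    IsAdicComplete (Ideal.span {algebraMap D (CplBC A D) (algebraMap A D f)}) (CplBC A D) := by
  letI := Algebra.TensorProduct.rightAlgebra (R := A) (A := D) (B := Cpl A)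
  haveI := finite_cplBC (A := A) D
  let f' := algebraMap A (Cpl A) f
  have hf' : f' ∈ maximalIdeal (Cpl A) := by
    rw [AdicCompletion.maximalIdeal_eq_map]
    exact Ideal.mem_map_of_mem _ hf
  haveI : IsAdicComplete (Ideal.span {f'}) (Cpl A) := isAdicComplete_cpl A fun h =>
    (maximalIdeal.isMaximal (Cpl A)).ne_top (top_unique (h ▸ (Ideal.span_singleton_le_iff_mem _).2 hf'))
  have hM : IsAdicComplete (Ideal.span {f'}) (CplBC A D) :=
    { toIsHausdorff := IsHausdorff.of_le_jacobson _ _ (IsAdicComplete.le_jacobson_bot _)
      toIsPrecomplete := by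
        obtain ⟨n, π, hπ⟩ := Module.Finite.exists_fin' (Cpl A) (CplBC A D)
        refine AdicCompletion.of_surjective_iff.mp fun z => ?_
        obtain ⟨t, rfl⟩ := AdicCompletion.ofTensorProduct_surjective_of_finite (Ideal.span {f'}) (CplBC A D) z
        induction t with
        | zero => exact ⟨0, by simp⟩
        | tmul r x =>
          obtain ⟨a, rfl⟩ := AdicCompletion.of_surjective (Ideal.span {f'}) (Cpl A) r
          refine ⟨a • x, ?_⟩
          rw [AdicCompletion.ofTensorProduct_tmul, map_smul]
          exact AdicCompletion.ext fun n => rfl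
        | add x y hx hy =>
          obtain ⟨a, ha⟩ := hx
          obtain ⟨b, hb⟩ := hy
          exact ⟨a + b, by rw [map_add, map_add, ha, hb]⟩ }
  have e : (Ideal.span {f'}).map (algebraMap (Cpl A) (CplBC A D)) =
      Ideal.span {algebraMap D (CplBC A D) (algebraMap A D f)} := by
    rw [Ideal.map_span, Set.image_singleton]
    congr 2
    exact (Algebra.TensorProduct.includeRight (R := A) (A := D) (B := Cpl A)).commutes f
  rw [← e]
  exact (IsAdicComplete.map_algebraMap_iff (S := CplBC A D) _ (CplBC A D)).2 hM

end Groth.Agent.PurX
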