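import Groth.Agent.PurX.Glue
import Groth.Agent.Hartogs.Basic

/-!
# Extension to the spectrum descends along faithfully flat maps in depth at least two
-/

set_option autoImplicit false
set_option linter.style.haveILetI false
set_option linter.unusedSectionVars false

universe u

open CategoryTheory CategoryTheory.Limits AlgebraicGeometry TensorProduct IsLocalRing
open Groth.Agent.Pi1Ext

set_option backward.isDefEq.respectTransparency false

noncomputable section

namespace Groth.Agent.PurX

variable (A : Type u) [CommRing A] [IsLocalRing A] [IsNoetherianRing A]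

/-- Hartogs for the punctured spectrum. -/
theorem struct_punctured_bijective (hd : (2 : ℕ∞) ≤ LocCoh.depth A A) :
    Function.Bijective (struct (FEt.puncturedSpec A).ι) := by
  let R := Localization.AtPrime (maximalIdeal A)
  let σ : A ≃ₐ[A] R := IsLocalization.atUnits A (maximalIdeal A).primeCompl fun x hx => by
    by_contra h
    exact hx ((mem_maximalIdeal x).2 h)
  have hd' : (2 : ℕ∞) ≤ LocCoh.depth R R :=
    hd.trans (Alg6.depth_eq_of_semilinear σ.toRingEquiv.toRingHom σ.surjective σ.toRingEquiv.toAddEquiv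
      (fun r z => map_mul σ r z)).le
  have h := Hartogs.spec_bijective A (FEt.puncturedSpec A) fun p hp => by
    obtain rfl : p = closedPoint A := by
      by_contra hne
      exact hp hne
    exact hd'
  have e : (FEt.puncturedSpec A).ι.appTop = (Spec (CommRingCat.of A)).presheaf.map
      (homOfLE (le_top : FEt.puncturedSpec A ≤ ⊤)).op ≫ (FEt.puncturedSpec A).topIso.inv := by
    simp only [Scheme.Opens.topIso_inv, Scheme.Opens.ι_appTop, ← Functor.map_comp]
    congr 1
  show Function.Bijective ((Scheme.ΓSpecIso (CommRingCat.of A)).inv ≫ (FEt.puncturedSpec A).ι.appTop)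
  rw [e]
  exact ((ConcreteCategory.bijective_of_isIso (FEt.puncturedSpec A).topIso.inv).comp h).comp
    (ConcreteCategory.bijective_of_isIso (Scheme.ΓSpecIso (CommRingCat.of A)).inv)

set_option maxHeartbeats 1000000 in
/-- A cover of the punctured spectrum extends if it does so after a faithfully flat base change. -/
theorem exists_extension_of_faithfullyFlat (hd : (2 : ℕ∞) ≤ LocCoh.depth A A) {S : Type u} [CommRing S]
    [Algebra A S] [Module.FaithfullyFlat A S] (V : FEt.Cat (FEt.puncturedSpec A : Scheme.{u}))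
    (Y' : FEt.Cat (Spec (CommRingCat.of S)))
    (e : (FEt.restrict (pullback.snd (FEt.puncturedSpec A).ι (PuritySch.sp A S))).obj Y' ≅
      (FEt.restrict (pullback.fst (FEt.puncturedSpec A).ι (PuritySch.sp A S))).obj V) :
    ∃ Y : FEt.Cat (Spec (CommRingCat.of A)), Nonempty ((FEt.restrict (FEt.puncturedSpec A).ι).obj Y ≅ V) := by
  let Uι := (FEt.puncturedSpec A).ι
  let c := PuritySch.sp A S
  let Q := pullback Uι c
  let u₁ : Q ⟶ _ := pullback.fst Uι c
  let u₂ : Q ⟶ Spec (CommRingCat.of S) := pullback.snd Uι c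
  let v : V.left ⟶ (FEt.puncturedSpec A : Scheme.{u}) := V.hom
  haveI : IsFinite v := V.prop.1
  haveI : CompactSpace (FEt.puncturedSpec A : Scheme.{u}) := inferInstance
  haveI : QuasiSeparatedSpace (FEt.puncturedSpec A : Scheme.{u}) := quasiSeparatedSpace_of_quasiSeparated Uι
  haveI : CompactSpace V.left := QuasiCompact.compactSpace_of_compactSpace v
  let T : V.left ⟶ Spec (CommRingCat.of A) := v ≫ Uι
  haveI : QuasiSeparatedSpace V.left := quasiSeparatedSpace_of_quasiSeparated T
  let X' := pullback v u₁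
  let p₁ : X' ⟶ V.left := pullback.fst v u₁
  let sv : X' ⟶ Q := pullback.snd v u₁
  have HX : IsPullback p₁ (sv ≫ u₂) T c :=
    (IsPullback.of_hasPullback v u₁).paste_vert (IsPullback.of_hasPullback Uι c)
  letI : Algebra A Γ(V.left, ⊤) := (struct T).hom.toAlgebra
  obtain ⟨θ, hθl, hθr⟩ := exists_gamma_baseChange HX rfl
  -- functions of the punctured spectrum after base change
  have hQ : Function.Bijective (struct u₂) := by
    letI : Algebra A Γ((FEt.puncturedSpec A : Scheme.{u}), ⊤) := (struct Uι).hom.toAlgebra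
    obtain ⟨θQ, hθQ, -⟩ := exists_gamma_baseChange (IsPullback.of_hasPullback Uι c) rfl
    let eA : A ≃ₐ[A] Γ((FEt.puncturedSpec A : Scheme.{u}), ⊤) :=
      AlgEquiv.ofBijective (Algebra.ofId A _) (struct_punctured_bijective A hd)
    let eS : S ≃ₐ[S] S ⊗[A] Γ((FEt.puncturedSpec A : Scheme.{u}), ⊤) :=
      (Algebra.TensorProduct.rid A S S).symm.trans (Algebra.TensorProduct.congr AlgEquiv.refl eA)
    have h : (struct u₂ : S → _) = θQ ∘ eS := funext fun a => by
      rw [Function.comp_apply, show eS a = algebraMap S _ a from eS.commutes a]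
      exact (hθQ a).symm
    rw [show (struct u₂ : S → _) = _ from h]
    exact θQ.bijective.comp eS.bijective
  -- the algebra over `S`
  let y : Y'.left ⟶ Spec (CommRingCat.of S) := Y'.hom
  haveI : IsFinite y := Y'.prop.1
  haveI : IsAffine Y'.left := isAffine_of_isAffineHom y
  let B' := Γ(Y'.left, ⊤)
  letI algB : Algebra S B' := (struct y).hom.toAlgebra
  have hy : Y'.left.isoSpec.hom ≫ PuritySch.sp S B' = y := struct_eq y
  have hB : Module.Finite S B' ∧ Algebra.Etale S B' := by
    refine PuritySch.fet_sp_iff.1 ?_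
    rw [← MorphismProperty.cancel_left_of_respectsIso (P := FEt.prop) Y'.left.isoSpec.hom, hy]
    exact Y'.prop
  haveI := hB.1
  haveI := hB.2
  let r₀ : X' ⟶ pullback y u₂ := e.inv.left
  have hr₀ : r₀ ≫ pullback.snd y u₂ = sv := MorphismProperty.Over.w e.inv
  haveI : IsIso r₀ := ⟨e.hom.left, congrArg (fun t => t.left) e.inv_hom_id, congrArg (fun t => t.left) e.hom_inv_id⟩
  let m : X' ⟶ Y'.left := r₀ ≫ pullback.fst y u₂
  have HY : IsPullback m sv y u₂ :=
    (IsPullback.of_hasPullback y u₂).of_iso (asIso r₀).symm (Iso.refl _) (Iso.refl _) (Iso.refl _)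
      (by simp [m]) (by simp [← hr₀]) (by simp) (by simp)
  have hm : Function.Bijective m.appTop := by
    haveI : CompactSpace Q := QuasiCompact.compactSpace_of_compactSpace u₂
    haveI : QuasiSeparatedSpace Q := quasiSeparatedSpace_of_quasiSeparated u₂
    have HB : IsPullback sv (m ≫ Y'.left.isoSpec.hom) u₂ (PuritySch.sp S B') :=
      HY.flip.of_iso (Iso.refl _) (Iso.refl _) Y'.left.isoSpec (Iso.refl _) (by simp) (by simp) (by simp)
        (by simpa using hy.symm)
    letI : Algebra S Γ(Q, ⊤) := (struct u₂).hom.toAlgebra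
    obtain ⟨θB, hθB, -⟩ := exists_gamma_baseChange HB rfl
    let eQ : S ≃ₐ[S] Γ(Q, ⊤) := AlgEquiv.ofBijective (Algebra.ofId S _) hQ
    let eB : B' ≃ₐ[B'] B' ⊗[S] Γ(Q, ⊤) :=
      (Algebra.TensorProduct.rid S B' B').symm.trans (Algebra.TensorProduct.congr AlgEquiv.refl eQ)
    have hs : struct (m ≫ Y'.left.isoSpec.hom) = m.appTop := by
      simp [struct, Scheme.isoSpec, Scheme.toSpecΓ_appTop]
    have h : (m.appTop : B' → _) = θB ∘ eB := funext fun b => by
      rw [Function.comp_apply, show eB b = algebraMap B' _ b from eB.commutes b]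
      exact ((hθB b).trans (by rw [hs])).symm
    rw [show (m.appTop : B' → _) = _ from h]
    exact θB.bijective.comp eB.bijective
  have hm₂ : m ≫ y = sv ≫ u₂ := HY.w
  let eM : B' ≃+* Γ(X', ⊤) := RingEquiv.ofBijective m.appTop.hom hm
  let Φ : S ⊗[A] Γ(V.left, ⊤) ≃ₐ[S] B' := AlgEquiv.ofRingEquiv (f := θ.trans eM.symm) fun s => by
    rw [RingEquiv.trans_apply, RingEquiv.symm_apply_eq]
    refine (hθl s).trans ?_
    rw [← hm₂, struct_comp]
    rfl
  haveI : Module.Finite S (S ⊗[A] Γ(V.left, ⊤)) := Module.Finite.equiv Φ.symm.toLinearEquiv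
  haveI : Algebra.Etale S (S ⊗[A] Γ(V.left, ⊤)) := Algebra.Etale.of_equiv Φ.symm
  haveI : Module.Finite A Γ(V.left, ⊤) := Module.Finite.of_finite_tensorProduct_of_faithfullyFlat S
  haveI : Algebra.Etale A Γ(V.left, ⊤) := Algebra.Etale.of_etale_tensorProduct_of_faithfullyFlat S
  let Y : FEt.Cat (Spec (CommRingCat.of A)) :=
    MorphismProperty.Over.mk ⊤ (PuritySch.sp A Γ(V.left, ⊤)) (PuritySch.fet_sp_iff.2 ⟨inferInstance, inferInstance⟩)
  refine ⟨Y, ⟨(nonempty_iso_of_model (Hv := IsPullback.of_hasPullback v u₁) HX rfl θ hθl hθr hy m HY _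
    (AlgHom.id A Γ(V.left, ⊤)) Φ ?_).some⟩⟩
  intro x
  show eM (eM.symm (θ x)) = _
  rw [RingEquiv.apply_symm_apply, Algebra.TensorProduct.map_id]
  rfl

end Groth.Agent.PurX
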