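import Groth.Agent.PurX.PowerSeriesPurity
import Groth.Agent.ParaF2.SmoothReduce
import Groth.Agent.ParaF2.FinInsep
import Groth.Agent.PurX.DescendPurity

/-!
# Purity of formally smooth algebras of positive relative dimension over a base of depth two
-/

universe u

open IsLocalRing TensorProduct CategoryTheory CategoryTheory.Limits AlgebraicGeometry
open Groth.Agent.Pi1Ext

set_option linter.style.haveILetI false
set_option maxHeartbeats 2000000

noncomputable section

namespace Groth.Agent.PurX

/-- Purity descends along flat local maps with punctual closed fibre. -/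
theorem purityHolds_of_faithfullyFlat (B B' : Type u) [CommRing B] [CommRing B'] [IsLocalRing B] [IsLocalRing B']
    [IsNoetherianRing B] [Algebra B B'] [Module.Flat B B'] [IsLocalHom (algebraMap B B')]
    (hd : (2 : ℕ∞) ≤ LocCoh.depth B B)
    (hfib : ∀ P : Ideal B', P.IsPrime → (maximalIdeal B).map (algebraMap B B') ≤ P → P = maximalIdeal B')
    (h : FEt.PurityHolds B') : FEt.PurityHolds B := by
  haveI : Module.FaithfullyFlat B B' := Module.FaithfullyFlat.of_flat_of_isLocalHom
  let ι := (FEt.puncturedSpec B).ι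
  let ι' := (FEt.puncturedSpec B').ι
  let c := PuritySch.sp B B'
  have hc : ∀ y : PrimeSpectrum B', c y = closedPoint B ↔ y = closedPoint B' := fun y => by
    refine ⟨fun hy => PrimeSpectrum.ext (hfib _ y.isPrime (Ideal.map_le_iff_le_comap.2
      (congrArg PrimeSpectrum.asIdeal hy).ge)), ?_⟩
    rintro rfl
    exact IsLocalRing.comap_closedPoint (algebraMap B B')
  haveI : IsOpenImmersion (pullback.snd ι c) := MorphismProperty.pullback_snd _ _ inferInstance
  have hr : Set.range (pullback.snd ι c).base = Set.range ι'.base := by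
    rw [show Set.range (pullback.snd ι c).base = _ from Scheme.Pullback.range_snd _ _,
      Scheme.Opens.range_ι, Scheme.Opens.range_ι]
    ext y
    exact (hc y).not
  let κ := IsOpenImmersion.isoOfRangeEq _ _ hr
  haveI : (FEt.restrict ι').EssSurj := h
  refine ⟨fun E => ?_⟩
  haveI : (FEt.restrict κ.hom).IsEquivalence := isEquivalence_of_iso _
  let T := (FEt.restrict κ.hom).objPreimage ((FEt.restrict (pullback.fst ι c)).obj E)
  let Y' := (FEt.restrict ι').objPreimage T
  obtain ⟨Y, ⟨e⟩⟩ := exists_extension_of_faithfullyFlat B hd E Y'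
    (Spread.restrictComp κ.hom ι' (pullback.snd ι c) (IsOpenImmersion.isoOfRangeEq_hom_fac _ _ hr).symm Y' ≪≫
      (FEt.restrict κ.hom).mapIso ((FEt.restrict ι').objObjPreimageIso T) ≪≫
      (FEt.restrict κ.hom).objObjPreimageIso _)
  exact ⟨Y, ⟨e⟩⟩

/-- A complete formally smooth algebra with separable residue extension has purity when the base has
depth two and larger dimension than the base. -/
theorem purityHolds_complete (A B : Type u) [CommRing A] [CommRing B] [IsLocalRing A]
    [IsLocalRing B] [IsNoetherianRing A] [IsNoetherianRing B] [Algebra A B] [IsLocalHom (algebraMap A B)]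
    [IsAdicComplete (maximalIdeal B) B]
    [Algebra.IsGeometricallyReduced (ResidueField A) (ResidueField B)]
    (hfs : CAlgX.IsAdicFormallySmooth A B (maximalIdeal B))
    (hdim : ringKrullDim A < ringKrullDim B) (hA : (2 : ℕ∞) ≤ LocCoh.depth A A) :
    FEt.PurityHolds B := by
  haveI := RegFS6.flat_of_fs hfs
  let k := ResidueField A
  let mB : Ideal B := (maximalIdeal A).map (algebraMap A B)
  haveI : Nontrivial (B ⧸ mB) := Ideal.Quotient.nontrivial_iff.mpr
    (ne_top_of_le_ne_top (maximalIdeal.isMaximal B).ne_top (map_maximalIdeal_le _))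
  let B₀ := B ⧸ mB
  haveI : IsLocalRing B₀ := IsLocalRing.of_surjective' (Ideal.Quotient.mk mB) Ideal.Quotient.mk_surjective
  haveI : IsLocalHom (Ideal.Quotient.mk mB) := IsLocalHom.of_surjective _ Ideal.Quotient.mk_surjective
  haveI := CplFib6.isAdicComplete_quot (R := B) mB
  letI algk : Algebra k B₀ := (Ideal.Quotient.lift (maximalIdeal A)
    ((Ideal.Quotient.mk mB).comp (algebraMap A B)) fun a ha =>
      Ideal.Quotient.eq_zero_iff_mem.mpr (Ideal.mem_map_of_mem _ ha)).toAlgebra
  haveI : IsScalarTower A k B₀ := IsScalarTower.of_algebraMap_eq fun _ => rfl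
  -- the closed fibre is formally smooth
  have hfs0 : CAlgX.IsAdicFormallySmooth k B₀ (maximalIdeal B₀) := by
    intro E _ _ J hJ ψ hψ
    obtain ⟨n, hn⟩ := hψ
    letI : Algebra A E := ((algebraMap k E).comp (residue A)).toAlgebra
    haveI : IsScalarTower A k E := IsScalarTower.of_algebraMap_eq fun _ => rfl
    obtain ⟨w, hw⟩ := hfs E J hJ ((ψ.restrictScalars A).comp (Ideal.Quotient.mkₐ A mB)) ⟨n, fun b hb =>
      hn _ ((Ideal.pow_right_mono (IsLocalRing.map_maximalIdeal_of_surjective _
        Ideal.Quotient.mk_surjective).le n) (Ideal.map_pow (Ideal.Quotient.mk mB) _ n ▸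
          Ideal.mem_map_of_mem _ hb))⟩
    have h0 : ∀ b ∈ mB, w b = 0 := fun b hb => by
      have hle : mB ≤ RingHom.ker w.toRingHom := Ideal.map_le_iff_le_comap.2 fun a ha => by
        rw [Ideal.mem_comap, RingHom.mem_ker]
        show w (algebraMap A B a) = 0
        rw [AlgHom.commutes]
        show algebraMap k E (residue A a) = 0
        rw [(residue_eq_zero_iff a).2 ha, map_zero]
      exact hle hb
    refine ⟨{ Ideal.Quotient.lift mB w.toRingHom h0 with commutes' := fun x => ?_ }, AlgHom.ext fun y => ?_⟩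
    · obtain ⟨a, rfl⟩ := residue_surjective x
      exact w.commutes a
    · obtain ⟨b, rfl⟩ := Ideal.Quotient.mk_surjective y
      exact AlgHom.congr_fun hw b
  let κ := ResidueField B₀
  haveI : Algebra.IsGeometricallyReduced k κ := by
    let f : ResidueField B →+* κ := ResidueField.map (Ideal.Quotient.mk mB)
    have hf : Function.Bijective f := ⟨f.injective, fun y => by
      obtain ⟨z, rfl⟩ := residue_surjective y
      obtain ⟨b, rfl⟩ := Ideal.Quotient.mk_surjective z
      exact ⟨residue B b, rfl⟩⟩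
    let g : ResidueField B ≃ₐ[k] κ := AlgEquiv.ofRingEquiv (f := RingEquiv.ofBijective f hf) fun x => by
      obtain ⟨a, rfl⟩ := residue_surjective x
      rfl
    exact Algebra.IsGeometricallyReduced.of_injective g.symm.toAlgHom g.symm.injective
  obtain ⟨n, e, he⟩ := RegFS6.exists_cpl_equiv_powerSeries_over hfs0
  let e₀ : B₀ ≃+* MvPowerSeries (Fin n) κ :=
    (RingEquiv.ofBijective (algebraMap B₀ (EGA4.Cpl B₀)) ((AdicCompletion.of_bijective (maximalIdeal B₀) B₀))).trans e
  have he₀ : ∀ x : k, e₀ (algebraMap k B₀ x) = MvPowerSeries.C (algebraMap k κ x) := fun x => he x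
  -- the Cohen algebra and the standard model
  obtain ⟨C, _, _, _, _, ⟨-, hCn, hCc, hCfl, hCm, -⟩, ⟨eC⟩⟩ := Cohen4.exists_cohenAlgebra (A := A) κ
  haveI := hCn
  haveI := hCc
  haveI := hCfl
  let R := MvPowerSeries (Fin n) C
  haveI : IsNoetherianRing R := inferInstance
  haveI : IsAdicComplete (maximalIdeal R) R := CohenLib.isAdicComplete_mvPowerSeries
  haveI : Module.Flat C R := CplFib6.flat_mvPowerSeries C n
  haveI : Module.Flat A R := Module.Flat.trans A C R
  haveI : IsLocalHom (algebraMap A R) := by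
    haveI := CplFib6.isLocalHom_algebraMap C n
    rw [IsScalarTower.algebraMap_eq A C R]
    exact RingHom.isLocalHom_comp _ _
  let φ : C →+* κ := eC.toRingEquiv.toRingHom.comp (residue C)
  have hφs : Function.Surjective φ := eC.surjective.comp residue_surjective
  have hφk : ∀ a : A, φ (algebraMap A C a) = algebraMap k κ (residue A a) := fun a => eC.commutes (residue A a)
  have hφker : RingHom.ker φ = maximalIdeal C :=
    IsLocalRing.eq_maximalIdeal (RingHom.ker_isMaximal_of_surjective φ hφs)
  let π₀ : R →+* B₀ := e₀.symm.toRingHom.comp (MvPowerSeries.map φ)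
  have hπ₀ : ∀ a : A, π₀ (algebraMap A R a) = algebraMap A B₀ a := fun a => by
    refine e₀.injective ?_
    rw [show e₀ (π₀ (algebraMap A R a)) = MvPowerSeries.map φ (algebraMap A R a) from e₀.apply_symm_apply _,
      IsScalarTower.algebraMap_apply A C R, IsScalarTower.algebraMap_apply A k B₀, he₀]
    show MvPowerSeries.map φ (MvPowerSeries.C (algebraMap A C a)) = _
    rw [MvPowerSeries.map_C, hφk]
    rfl
  let π : R →ₐ[A] B₀ := { π₀ with commutes' := hπ₀ }
  have hπs : Function.Surjective π := e₀.symm.surjective.comp fun g =>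
    ⟨(show R from fun d => Function.surjInv hφs (MvPowerSeries.coeff d g)), MvPowerSeries.ext fun d =>
      (MvPowerSeries.coeff_map φ d _).trans (Function.surjInv_eq hφs _)⟩
  have hker : RingHom.ker π = (maximalIdeal A).map (algebraMap A R) := by
    have h1 : RingHom.ker π = RingHom.ker (MvPowerSeries.map (σ := Fin n) φ) := Ideal.ext fun r => by
      rw [RingHom.mem_ker, RingHom.mem_ker]
      exact map_eq_zero_iff e₀.symm e₀.symm.injective
    rw [h1, ParaF2.ker_mvPowerSeries_map φ (IsNoetherian.noetherian _), hφker, ← hCm, Ideal.map_map]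
    refine congrArg (fun f => Ideal.map f (maximalIdeal A)) (RingHom.ext fun a => ?_)
    rw [IsScalarTower.algebraMap_apply A C R]
    rfl
  haveI : IsLocalRing (A ⧸ maximalIdeal A) :=
    IsLocalRing.of_surjective' (Ideal.Quotient.mk (maximalIdeal A)) Ideal.Quotient.mk_surjective
  letI : Algebra (A ⧸ maximalIdeal A) B₀ := algk
  haveI : IsScalarTower A (A ⧸ maximalIdeal A) B₀ := IsScalarTower.of_algebraMap_eq fun _ => rfl
  haveI : IsLocalHom (algebraMap (A ⧸ maximalIdeal A) B₀) := ⟨fun z hz => by
    letI := Ideal.Quotient.field (maximalIdeal A)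
    refine IsUnit.mk0 z fun h0 => hz.ne_zero ?_
    rw [h0, map_zero]⟩
  obtain ⟨v, -⟩ := RegFS6.exists_equiv_of_flat_lifts (maximalIdeal A) le_rfl (B := R) (B' := B) π hπs hker
    (Ideal.Quotient.mkₐ A mB) (Ideal.Quotient.mkₐ_surjective A mB) (Ideal.Quotient.mkₐ_ker A mB) hfs0
  -- the number of variables is positive
  obtain ⟨m, rfl⟩ : ∃ m, n = m + 1 := by
    refine Nat.exists_eq_succ_of_ne_zero fun hn => ?_
    subst hn
    have h := Cohen4.dim_eq_of_flat (A := A) (B := B)
    rw [ringKrullDim_eq_of_ringEquiv (R := B₀) e₀, PSLib.ringKrullDim_eq] at h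
    simp only [Nat.cast_zero, add_zero] at h
    exact absurd hdim (h ▸ lt_irrefl _)
  haveI : IsLocalHom (algebraMap A C) := ⟨fun a ha => isUnit_of_map_unit (algebraMap A R) a (by
    rw [IsScalarTower.algebraMap_apply A C R]; exact ha.map _)⟩
  exact purityHolds_of_ringEquiv v.toRingEquiv
    (purityHolds_powerSeries C (ParaF2.le_depth_of_flat A C (n := 2) hA) (m + 1) (by omega))

/-- The complete case with a residue field of finite radicial multiplicity. -/
theorem purityHolds_of_complete (A B : Type u) [CommRing A] [CommRing B] [IsLocalRing A]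
    [IsLocalRing B] [IsNoetherianRing A] [IsNoetherianRing B] [Algebra A B] [IsLocalHom (algebraMap A B)]
    [IsAdicComplete (maximalIdeal B) B]
    (hfs : EGA41.IsFormallySmoothAdic A (maximalIdeal A) B (maximalIdeal B))
    (hdim : ringKrullDim A < ringKrullDim B) (hA : (2 : ℕ∞) ≤ LocCoh.depth A A)
    (k' : Type u) [Field k'] [Algebra (ResidueField A) k'] [Module.Finite (ResidueField A) k']
    [IsPurelyInseparable (ResidueField A) k']
    (hsep : Algebra.IsGeometricallyReduced k'
      ((k' ⊗[ResidueField A] ResidueField B) ⧸ nilradical (k' ⊗[ResidueField A] ResidueField B))) :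
    FEt.PurityHolds B := by
  haveI : Module.Flat A B := RegFS6.flat_of_fs
    (ParaF2.fs_of_isFormallySmoothAdic (IsLocalRing.map_maximalIdeal_le _) hfs)
  obtain ⟨A', _, _, hA'loc, hA'hom, hA'flat, hA'fin, e, he⟩ := S2366.result (A := A) k'
  haveI := hA'loc
  haveI := hA'hom
  haveI := hA'flat
  haveI := hA'fin
  haveI : IsNoetherianRing A' := IsNoetherianRing.of_finite A A'
  let k := ResidueField A
  let K := ResidueField B
  let mA' : Ideal A' := (maximalIdeal A).map (algebraMap A A')
  have hmA' : mA' = maximalIdeal A' :=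
    IsLocalRing.eq_maximalIdeal (Ideal.Quotient.maximal_of_isField _ (e.isField (Field.toIsField k')))
  let B' := A' ⊗[A] B
  let j : B →ₐ[A] B' := Algebra.TensorProduct.includeRight
  letI algB : Algebra B B' := Algebra.TensorProduct.rightAlgebra
  let eB : B ⊗[A] A' ≃ₐ[B] B' := AlgEquiv.ofRingEquiv
    (f := (Algebra.TensorProduct.comm A B A').toRingEquiv) fun b => by
      show Algebra.TensorProduct.comm A B A' (b ⊗ₜ[A] (1 : A')) = _
      rw [Algebra.TensorProduct.comm_tmul]
      rfl
  haveI : Module.Finite B B' := Module.Finite.equiv eB.toLinearEquiv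
  haveI : Module.Flat B B' := Module.Flat.of_linearEquiv eB.symm.toLinearEquiv
  haveI : IsNoetherianRing B' := IsNoetherianRing.of_finite B B'
  haveI : Algebra.IsIntegral B B' := Algebra.IsIntegral.of_finite B B'
  haveI : Module.FaithfullyFlat A A' := Module.FaithfullyFlat.of_flat_of_isLocalHom
  haveI : Nontrivial B' := inferInstance
  -- every maximal ideal lies over the closed points
  let J : Ideal B' := (maximalIdeal A).map (algebraMap A B') ⊔ (maximalIdeal B).map (algebraMap B B')
  have hJQ : ∀ Q : Ideal B', Q.IsMaximal → J ≤ Q := fun Q hQ => by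
    have h1 : Q.comap (algebraMap B B') = maximalIdeal B :=
      IsLocalRing.eq_maximalIdeal (Ideal.isMaximal_comap_of_isIntegral_of_isMaximal Q)
    refine sup_le ?_ (Ideal.map_le_iff_le_comap.2 h1.ge)
    rw [Ideal.map_le_iff_le_comap]
    intro a ha
    rw [Ideal.mem_comap, ← j.commutes a]
    exact h1.ge (map_nonunit (algebraMap A B) a ha)
  haveI : Nontrivial (B' ⧸ J) := by
    obtain ⟨Q, hQ⟩ := Ideal.exists_maximal B'
    exact Ideal.Quotient.nontrivial_iff.2 (ne_top_of_le_ne_top hQ.ne_top (hJQ Q hQ))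
  -- the residue ring is a quotient of `k' ⊗ K`
  letI : Algebra k (B' ⧸ J) := (Ideal.Quotient.lift (maximalIdeal A)
    ((Ideal.Quotient.mk J).comp (algebraMap A B')) fun a ha => Ideal.Quotient.eq_zero_iff_mem.2
      (Ideal.mem_sup_left (Ideal.mem_map_of_mem _ ha))).toAlgebra
  let g₁ : A' ⧸ mA' →+* B' ⧸ J := Ideal.Quotient.lift _ ((Ideal.Quotient.mk J).comp (algebraMap A' B'))
    fun a ha => by
      have hle : mA' ≤ RingHom.ker ((Ideal.Quotient.mk J).comp (algebraMap A' B')) :=
        Ideal.map_le_iff_le_comap.2 fun x hx => Ideal.Quotient.eq_zero_iff_mem.2 (Ideal.mem_sup_left (by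
          rw [← IsScalarTower.algebraMap_apply A A' B']
          exact Ideal.mem_map_of_mem _ hx))
      exact hle ha
  have hg₁ : ∀ c : k, g₁.comp e.symm.toRingHom (algebraMap k k' c) = algebraMap k (B' ⧸ J) c := by
    intro c
    obtain ⟨a, rfl⟩ := residue_surjective c
    show g₁ (e.symm (algebraMap k k' (residue A a))) = _
    rw [← he a, RingEquiv.symm_apply_apply]
    show Ideal.Quotient.mk J (algebraMap A' B' (algebraMap A A' a)) = _
    rw [← IsScalarTower.algebraMap_apply A A' B']
    rfl
  let f₁ : k' →ₐ[k] B' ⧸ J := { g₁.comp e.symm.toRingHom with commutes' := hg₁ }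
  let g₂ : K →+* B' ⧸ J := Ideal.Quotient.lift (maximalIdeal B) ((Ideal.Quotient.mk J).comp (algebraMap B B'))
    fun b hb => Ideal.Quotient.eq_zero_iff_mem.2 (Ideal.mem_sup_right (Ideal.mem_map_of_mem _ hb))
  have hg₂ : ∀ c : k, g₂ (algebraMap k K c) = algebraMap k (B' ⧸ J) c := by
    intro c
    obtain ⟨a, rfl⟩ := residue_surjective c
    show Ideal.Quotient.mk J (j (algebraMap A B a)) = _
    rw [j.commutes a]
    rfl
  let f₂ : K →ₐ[k] B' ⧸ J := { g₂ with commutes' := hg₂ }
  let ψ : k' ⊗[k] K →ₐ[k] B' ⧸ J := Algebra.TensorProduct.lift f₁ f₂ fun _ _ => Commute.all _ _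
  have hψ : Function.Surjective ψ := by
    rw [← AlgHom.range_eq_top, eq_top_iff]
    rintro z -
    obtain ⟨z, rfl⟩ := Ideal.Quotient.mk_surjective z
    induction z using TensorProduct.induction_on with
    | zero => rw [map_zero]; exact zero_mem _
    | add x y hx hy => rw [map_add]; exact add_mem hx hy
    | tmul a b =>
      refine ⟨e (Ideal.Quotient.mk _ a) ⊗ₜ residue B b, ?_⟩
      show Algebra.TensorProduct.lift f₁ f₂ _ (e (Ideal.Quotient.mk _ a) ⊗ₜ residue B b) = _
      rw [Algebra.TensorProduct.lift_tmul]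
      show g₁ (e.symm (e (Ideal.Quotient.mk _ a))) * g₂ (residue B b) = _
      rw [RingEquiv.symm_apply_apply]
      show Ideal.Quotient.mk J (algebraMap A' B' a) * Ideal.Quotient.mk J (algebraMap B B' b) = _
      rw [← map_mul, Algebra.TensorProduct.algebraMap_apply, Algebra.algebraMap_self, RingHom.id_apply,
        RingHom.algebraMap_toAlgebra]
      refine congrArg _ ?_
      show (a ⊗ₜ[A] (1 : B)) * ((1 : A') ⊗ₜ[A] b) = _
      rw [Algebra.TensorProduct.tmul_mul_tmul, mul_one, one_mul]
  have hu : ∀ z : B' ⧸ J, IsUnit z ∨ IsNilpotent z := fun z => by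
    obtain ⟨x, rfl⟩ := hψ z
    exact (ParaF2.isUnit_or_isNilpotent_tensor x).imp (·.map ψ) (·.map ψ)
  haveI : IsLocalRing B' := by
    obtain ⟨Q, hQ⟩ := Ideal.exists_maximal B'
    refine IsLocalRing.of_unique_max_ideal ⟨Q, hQ, fun P hP => hP.eq_of_le hQ.ne_top fun z hz => ?_⟩
    rcases hu (Ideal.Quotient.mk J z) with h | ⟨n, hn⟩
    · refine absurd ?_ hP.ne_top
      obtain ⟨w, hw⟩ := h.exists_left_inv
      obtain ⟨w, rfl⟩ := Ideal.Quotient.mk_surjective w
      rw [← map_mul, ← map_one (Ideal.Quotient.mk J), Ideal.Quotient.eq] at hw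
      exact (Ideal.eq_top_iff_one _).2 (by simpa using P.sub_mem (P.mul_mem_left w hz) (hJQ P hP hw))
    · rw [← map_pow, Ideal.Quotient.eq_zero_iff_mem] at hn
      exact hQ.isPrime.mem_of_pow_mem n (hJQ Q hQ hn)
  let m' := maximalIdeal B'
  have hJm : J ≤ m' := hJQ _ (maximalIdeal.isMaximal _)
  have hmJ : m' ≤ J.radical := fun z hz => by
    rcases hu (Ideal.Quotient.mk J z) with h | ⟨n, hn⟩
    · obtain ⟨w, hw⟩ := h.exists_left_inv
      obtain ⟨w, rfl⟩ := Ideal.Quotient.mk_surjective w
      rw [← map_mul, ← map_one (Ideal.Quotient.mk J), Ideal.Quotient.eq] at hw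
      exact absurd ((Ideal.eq_top_iff_one _).2 (by simpa using m'.sub_mem (m'.mul_mem_left w hz) (hJm hw)))
        (maximalIdeal.isMaximal _).ne_top
    · exact ⟨n, by rwa [← map_pow, Ideal.Quotient.eq_zero_iff_mem] at hn⟩
  have hJB : J = (maximalIdeal B).map (algebraMap B B') := by
    refine sup_eq_right.2 (Ideal.map_le_iff_le_comap.2 fun a ha => ?_)
    rw [Ideal.mem_comap, ← j.commutes a]
    exact Ideal.mem_map_of_mem _ (map_nonunit (algebraMap A B) a ha)
  haveI : IsLocalHom (algebraMap B B') := ((local_hom_TFAE _).out 0 2).mpr (hJB.ge.trans hJm)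
  haveI : IsLocalHom (algebraMap A' B') := by
    refine ((local_hom_TFAE _).out 0 2).mpr ?_
    rw [← hmA', Ideal.map_map, ← IsScalarTower.algebraMap_eq A A' B']
    exact le_sup_left.trans hJm
  -- completeness
  haveI : IsAdicComplete (maximalIdeal B') B' := by
    have h1 : IsAdicComplete (maximalIdeal B) B' := Adic7.isAdicComplete_of_finite _ _
    have h2 := (IsAdicComplete.map_algebraMap_iff (S := B') (maximalIdeal B) B').mpr h1
    rw [← hJB] at h2
    obtain ⟨N, hN⟩ := Ideal.exists_pow_le_of_le_radical_of_fg hmJ (IsNoetherian.noetherian _)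
    exact ParaF2.isAdicComplete_of_equivalent hJm hN h2
  -- formal smoothness
  have hfs' : CAlgX.IsAdicFormallySmooth A' B' (maximalIdeal B') := by
    have h1 := S4535.result (A' := A') (maximalIdeal A) (maximalIdeal B) (maximalIdeal A')
      ⟨1, by rw [pow_one]; exact hmA'.le⟩ hfs
    refine ParaF2.fs_of_isFormallySmoothAdic (IsLocalRing.map_maximalIdeal_le _) fun E _ _ I hI hk u hu => ?_
    obtain ⟨n, hn⟩ := hu
    refine h1 E I hI hk u ⟨n, fun x hx => hn x (Ideal.pow_right_mono (sup_le (IsLocalRing.map_maximalIdeal_le _) ?_) n hx)⟩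
    rw [Ideal.map_le_iff_le_comap]
    intro b hb
    exact hJm (Ideal.mem_sup_right (Ideal.mem_map_of_mem (algebraMap B B') hb))
  -- the residue extension is separable
  haveI : Algebra.IsGeometricallyReduced (ResidueField A') (ResidueField B') := by
    let Ψ : k' ⊗[k] K →+* ResidueField B' :=
      (Ideal.Quotient.lift J (residue B') fun z hz => (residue_eq_zero_iff z).2 (hJm hz)).comp ψ.toRingHom
    have hΨs : Function.Surjective Ψ := fun y => by
      obtain ⟨z, rfl⟩ := residue_surjective y
      obtain ⟨x, hx⟩ := hψ (Ideal.Quotient.mk J z)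
      exact ⟨x, (congrArg _ hx).trans rfl⟩
    have hΨk : RingHom.ker Ψ = nilradical (k' ⊗[k] K) := by
      refine le_antisymm (fun x hx => ?_) fun x ⟨n, hn⟩ => ?_
      · refine (ParaF2.isUnit_or_isNilpotent_tensor x).resolve_left fun h => ?_
        exact (h.map Ψ).ne_zero hx
      · rw [RingHom.mem_ker]
        exact IsNilpotent.eq_zero ⟨n, by rw [← map_pow, hn, map_zero]⟩
    let T := (k' ⊗[k] K) ⧸ nilradical (k' ⊗[k] K)
    let eT : T ≃+* ResidueField B' :=
      (Ideal.quotEquivOfEq hΨk.symm).trans (RingHom.quotientKerEquivOfSurjective hΨs)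
    let ek : ResidueField A' ≃+* k' := (Ideal.quotEquivOfEq hmA'.symm).trans e
    refine ParaF2.isGeometricallyReduced_of_equiv ek eT.symm (fun x => ?_) hsep
    obtain ⟨a, rfl⟩ := residue_surjective x
    refine eT.symm_apply_eq.2 ?_
    show residue B' (algebraMap A' B' a) = Ψ (algebraMap k' (k' ⊗[k] K) (e (Ideal.Quotient.mk _ a)))
    symm
    have h1 : ψ (e (Ideal.Quotient.mk _ a) ⊗ₜ (1 : K)) = Ideal.Quotient.mk J (algebraMap A' B' a) := by
      show Algebra.TensorProduct.lift f₁ f₂ (fun _ _ => Commute.all _ _) _ = _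
      rw [Algebra.TensorProduct.lift_tmul, map_one, mul_one]
      show g₁ (e.symm (e (Ideal.Quotient.mk _ a))) = _
      rw [RingEquiv.symm_apply_apply]
      rfl
    exact (congrArg (Ideal.Quotient.lift J (residue B') fun z hz => (residue_eq_zero_iff z).2 (hJm hz)) h1).trans rfl
  -- dimension
  have hd : ringKrullDim A' < ringKrullDim B' := by
    haveI : Nontrivial (A' ⧸ mA') := Ideal.Quotient.nontrivial_iff.2 (hmA' ▸ (maximalIdeal.isMaximal A').ne_top)
    haveI : IsLocalRing (A' ⧸ mA') := IsLocalRing.of_surjective' (Ideal.Quotient.mk mA') Ideal.Quotient.mk_surjective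
    have h1 := Cohen4.dim_eq_of_flat (A := A) (B := A')
    rw [ringKrullDim_eq_zero_of_isField (e.isField (Field.toIsField k')), add_zero] at h1
    have h2 : ringKrullDim B ≤ ringKrullDim B' := by
      let I : Ideal B' := (maximalIdeal B).map (algebraMap B B')
      haveI : Nontrivial (B' ⧸ I) := Ideal.Quotient.nontrivial_iff.2
        (ne_top_of_le_ne_top (maximalIdeal.isMaximal B').ne_top (IsLocalRing.map_maximalIdeal_le _))
      haveI : IsLocalRing (B' ⧸ I) := IsLocalRing.of_surjective' (Ideal.Quotient.mk I) Ideal.Quotient.mk_surjective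
      rw [Cohen4.dim_eq_of_flat (A := B) (B := B')]
      exact le_add_of_nonneg_right ringKrullDim_nonneg_of_nontrivial
    exact h1 ▸ hdim.trans_le h2
  refine purityHolds_of_faithfullyFlat B B' (ParaF2.le_depth_of_flat A B (n := 2) hA) (fun P hP hle => ?_)
    (purityHolds_complete A' B' hfs' hd (ParaF2.le_depth_of_flat A A' (n := 2) hA))
  refine (le_antisymm (IsLocalRing.le_maximalIdeal hP.ne_top) (hmJ.trans ?_))
  rw [hJB]
  exact hP.radical_le_iff.2 hle

/-- Purity of formally smooth local algebras with finite residue extension. -/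
theorem purityHolds_of_fs_finite_residue (A B : Type u) [CommRing A] [CommRing B]
    [IsNoetherianRing A] [IsLocalRing A] [IsNoetherianRing B] [IsLocalRing B] [Algebra A B]
    [IsLocalHom (algebraMap A B)] [Module.Flat A B]
    [Module.Finite (IsLocalRing.ResidueField A) (IsLocalRing.ResidueField B)]
    (hfs : EGA41.IsFormallySmoothAdic A (IsLocalRing.maximalIdeal A) B (IsLocalRing.maximalIdeal B))
    (hdim : ringKrullDim A < ringKrullDim B) (hA : (2 : ℕ∞) ≤ LocCoh.depth A A) :
    FEt.PurityHolds B := by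
  classical
  obtain ⟨k', _, _, hfin, hpi, hsep⟩ := ParaF2.exists_insep_separable (IsLocalRing.ResidueField A) (IsLocalRing.ResidueField B)
  haveI := hfin
  haveI := hpi
  haveI := Groth.Agent.FlatLoc6.isLocalRing_cpl B
  haveI := Groth.Agent.FlatLoc6.isNoetherianRing_cpl B
  haveI := Groth.Agent.CplFib6.isAdicComplete_cpl B
  have hm : IsLocalRing.maximalIdeal (EGA4.Cpl B) =
      (IsLocalRing.maximalIdeal B).map (algebraMap B (EGA4.Cpl B)) :=
    AdicCompletion.maximalIdeal_eq_map_of_fg (IsNoetherian.noetherian _)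
  haveI : IsLocalHom (algebraMap B (EGA4.Cpl B)) := ((IsLocalRing.local_hom_TFAE _).out 0 2).mpr hm.ge
  haveI : Module.Flat B (EGA4.Cpl B) := AdicCompletion.flat_of_isNoetherian _
  haveI : IsScalarTower A B (EGA4.Cpl B) := IsScalarTower.of_algebraMap_eq fun _ => rfl
  haveI : IsLocalHom (algebraMap A (EGA4.Cpl B)) := by
    rw [IsScalarTower.algebraMap_eq A B (EGA4.Cpl B)]
    exact RingHom.isLocalHom_comp _ _
  have hfs' : EGA41.IsFormallySmoothAdic A (IsLocalRing.maximalIdeal A) (EGA4.Cpl B)
      (IsLocalRing.maximalIdeal (EGA4.Cpl B)) :=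
    hm.symm ▸ (Groth.Agent.S2461.result _ (IsLocalRing.maximalIdeal B)).1 hfs
  have hdim' : ringKrullDim A < ringKrullDim (EGA4.Cpl B) := by
    refine hdim.trans_le ?_
    let I := (IsLocalRing.maximalIdeal B).map (algebraMap B (EGA4.Cpl B))
    haveI : Nontrivial (EGA4.Cpl B ⧸ I) := Ideal.Quotient.nontrivial_iff.2
      (fun h => (IsLocalRing.maximalIdeal.isMaximal (EGA4.Cpl B)).ne_top (hm.trans h))
    haveI : IsLocalRing (EGA4.Cpl B ⧸ I) :=
      IsLocalRing.of_surjective' (Ideal.Quotient.mk I) Ideal.Quotient.mk_surjective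
    rw [Groth.Agent.Cohen4.dim_eq_of_flat (A := B) (B := EGA4.Cpl B)]
    exact le_add_of_nonneg_right ringKrullDim_nonneg_of_nontrivial
  refine purityHolds_of_faithfullyFlat B (EGA4.Cpl B) (ParaF2.le_depth_of_flat A B (n := 2) hA)
    (fun P hP hle => ?_) ?_
  · exact ((IsLocalRing.maximalIdeal.isMaximal _).eq_of_le hP.ne_top (hm.le.trans hle)).symm
  refine purityHolds_of_complete A (EGA4.Cpl B) hfs' hdim' hA k' ?_
  let k := IsLocalRing.ResidueField A
  let f := IsLocalRing.ResidueField.map (algebraMap B (EGA4.Cpl B))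
  have hf : Function.Bijective f := ⟨f.injective, fun y => by
    obtain ⟨x, rfl⟩ := IsLocalRing.residue_surjective y
    obtain ⟨a, ha⟩ := Groth.Agent.CplFib6.exists_sub_mem B x
    exact ⟨IsLocalRing.residue B a, ((IsLocalRing.residue_eq_zero_iff _).2 ha |> fun h =>
      (sub_eq_zero.mp ((map_sub _ _ _).symm.trans h))).symm⟩⟩
  let eK : IsLocalRing.ResidueField B ≃ₐ[k] IsLocalRing.ResidueField (EGA4.Cpl B) :=
    AlgEquiv.ofRingEquiv (f := RingEquiv.ofBijective f hf) fun c => by
      obtain ⟨a, rfl⟩ := IsLocalRing.residue_surjective c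
      rfl
  let eT : k' ⊗[k] IsLocalRing.ResidueField B ≃ₐ[k'] k' ⊗[k] IsLocalRing.ResidueField (EGA4.Cpl B) :=
    Algebra.TensorProduct.congr AlgEquiv.refl eK
  have hnil : nilradical (k' ⊗[k] IsLocalRing.ResidueField (EGA4.Cpl B)) =
      (nilradical (k' ⊗[k] IsLocalRing.ResidueField B)).map (eT : _ →ₐ[k'] _) := by
    refine le_antisymm (fun x hx => ?_) (Ideal.map_le_iff_le_comap.2 fun x hx => ?_)
    · rw [← eT.apply_symm_apply x]
      exact Ideal.mem_map_of_mem _ ((mem_nilradical.1 hx).map eT.symm)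
    · exact (mem_nilradical.1 hx).map eT
  let eQ := Ideal.quotientEquivAlg (nilradical (k' ⊗[k] IsLocalRing.ResidueField B))
    (nilradical (k' ⊗[k] IsLocalRing.ResidueField (EGA4.Cpl B))) eT hnil
  exact Algebra.IsGeometricallyReduced.of_injective eQ.symm.toAlgHom eQ.symm.injective

end Groth.Agent.PurX
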