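import Mathlib.RingTheory.Spectrum.Prime.Topology
import Mathlib.RingTheory.Localization.Away.Basic
import Mathlib.RingTheory.Idempotents
import Mathlib.Tactic.LinearCombination

/-!
# Clopen subsets of punctured spectra as compatible families of numerators

For a finite family `h : ι → D` the open subset `punct h` of `Spec D` is the union of the `D(h i)`.
A family `y : ι → D` with `h j * y i = h i * y j` is a section `y i / h i` of the structure sheaf over
it, and if moreover `y i * y i = h i * y i` it is idempotent. `cl h y` is the clopen subset of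
`punct h` cut out by such an idempotent; every clopen subset arises in this way after replacing `h`
by a power.
-/

set_option autoImplicit false
set_option linter.style.haveILetI false

universe u

namespace Groth.Agent.PurX

open PrimeSpectrum

/-- Compatibility of numerators. -/
def Compat {R M : Type*} [CommRing R] [AddCommGroup M] [Module R M] {ι : Type*}
    (h : ι → R) (y : ι → M) : Prop :=
  ∀ i j, h j • y i = h i • y j

section

variable {D : Type u} [CommRing D] {ι : Type*}

/-- Idempotent compatible numerators. -/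
structure IsIdem (h y : ι → D) : Prop where
  compat : Compat h y
  idem : ∀ i, y i * y i = h i * y i

/-- The union of the `D(h i)`. -/
def punct (h : ι → D) : Set (PrimeSpectrum D) := {q | ∃ i, h i ∉ q.asIdeal}

/-- The clopen subset of `punct h` given by idempotent numerators. -/
def cl (h y : ι → D) : Set (PrimeSpectrum D) := {q | ∃ i, h i ∉ q.asIdeal ∧ y i ∉ q.asIdeal}

theorem cl_subset (h y : ι → D) : cl h y ⊆ punct h := fun _ ⟨i, hi, _⟩ => ⟨i, hi⟩

theorem isOpen_cl (h y : ι → D) : IsOpen (cl h y) := by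
  have : cl h y = ⋃ i, (basicOpen (h i) : Set (PrimeSpectrum D)) ∩ basicOpen (y i) := by
    ext q
    simp [cl]
  rw [this]
  exact isOpen_iUnion fun i => (basicOpen (h i)).isOpen.inter (basicOpen (y i)).isOpen

theorem isOpen_punct (h : ι → D) : IsOpen (punct h) := by
  have : punct h = ⋃ i, (basicOpen (h i) : Set (PrimeSpectrum D)) := by
    ext q
    simp [punct]
  rw [this]
  exact isOpen_iUnion fun i => (basicOpen (h i)).isOpen

theorem punct_pow (g : ι → D) {k : ℕ} (hk : 0 < k) : punct (fun i => g i ^ k) = punct g := by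
  ext q
  exact exists_congr fun i => not_congr (q.isPrime.pow_mem_iff_mem k hk)

theorem comap_cl {D' : Type*} [CommRing D'] (φ : D →+* D') (h y : ι → D) :
    comap φ ⁻¹' cl h y = cl (φ ∘ h) (φ ∘ y) := rfl

theorem comap_punct {D' : Type*} [CommRing D'] (φ : D →+* D') (h : ι → D) :
    comap φ ⁻¹' punct h = punct (φ ∘ h) := rfl

theorem IsIdem.mem_iff {h y : ι → D} (H : IsIdem h y) {i j : ι} {q : PrimeSpectrum D}
    (hi : h i ∉ q.asIdeal) (hj : h j ∉ q.asIdeal) : y i ∈ q.asIdeal ↔ y j ∈ q.asIdeal := by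
  have := H.compat i j
  simp only [smul_eq_mul] at this
  constructor
  · intro hy
    exact (q.isPrime.mem_or_mem (this ▸ Ideal.mul_mem_left _ (h j) hy :
      h i * y j ∈ q.asIdeal)).resolve_left hi
  · intro hy
    exact (q.isPrime.mem_or_mem (this.symm ▸ Ideal.mul_mem_left _ (h i) hy :
      h j * y i ∈ q.asIdeal)).resolve_left hj

theorem IsIdem.mem_cl_iff {h y : ι → D} (H : IsIdem h y) {i : ι} {q : PrimeSpectrum D}
    (hi : h i ∉ q.asIdeal) : q ∈ cl h y ↔ y i ∉ q.asIdeal :=
  ⟨fun ⟨_, hj, hy⟩ => fun hyi => hy ((H.mem_iff hi hj).1 hyi), fun hy => ⟨i, hi, hy⟩⟩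

theorem IsIdem.compl {h y : ι → D} (H : IsIdem h y) : IsIdem h (fun i => h i - y i) := by
  refine ⟨fun i j => ?_, fun i => ?_⟩
  · have := H.compat i j
    simp only [smul_eq_mul] at this ⊢
    linear_combination -this
  · linear_combination H.idem i

theorem IsIdem.diff_cl {h y : ι → D} (H : IsIdem h y) : punct h \ cl h y = cl h (fun i => h i - y i) := by
  ext q
  constructor
  · rintro ⟨⟨i, hi⟩, hc⟩
    refine ⟨i, hi, fun hm => hc ⟨i, hi, fun hy => hi ?_⟩⟩
    simpa using add_mem hm hy
  · rintro ⟨i, hi, hm⟩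
    refine ⟨⟨i, hi⟩, fun hc => ?_⟩
    have hy := (H.mem_cl_iff hi).1 hc
    have : y i * (h i - y i) = 0 := by linear_combination -H.idem i
    exact (q.isPrime.mem_or_mem (this ▸ zero_mem _ : y i * (h i - y i) ∈ q.asIdeal)).elim hy hm

theorem IsIdem.isOpen_diff {h y : ι → D} (H : IsIdem h y) : IsOpen (punct h \ cl h y) := by
  rw [H.diff_cl]
  exact isOpen_cl _ _

theorem cube_sub {a b H : D} (ha : a * a = H * a) (hb : b * b = H * b) :
    (a - b) ^ 3 = H ^ 2 * (a - b) := by
  linear_combination (a + H - 3 * b) * ha - (b + H - 3 * a) * hb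

/-- An element `d` with `d³ = H²d` vanishing on `D(H)` is killed by a power of `H`. -/
theorem exists_pow_mul_eq_zero {H d : D} (hd : d ^ 3 = H ^ 2 * d)
    (hq : ∀ q : PrimeSpectrum D, H ∉ q.asIdeal → d ∈ q.asIdeal) : ∃ p : ℕ, H ^ p * d = 0 := by
  have hnil : H * d ∈ nilradical D := by
    rw [nilradical_eq_sInf, Submodule.mem_sInf]
    intro p hp
    by_cases hH : H ∈ p
    · exact Ideal.mul_mem_right _ _ hH
    · exact Ideal.mul_mem_left _ _ (hq ⟨p, hp⟩ hH)
  obtain ⟨s, hs⟩ := hnil
  have key : ∀ n : ℕ, d ^ (2 * n + 1) = H ^ (2 * n) * d := by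
    intro n
    induction n with
    | zero => simp
    | succ n ih =>
      calc d ^ (2 * (n + 1) + 1) = d ^ (2 * n + 1) * d ^ 2 := by ring
        _ = H ^ (2 * n) * d ^ 3 := by rw [ih]; ring
        _ = H ^ (2 * (n + 1)) * d := by rw [hd]; ring
  refine ⟨2 * s + 1 + 2 * s, ?_⟩
  calc H ^ (2 * s + 1 + 2 * s) * d = H ^ (2 * s + 1) * (H ^ (2 * s) * d) := by ring
    _ = (H * d) ^ s * (H ^ (s + 1) * d ^ (s + 1)) := by rw [← key]; ring
    _ = 0 := by rw [hs, zero_mul]

/-- Agreeing idempotent numerators become compatible after multiplying by a power. -/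
theorem exists_pow_compat [Finite ι] {h y : ι → D} (hi : ∀ i, y i * y i = h i * y i)
    (hag : ∀ (i j : ι) (q : PrimeSpectrum D), h i ∉ q.asIdeal → h j ∉ q.asIdeal →
      (y i ∈ q.asIdeal ↔ y j ∈ q.asIdeal)) :
    ∃ p : ℕ, IsIdem (fun i => h i ^ (p + 1)) (fun i => h i ^ p * y i) := by
  classical
  haveI := Fintype.ofFinite ι
  have hp : ∀ ij : ι × ι, ∃ p : ℕ, (h ij.1 * h ij.2) ^ p * (h ij.2 * y ij.1 - h ij.1 * y ij.2) = 0 := by
    rintro ⟨i, j⟩
    refine exists_pow_mul_eq_zero (cube_sub (by linear_combination h j * h j * hi i)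
      (by linear_combination h i * h i * hi j)) fun q hq => ?_
    have hqi : h i ∉ q.asIdeal := fun hm => hq (Ideal.mul_mem_right _ _ hm)
    have hqj : h j ∉ q.asIdeal := fun hm => hq (Ideal.mul_mem_left _ _ hm)
    by_cases hy : y i ∈ q.asIdeal
    · exact sub_mem (Ideal.mul_mem_left _ _ hy) (Ideal.mul_mem_left _ _ ((hag i j q hqi hqj).1 hy))
    · have hy' : y j ∉ q.asIdeal := fun hm => hy ((hag i j q hqi hqj).2 hm)
      have e1 : y i - h i ∈ q.asIdeal :=
        (q.isPrime.mem_or_mem (show y i * (y i - h i) ∈ q.asIdeal by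
          rw [show y i * (y i - h i) = 0 by linear_combination hi i]; exact zero_mem _)).resolve_left hy
      have e2 : y j - h j ∈ q.asIdeal :=
        (q.isPrime.mem_or_mem (show y j * (y j - h j) ∈ q.asIdeal by
          rw [show y j * (y j - h j) = 0 by linear_combination hi j]; exact zero_mem _)).resolve_left hy'
      have := sub_mem (Ideal.mul_mem_left _ (h j) e1) (Ideal.mul_mem_left _ (h i) e2)
      convert this using 1
      ring
  choose p hp using hp
  refine ⟨∑ ij, p ij, fun i j => ?_, fun i => ?_⟩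
  · have hle : p (i, j) ≤ ∑ ij, p ij := Finset.single_le_sum (f := p) (fun _ _ => Nat.zero_le _) (Finset.mem_univ (i, j))
    obtain ⟨r, hr⟩ := Nat.exists_eq_add_of_le hle
    have h0 : (h i * h j) ^ p (i, j) * (h j * y i - h i * y j) = 0 := hp (i, j)
    simp only [smul_eq_mul]
    rw [hr]
    linear_combination (h i * h j) ^ r * h0
  · show h i ^ _ * y i * (h i ^ _ * y i) = h i ^ (_ + 1) * (h i ^ _ * y i)
    linear_combination (h i ^ ∑ ij, p ij) ^ 2 * hi i

/-- Every clopen subset of `punct g` comes from idempotent numerators. -/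
theorem exists_isIdem [Finite ι] (g : ι → D) (C : Set (PrimeSpectrum D)) (hC : IsOpen C)
    (hC' : IsOpen (punct g \ C)) (hsub : C ⊆ punct g) :
    ∃ (k : ℕ) (y : ι → D), 0 < k ∧ IsIdem (fun i => g i ^ k) y ∧ cl (fun i => g i ^ k) y = C := by
  classical
  haveI := Fintype.ofFinite ι
  have loc : ∀ i, ∃ (n : ℕ) (y : D), 0 < n ∧ y * y = g i ^ n * y ∧
      ∀ q : PrimeSpectrum D, g i ∉ q.asIdeal → (q ∈ C ↔ y ∉ q.asIdeal) := by
    intro i
    let L := Localization.Away (g i)
    let π := comap (algebraMap D L)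
    have hr : ∀ s : PrimeSpectrum L, g i ∉ (π s).asIdeal := fun s hm =>
      s.isPrime.ne_top (Ideal.eq_top_of_isUnit_mem _ hm (IsLocalization.Away.algebraMap_isUnit (g i)))
    have hclopen : IsClopen (π ⁻¹' C) := by
      refine ⟨⟨?_⟩, hC.preimage (PrimeSpectrum.continuous_comap _)⟩
      have : (π ⁻¹' C)ᶜ = π ⁻¹' (punct g \ C) := by
        ext s
        exact ⟨fun hs => ⟨⟨i, hr s⟩, hs⟩, fun hs => hs.2⟩
      rw [this]
      exact hC'.preimage (PrimeSpectrum.continuous_comap _)
    obtain ⟨e, he, hes⟩ := PrimeSpectrum.isClopen_iff.1 hclopen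
    obtain ⟨⟨x, ⟨_, n, rfl⟩⟩, hx⟩ := IsLocalization.surj (Submonoid.powers (g i)) e
    simp only at hx
    have h0 : algebraMap D L (x * x) = algebraMap D L (g i ^ n * x) := by
      rw [map_mul, map_mul, ← hx]
      linear_combination (algebraMap D L (g i ^ n)) ^ 2 * he.eq
    obtain ⟨⟨_, m, rfl⟩, hm⟩ := (IsLocalization.eq_iff_exists (Submonoid.powers (g i)) L).1 h0
    simp only at hm
    refine ⟨n + m + 1, g i ^ (m + 1) * x, by omega, ?_, fun q hq => ?_⟩
    · linear_combination (g i ^ (m + 2)) * hm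
    · obtain ⟨s, rfl⟩ : q ∈ Set.range π := by
        rw [PrimeSpectrum.localization_away_comap_range L (g i)]
        exact hq
      have e1 : π s ∈ C ↔ e ∉ s.asIdeal := Set.ext_iff.1 hes s
      rw [e1]
      refine not_congr ?_
      show e ∈ s.asIdeal ↔ algebraMap D L (g i ^ (m + 1) * x) ∈ s.asIdeal
      rw [map_mul, ← hx]
      have hu : IsUnit (algebraMap D L (g i)) := IsLocalization.Away.algebraMap_isUnit (g i)
      rw [Ideal.unit_mul_mem_iff_mem _ (by rw [map_pow]; exact hu.pow _),
        Ideal.mul_unit_mem_iff_mem _ (by rw [map_pow]; exact hu.pow _)]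
  choose n y hn hy hmem using loc
  let N := ∑ i, n i + 1
  have hle : ∀ i, n i ≤ N := fun i =>
    (Finset.single_le_sum (f := n) (fun _ _ => Nat.zero_le _) (Finset.mem_univ i)).trans (Nat.le_succ _)
  have hN : 0 < N := Nat.succ_pos _
  let y' : ι → D := fun i => g i ^ (N - n i) * y i
  have hy'mem : ∀ i (q : PrimeSpectrum D), g i ∉ q.asIdeal → (q ∈ C ↔ y' i ∉ q.asIdeal) := fun i q hq => by
    rw [hmem i q hq]
    refine not_congr ⟨fun hm => Ideal.mul_mem_left _ _ hm, fun hm => (q.isPrime.mem_or_mem hm).resolve_left ?_⟩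
    exact fun h1 => hq (q.isPrime.mem_of_pow_mem _ h1)
  obtain ⟨p, hp⟩ := exists_pow_compat (h := fun i => g i ^ N) (y := y') (fun i => by
      show g i ^ (N - n i) * y i * (g i ^ (N - n i) * y i) = g i ^ N * (g i ^ (N - n i) * y i)
      have : g i ^ N = g i ^ (N - n i) * g i ^ n i := by rw [← pow_add, Nat.sub_add_cancel (hle i)]
      rw [this]
      linear_combination (g i ^ (N - n i)) ^ 2 * hy i)
    (fun i j q hqi hqj => by
      have hi : g i ∉ q.asIdeal := fun hm => hqi (Ideal.pow_mem_of_mem _ hm N hN)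
      have hj : g j ∉ q.asIdeal := fun hm => hqj (Ideal.pow_mem_of_mem _ hm N hN)
      exact not_iff_not.1 ((hy'mem i q hi).symm.trans (hy'mem j q hj)))
  refine ⟨N * (p + 1), fun i => g i ^ (N * p) * y' i, Nat.mul_pos hN p.succ_pos, ?_, ?_⟩
  · simpa only [← pow_mul] using hp
  · ext q
    constructor
    · rintro ⟨i, hi, hyi⟩
      exact (hy'mem i q fun hm => hi (Ideal.pow_mem_of_mem _ hm _ (Nat.mul_pos hN p.succ_pos))).2
        fun hm => hyi (Ideal.mul_mem_left _ _ hm)
    · intro hq
      obtain ⟨i, hi⟩ := hsub hq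
      refine ⟨i, fun hm => hi (q.isPrime.mem_of_pow_mem _ hm), fun hm => ?_⟩
      exact (hy'mem i q hi).1 hq
        ((q.isPrime.mem_or_mem hm).resolve_left fun h1 => hi (q.isPrime.mem_of_pow_mem _ h1))

end

end Groth.Agent.PurX
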