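import Groth.Agent.PurX.CechTrans
import Mathlib.RingTheory.Flat.FaithfullyFlat.Algebra
import Mathlib.RingTheory.Henselian
import Mathlib.RingTheory.Jacobson.Ideal
import Mathlib.Tactic.LinearCombination

/-!
# Idempotents on punctured spectra descend from completions

`D → D'` is faithfully flat and dense for the `J`-adic topology, `J` in the Jacobson radical, and
`(D, I)` is a henselian pair. An idempotent over the punctured spectrum of `D'` whose restriction to
`V(I)` comes from `D` comes from `D`.
-/

set_option autoImplicit false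
set_option linter.style.haveILetI false

universe u

open TensorProduct

namespace Groth.Agent.PurX

section Factor

variable {S : Type u} [CommRing S] {ι : Type}

/-- Elements of `I * span h` times a compatible family are divisible by `h`. -/
theorem exists_factor (h y : ι → S) (hy : Compat h y) (I : Ideal S) {u : S}
    (hu : u ∈ I * Ideal.span (Set.range h)) : ∃ X ∈ I, ∀ i, u * y i = h i * X := by
  refine Submodule.mul_induction_on hu (fun a ha b hb => ?_) ?_
  · have : ∀ b ∈ Ideal.span (Set.range h), ∀ a ∈ I, ∃ X ∈ I, ∀ i, a * b * y i = h i * X := by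
      intro b hb
      induction hb using Submodule.span_induction with
      | mem b hb =>
        obtain ⟨j, rfl⟩ := hb
        intro a ha
        refine ⟨a * y j, I.mul_mem_right _ ha, fun i => ?_⟩
        have := hy i j
        simp only [smul_eq_mul] at this
        linear_combination a * this
      | zero => exact fun a _ => ⟨0, zero_mem _, fun i => by simp⟩
      | add b b' _ _ h1 h2 =>
        intro a ha
        obtain ⟨X, hX, e⟩ := h1 a ha
        obtain ⟨X', hX', e'⟩ := h2 a ha
        exact ⟨X + X', add_mem hX hX', fun i => by linear_combination e i + e' i⟩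
      | smul r b _ h1 =>
        intro a ha
        obtain ⟨X, hX, e⟩ := h1 a ha
        exact ⟨r * X, I.mul_mem_left _ hX, fun i => by rw [smul_eq_mul]; linear_combination r * e i⟩
    exact this b hb a ha
  · rintro a b ⟨X, hX, e⟩ ⟨X', hX', e'⟩
    exact ⟨X + X', add_mem hX hX', fun i => by linear_combination e i + e' i⟩

end Factor

variable {D : Type u} [CommRing D] {D' : Type u} [CommRing D'] [Algebra D D'] [Module.FaithfullyFlat D D']
  {ι : Type} [Fintype ι]

/-- Membership in a submodule of a finite free module descends. -/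
theorem mem_of_mem_span (S : Submodule D (ι → D)) (u : ι → D)
    (h : (fun i => algebraMap D D' (u i)) ∈
      Submodule.span D' ((fun v : ι → D => fun i => algebraMap D D' (v i)) '' S)) : u ∈ S := by
  classical
  let Q := (ι → D) ⧸ S
  let Ψ : (ι → D') →ₗ[D'] D' ⊗[D] Q :=
    Fintype.linearCombination D' fun i => (1 : D') ⊗ₜ[D] (Submodule.Quotient.mk (Pi.single i (1 : D)) : Q)
  have hΨ : ∀ v : ι → D, Ψ (fun i => algebraMap D D' (v i)) = (1 : D') ⊗ₜ[D] (Submodule.Quotient.mk v : Q) := by
    intro v
    simp only [Ψ, Fintype.linearCombination_apply, algebraMap_smul, ← TensorProduct.tmul_smul,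
      ← TensorProduct.tmul_sum]
    congr 1
    simp only [← Submodule.mkQ_apply, ← map_smul]
    rw [← map_sum]
    congr 1
    funext j
    simp [Pi.single_apply]
  have hker : ∀ w ∈ Submodule.span D' ((fun v : ι → D => fun i => algebraMap D D' (v i)) '' S), Ψ w = 0 := by
    intro w hw
    induction hw using Submodule.span_induction with
    | mem w hw =>
      obtain ⟨v, hv, rfl⟩ := hw
      rw [hΨ, (Submodule.Quotient.mk_eq_zero S).2 hv, TensorProduct.tmul_zero]
    | zero => exact map_zero _
    | add a b _ _ ha hb => rw [map_add, ha, hb, add_zero]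
    | smul r a _ ha => rw [map_smul, ha, smul_zero]
  have h0 := hker _ h
  rw [hΨ, Module.FaithfullyFlat.one_tmul_eq_zero_iff] at h0
  exact (Submodule.Quotient.mk_eq_zero S).1 h0

/-- Descent of `u ≡ q x'`. -/
theorem exists_descend (I M : Ideal D) (u q : ι → D) {x' : D'} (hx : x' ∈ M.map (algebraMap D D'))
    (h : ∀ i, algebraMap D D' (u i) - algebraMap D D' (q i) * x' ∈ I.map (algebraMap D D')) :
    ∃ x ∈ M, ∀ i, u i - q i * x ∈ I := by
  classical
  let φ := algebraMap D D'
  let S : Submodule D (ι → D) :=
    { carrier := {v | ∃ x ∈ M, ∀ i, v i - q i * x ∈ I}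
      add_mem' := by
        rintro a b ⟨x, hx, ha⟩ ⟨x', hx', hb⟩
        exact ⟨x + x', add_mem hx hx', fun i => by
          have := add_mem (ha i) (hb i)
          convert this using 1
          simp only [Pi.add_apply]
          ring⟩
      zero_mem' := ⟨0, zero_mem _, fun i => by simp⟩
      smul_mem' := by
        rintro r a ⟨x, hx, ha⟩
        exact ⟨r * x, M.mul_mem_left _ hx, fun i => by
          have := I.mul_mem_left r (ha i)
          convert this using 1
          simp only [Pi.smul_apply, smul_eq_mul]
          ring⟩ }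
  let T := Submodule.span D' ((fun v : ι → D => fun i => φ (v i)) '' S)
  have h1 : (fun i => φ (q i) * x') ∈ T := by
    clear h
    induction hx using Submodule.span_induction with
    | mem z hz =>
      obtain ⟨m, hm, rfl⟩ := hz
      refine Submodule.subset_span ⟨fun i => q i * m, ⟨m, hm, fun i => by simp⟩, ?_⟩
      funext i
      exact map_mul φ _ _
    | zero => convert T.zero_mem using 1; funext i; simp
    | add a b _ _ ha hb => convert T.add_mem ha hb using 1; funext i; simp [mul_add]
    | smul r a _ ha => convert T.smul_mem r ha using 1; funext i; simp [mul_left_comm]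
  have h2 : ∀ (i : ι) (z : D'), z ∈ I.map φ → Pi.single i z ∈ T := by
    intro i z hz
    induction hz using Submodule.span_induction with
    | mem z hz =>
      obtain ⟨m, hm, rfl⟩ := hz
      refine Submodule.subset_span ⟨Pi.single i m, ⟨0, zero_mem _, fun j => ?_⟩, ?_⟩
      · rcases eq_or_ne j i with rfl | hj
        · simpa using hm
        · simp [hj]
      · funext j
        rcases eq_or_ne j i with rfl | hj <;> simp [*]
    | zero => rw [Pi.single_zero]; exact T.zero_mem
    | add a b _ _ ha hb => rw [Pi.single_add]; exact T.add_mem ha hb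
    | smul r a _ ha => rw [Pi.single_smul']; exact T.smul_mem r ha
  have h3 : (fun i => φ (u i)) ∈ T := by
    have h4 := T.sum_mem fun i (_ : i ∈ Finset.univ) => h2 i _ (h i)
    rw [Finset.univ_sum_single] at h4
    convert T.add_mem h4 h1 using 1
    funext i
    simp [φ]
  exact mem_of_mem_span S u h3

/-- Idempotents on punctured spectra descend. -/
theorem exists_isIdem_descend [IsNoetherianRing D] (h : ι → D)
    (hJ : Ideal.span (Set.range h) ≤ Ideal.jacobson (⊥ : Ideal D))
    (hJ' : (Ideal.span (Set.range h)).map (algebraMap D D') ≤ Ideal.jacobson (⊥ : Ideal D'))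
    (happrox : ∀ (n : ℕ) (x : D'), ∃ d : D,
      x - algebraMap D D' d ∈ (Ideal.span (Set.range h) ^ n).map (algebraMap D D'))
    (I : Ideal D) [HenselianRing D I]
    (y : ι → D') (hy : IsIdem (algebraMap D D' ∘ h) y)
    (hI : ∀ i, ∃ t : D, y i - algebraMap D D' t ∈ I.map (algebraMap D D')) :
    ∃ e : ι → D, IsIdem h e ∧
      ∀ i, algebraMap D D' (h i) ^ 2 * (algebraMap D D' (e i) - y i) = 0 := by
  classical
  let J := Ideal.span (Set.range h)
  let φ := algebraMap D D'
  let J' := Ideal.span (Set.range (φ ∘ h))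
  let I' := I.map φ
  have hJeq : ∀ n, (J ^ n).map φ = J' ^ n := fun n => by
    rw [Ideal.map_pow, Ideal.map_span, ← Set.range_comp]
  have hJ'' : J' ≤ Ideal.jacobson (⊥ : Ideal D') := by
    have := hJeq 1
    simp only [pow_one] at this
    exact this ▸ hJ'
  -- Artin-Rees for the torsion modulo `I`
  let K : Ideal D :=
    { carrier := {z | ∀ i, h i ^ 4 * z ∈ I}
      add_mem' := fun ha hb i => by rw [mul_add]; exact add_mem (ha i) (hb i)
      zero_mem' := fun i => by simp
      smul_mem' := fun r z hz i => by rw [smul_eq_mul, mul_left_comm]; exact I.mul_mem_left r (hz i) }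
  obtain ⟨M, hM⟩ : ∃ M : ℕ, J ^ M ≤ Ideal.span (Set.range fun i => h i ^ 4) := by
    refine Ideal.exists_pow_le_of_le_radical_of_fg (Ideal.span_le.2 ?_) (IsNoetherian.noetherian J)
    rintro _ ⟨i, rfl⟩
    exact ⟨4, Ideal.subset_span (Set.mem_range_self i)⟩
  obtain ⟨k, hk⟩ := Ideal.exists_pow_inf_eq_pow_smul J (M := D) K
  have hAR : ∀ z, z ∈ J ^ (k + M) → z ∈ K → z ∈ I := by
    intro z hz hzK
    have : z ∈ J ^ (k + M - k) • (J ^ k • ⊤ ⊓ K) := by
      rw [← hk _ (Nat.le_add_right k M)]
      exact ⟨by simpa using hz, hzK⟩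
    rw [Nat.add_sub_cancel_left] at this
    have h2 : z ∈ J ^ M • K := Submodule.smul_mono le_rfl inf_le_right this
    refine Submodule.smul_induction_on h2 (fun a ha b hb => ?_) (fun a b => add_mem)
    rw [smul_eq_mul]
    refine Submodule.span_induction (fun c ⟨i, hc⟩ => hc ▸ hb i) (by simp)
      (fun c c' _ _ hc hc' => by rw [add_mul]; exact add_mem hc hc')
      (fun r c _ hc => by rw [smul_eq_mul, mul_assoc]; exact I.mul_mem_left r hc) (hM ha)
  let N := k + M + 1
  -- approximate
  obtain ⟨q, sol, d', hsol, hd'⟩ := exists_compat_combination (R := D) (S := D') h y fun i j => by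
    have := hy.compat i j
    simp only [Function.comp_apply, smul_eq_mul] at this
    simpa [Algebra.smul_def] using this
  choose d hd using fun t => happrox (N + 2) (d' t)
  let c : ι → D := fun i => ∑ t, d t * sol t i
  have hc : Compat h c := fun i j => by
    simp only [c, smul_eq_mul, Finset.mul_sum]
    refine Finset.sum_congr rfl fun t _ => ?_
    have := hsol t i j
    simp only [smul_eq_mul] at this
    linear_combination d t * this
  have hX : ∀ t, ∃ X ∈ J' ^ (N + 1), ∀ i, (d' t - φ (d t)) * φ (sol t i) = φ (h i) * X := fun t => by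
    refine exists_factor (φ ∘ h) (φ ∘ sol t) (fun i j => ?_) _ ?_
    · simp only [Function.comp_apply, smul_eq_mul, ← map_mul]
      exact congrArg φ (hsol t i j)
    · rw [← pow_succ, ← hJeq]
      exact hd t
  choose Xt hXt hXe using hX
  let X := ∑ t, Xt t
  have hXm : X ∈ J' ^ (N + 1) := sum_mem fun t _ => hXt t
  have hyc : ∀ i, y i = φ (c i) + φ (h i) * X := fun i => by
    rw [hd' i]
    simp only [c, X, map_sum, map_mul, Finset.mul_sum, ← hXe, ← Finset.sum_add_distrib, Algebra.smul_def]
    exact Finset.sum_congr rfl fun t _ => by ring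
  obtain ⟨Y, hYm, hY⟩ := exists_factor (φ ∘ h) y hy.compat (J' ^ N) (u := X) (by rwa [← pow_succ])
  have hXN : X ∈ J' ^ N := Ideal.pow_le_pow_right (Nat.le_succ N) hXm
  -- the defect
  obtain ⟨a, ham, ha⟩ := exists_descend (D' := D') ⊥ (J ^ N) (fun i => c i ^ 2 - h i * c i) (fun i => h i ^ 2)
    (x' := X ^ 2 + X - 2 * Y) (by
      rw [hJeq]
      exact sub_mem (add_mem (by rw [sq]; exact Ideal.mul_mem_left _ _ hXN) hXN) (Ideal.mul_mem_left _ _ hYm))
    fun i => by
      rw [Ideal.map_bot, Ideal.mem_bot]
      have e1 := hy.idem i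
      have e2 := hY i
      simp only [Function.comp_apply] at e1 e2
      have e3 := hyc i
      simp only [map_sub, map_pow, map_mul]
      linear_combination e1 - 2 * φ (h i) * e2 - (y i + φ (c i) - φ (h i) - φ (h i) * X) * e3
  -- the root modulo `I`
  choose t ht using hI
  have hT : ∀ i, t i * t i - h i * t i ∈ I := fun i => by
    rw [← Ideal.comap_map_eq_self_of_faithfullyFlat (B := D') I]
    show φ (t i * t i - h i * t i) ∈ I'
    have : φ (t i * t i - h i * t i) = (y i * y i - φ (h i) * y i) - (y i - φ (t i)) * (y i + φ (t i) - φ (h i)) := by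
      simp only [map_sub, map_mul]
      ring
    rw [this, hy.idem i, Function.comp_apply, sub_self, zero_sub]
    exact neg_mem (Ideal.mul_mem_right _ _ (ht i))
  obtain ⟨x, hxm, hx⟩ := exists_descend (D' := D') I (J ^ N) (fun i => (c i - t i) * (h i - 2 * t i))
    (fun i => h i ^ 2) (x' := 2 * Y - X) (by
      rw [hJeq]
      exact sub_mem (Ideal.mul_mem_left _ _ hYm) hXN)
    fun i => by
      have e2 := hY i
      simp only [Function.comp_apply] at e2
      have e3 := hyc i
      have : φ ((c i - t i) * (h i - 2 * t i)) - φ (h i ^ 2) * (2 * Y - X) =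
          (y i - φ (t i)) * (φ (h i) - 2 * φ (t i) - 2 * φ (h i) * X) := by
        simp only [map_sub, map_pow, map_mul, map_ofNat]
        linear_combination -(φ (h i) - 2 * φ (t i)) * e3 + 2 * φ (h i) * e2
      rw [this]
      exact Ideal.mul_mem_right _ _ (ht i)
  have hroot : x * x - x - a ∈ I := by
    refine hAR _ (sub_mem (sub_mem ?_ ?_) ?_) fun i => ?_
    · exact Ideal.pow_le_pow_right (Nat.le_succ _) (Ideal.mul_mem_left _ _ hxm)
    · exact Ideal.pow_le_pow_right (Nat.le_succ _) hxm
    · exact Ideal.pow_le_pow_right (Nat.le_succ _) ham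
    · have ha' : c i ^ 2 - h i * c i - h i ^ 2 * a = 0 := ha i
      have hdel : h i ^ 2 * (c i - t i - x * (h i - 2 * t i)) ∈ I := by
        have : h i ^ 2 * (c i - t i - x * (h i - 2 * t i)) =
            (h i - 2 * t i) * ((c i - t i) * (h i - 2 * t i) - h i ^ 2 * x) -
              (t i * t i - h i * t i) * (4 * (c i - t i)) := by ring
        rw [this]
        exact sub_mem (Ideal.mul_mem_left _ _ (hx i)) (Ideal.mul_mem_right _ _ (hT i))
      have : h i ^ 4 * (x * x - x - a) =
          -(h i ^ 2 * (c i - t i - x * (h i - 2 * t i))) * (c i + t i + x * (h i - 2 * t i) - h i)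
            - h i ^ 2 * (t i * t i - h i * t i) * (1 - 4 * x + 4 * x ^ 2) := by
        linear_combination h i ^ 2 * ha'
      rw [this]
      exact sub_mem (Ideal.mul_mem_right _ _ (neg_mem hdel)) (Ideal.mul_mem_right _ _ (Ideal.mul_mem_left _ _ (hT i)))
  -- Hensel
  have hjac : ∀ z ∈ Ideal.jacobson (⊥ : Ideal D), IsUnit (1 + z) := fun z hz => by
    simpa [add_comm] using Ideal.mem_jacobson_bot.1 hz 1
  have hxj : x ∈ Ideal.jacobson (⊥ : Ideal D) := hJ (Ideal.pow_le_self (Nat.succ_ne_zero _) hxm)
  obtain ⟨r, hr, hrx⟩ := HenselianRing.is_henselian (I := I)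
    (Polynomial.X ^ 2 - Polynomial.X - Polynomial.C a)
    (by monicity!) x (by simpa [sq] using hroot) (by
      refine IsUnit.map _ ?_
      simp only [Polynomial.derivative_sub, Polynomial.derivative_X_pow, Polynomial.derivative_X,
        Polynomial.derivative_C, sub_zero, Polynomial.eval_sub, Polynomial.eval_mul, Polynomial.eval_C,
        Polynomial.eval_X, Polynomial.eval_one, Nat.cast_ofNat, Nat.add_one_sub_one, pow_one]
      rw [show 2 * x - 1 = -(1 + -(2 * x)) by ring, IsUnit.neg_iff]
      exact hjac _ (neg_mem (Ideal.mul_mem_left _ _ hxj)))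
  have hr' : r * r - r = a := by
    have : r ^ 2 - r - a = 0 := by simpa using hr
    linear_combination this
  have hrj : r ∈ Ideal.jacobson (⊥ : Ideal D) := by
    have := add_mem hxj (HenselianRing.jac (I := I) hrx)
    simpa using this
  have hrm : r ∈ J ^ N := by
    obtain ⟨w, hw⟩ := hjac _ (neg_mem hrj)
    have : r = -(↑w⁻¹ : D) * a := by
      rw [← hr', show r * r - r = -(r * (1 + -r)) by ring, ← hw]
      simp [mul_comm r, mul_left_comm]
    rw [this]
    exact Ideal.mul_mem_left _ _ ham
  obtain ⟨w, hw⟩ := hjac _ (neg_mem (Ideal.mul_mem_left _ 2 hrj))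
  let v : D := ↑w⁻¹
  have hv : v * (1 - 2 * r) = 1 := by
    rw [show (1 : D) - 2 * r = 1 + -(2 * r) by ring, ← hw]
    exact Units.inv_mul w
  have hci : ∀ i, c i ^ 2 - h i * c i = h i ^ 2 * a := fun i => sub_eq_zero.1 (ha i)
  let e : ι → D := fun i => v * (c i - h i * r)
  have he : IsIdem h e := by
    refine ⟨fun i j => ?_, fun i => ?_⟩
    · have := hc i j
      simp only [smul_eq_mul] at this
      simp only [e, smul_eq_mul]
      linear_combination v * this
    · simp only [e]
      linear_combination v ^ 2 * hci i - v ^ 2 * h i ^ 2 * hr' + h i * v * (c i - h i * r) * hv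
  refine ⟨e, he, fun i => ?_⟩
  -- comparison
  obtain ⟨Z, hZm, hZ⟩ := exists_factor (φ ∘ h) y hy.compat (J' ^ (N - 1)) (u := φ r)
    (by
      rw [← pow_succ, Nat.sub_add_cancel (Nat.succ_pos _), ← hJeq]
      exact Ideal.mem_map_of_mem _ hrm)
  let δ := φ v * (-X - φ r + 2 * Z)
  have hδj : δ ∈ Ideal.jacobson (⊥ : Ideal D') := by
    refine Ideal.mul_mem_left _ _ (add_mem (sub_mem (neg_mem (hJ'' (Ideal.pow_le_self (Nat.succ_ne_zero _) hXm))) ?_)
      (Ideal.mul_mem_left _ _ ?_))
    · refine hJ'' (Ideal.pow_le_self (n := N) (Nat.succ_ne_zero _) ?_)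
      rw [← hJeq]
      exact Ideal.mem_map_of_mem _ hrm
    · rcases Nat.eq_zero_or_pos (k + M) with h0 | h0
      · have hle : Ideal.span (Set.range fun i => h i ^ 4) = ⊤ := by
          have : J ^ M = ⊤ := by rw [show M = 0 by omega, pow_zero, Ideal.one_eq_top]
          exact top_unique (this ▸ hM)
        have : J' = ⊤ := by
          have h1 : J = ⊤ := top_unique (hle ▸ Ideal.span_le.2 (by
            rintro _ ⟨i, rfl⟩
            exact Ideal.pow_mem_of_mem _ (Ideal.subset_span (Set.mem_range_self i)) 4 (by norm_num)))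
          have := hJeq 1
          rw [pow_one, pow_one, h1, Ideal.map_top] at this
          exact this.symm
        exact (this ▸ hJ'') trivial
      · exact hJ'' (Ideal.pow_le_self (n := N - 1) (by omega) hZm)
  have hd0 : φ (e i) - y i = φ (h i) * δ := by
    have e2 := hZ i
    simp only [Function.comp_apply] at e2
    have e3 := hyc i
    have e4 : φ v * (1 - 2 * φ r) = 1 := by
      simpa [map_ofNat] using congrArg φ hv
    simp only [e, δ, map_mul, map_sub]
    linear_combination y i * e4 + 2 * φ v * e2 - φ v * e3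
  have hφe : φ (e i) * φ (e i) = φ (h i) * φ (e i) := by rw [← map_mul, ← map_mul, he.idem i]
  have hyi : y i * y i = φ (h i) * y i := hy.idem i
  have h3 := cube_sub hφe hyi
  rw [hd0] at h3
  obtain ⟨w', hw'⟩ : IsUnit (1 + -(δ * δ)) := by
    simpa [add_comm] using Ideal.mem_jacobson_bot.1 (neg_mem (Ideal.mul_mem_left _ δ hδj)) 1
  have h4 : φ (h i) ^ 3 * δ * (1 + -(δ * δ)) = 0 := by linear_combination -h3
  rw [← hw'] at h4
  rw [hd0, ← mul_assoc, ← pow_succ]
  exact (Units.mul_left_eq_zero w').1 h4

end Groth.Agent.PurX
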