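import Groth.Agent.PurX.DualKill
import Groth.Agent.PurX.CechLC
import Groth.Agent.Alg6.LocLoc
import Groth.Agent.KFlatLib.Ring.DualizingExt

/-!
# Depth conditions off a hypersurface give annihilation of low local cohomology
-/

set_option autoImplicit false
set_option linter.style.haveILetI false
set_option backward.isDefEq.respectTransparency false

universe u

open CategoryTheory

attribute [local instance] HasDerivedCategory.standard

namespace Groth.Agent.PurX

variable {A : Type u} [CommRing A] [IsLocalRing A] [IsNoetherianRing A]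

/-- If `depth A_p + dim A/p > k` off `V(f)` then a power of `f` kills `H^i_m(A)` for `i ≤ k`. -/
theorem exists_kill_of_depth_add_dim {ω : Dual.D A} (hω : Dual.IsDualizing A ω) (f : A) (k : ℕ)
    (hc : ∀ p : Ideal A, ∀ _ : p.IsPrime, f ∉ p →
      (k : WithBot ℕ∞) < (LocCoh.depth (Localization.AtPrime p) (Localization.AtPrime p) : WithBot ℕ∞) +
        ringKrullDim (A ⧸ p)) :
    ∃ N : ℕ, ∀ i ≤ k, ∀ z : LocCoh.H (IsLocalRing.maximalIdeal A) i A, f ^ N • z = 0 := by
  obtain ⟨n, h⟩ := QGorRing.exists_isDegree hω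
  let c := n (IsLocalRing.closedPoint A)
  have hkill : ∀ j : ℤ, c - k ≤ j → ∃ N : ℕ, ∀ x : Dual.HD A ω j, f ^ N • x = 0 := by
    intro j hj
    haveI := hω.finite_cohomology j
    have hf : f ∈ (Module.annihilator A (Dual.HD A ω j)).radical := by
      rw [Ideal.radical_eq_sInf, Submodule.mem_sInf]
      rintro P ⟨hP, hPp⟩
      by_contra hfP
      let p : PrimeSpectrum A := ⟨P, hPp⟩
      have hmem : p ∈ Module.support A (Dual.HD A ω j) := by
        rw [Module.support_eq_zeroLocus]; exact hP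
      obtain ⟨e⟩ := KFlatLib.exists_homRingLEquiv ω j
      rw [← e.support_eq] at hmem
      obtain ⟨d, t, -, ht, -, hle, -, -⟩ := QGorRing.local_facts h A p
        (KFlatLib.support_hom_subset A (ω⟦j⟧) hmem)
      have h1 := hle j hmem
      obtain ⟨ep, hep, hep'⟩ := KFlatLib.ringKrullDim_quotient_eq h.covBy h.strictMono p
      have h2 := hc P hPp hfP
      have ht' : LocCoh.depth (Localization.AtPrime P) (Localization.AtPrime P) = (t : ℕ∞) := ht
      rw [ht', show ringKrullDim (A ⧸ P) = (ep : WithBot ℕ∞) from hep] at h2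
      have h3 : k < t + ep := by exact_mod_cast h2
      omega
    obtain ⟨N, hN⟩ := hf
    exact ⟨N, fun x => Module.mem_annihilator.1 hN x⟩
  choose! N hN using hkill
  let T := (Finset.Icc (c - k) c).sup N
  have hT : ∀ j : ℤ, c - k ≤ j → ∀ x : Dual.HD A ω j, f ^ T • x = 0 := by
    intro j hj x
    by_cases hjc : j ≤ c
    · obtain ⟨e, he⟩ := Nat.exists_eq_add_of_le (Finset.le_sup (f := N) (Finset.mem_Icc.2 ⟨hj, hjc⟩))
      show f ^ T • x = 0
      rw [show T = e + N j by omega, pow_add, mul_smul, hN j hj, smul_zero]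
    · haveI := isLE_closedPoint h
      haveI := ModuleCat.subsingleton_of_isZero (DerivedCategory.isZero_of_isLE ω c j (by omega))
      exact Subsingleton.elim _ _
  exact ⟨T * (k + 1), fun i hi z => by
    rw [pow_mul]; exact exists_pow_kill_localCohomology h (f ^ T) k hT i hi z⟩

/-- Serre's condition on `A_f` and the dimension of the components give the numerical condition. -/
theorem depth_add_dim_of_hasSk {ω : Dual.D A} (hω : Dual.IsDualizing A ω) (f : A)
    (hf : f ∈ IsLocalRing.maximalIdeal A) (k : ℕ)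
    (hsk : LocCoh.HasSk 2 (Localization.Away f) (Localization.Away f))
    (hdim : ∀ p : Ideal A, p ∈ minimalPrimes A → f ∉ p → ((k + 1 : ℕ) : WithBot ℕ∞) ≤ ringKrullDim (A ⧸ p))
    (hk : k ≤ 2) (p : Ideal A) (hp : p.IsPrime) (hfp : f ∉ p) :
    (k : WithBot ℕ∞) < (LocCoh.depth (Localization.AtPrime p) (Localization.AtPrime p) : WithBot ℕ∞) +
      ringKrullDim (A ⧸ p) := by
  obtain ⟨n, h⟩ := QGorRing.exists_isDegree hω
  let P : PrimeSpectrum A := ⟨p, hp⟩
  have hsupp : ∀ Q : PrimeSpectrum A, Q ∈ Module.support A A := fun Q => by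
    rw [Module.support_eq_zeroLocus, Module.annihilator_eq_bot.2 inferInstance, PrimeSpectrum.mem_zeroLocus,
      SetLike.coe_subset_coe]
    exact bot_le
  obtain ⟨d, hd, hup, Q, -, hQP, hQd, hQmin⟩ := QGorRing.exists_supportDim_localized h A P (hsupp P)
  obtain ⟨t, ht, -, -⟩ := QGorRing.depth_localized_ext h.dualizing h.ext A P (hsupp P)
  have hQm : Q.asIdeal ∈ minimalPrimes A :=
    ⟨⟨Q.isPrime, bot_le⟩, fun J hJ hJQ => (congrArg PrimeSpectrum.asIdeal (hQmin ⟨J, hJ.1⟩ (hsupp _) hJQ)).ge⟩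
  obtain ⟨eQ, heQ, heQ'⟩ := KFlatLib.ringKrullDim_quotient_eq h.covBy h.strictMono Q
  obtain ⟨ep, hep, hep'⟩ := KFlatLib.ringKrullDim_quotient_eq h.covBy h.strictMono P
  have h1 := hdim Q.asIdeal hQm fun hfQ => hfp (hQP hfQ)
  rw [heQ] at h1
  have h1' : k + 1 ≤ eQ := by exact_mod_cast h1
  have hne : P ≠ IsLocalRing.closedPoint A := fun he => hfp (by rw [show p = IsLocalRing.maximalIdeal A from congrArg PrimeSpectrum.asIdeal he]; exact hf)
  have h2 := h.strictMono (lt_of_le_of_ne
    (show P ≤ IsLocalRing.closedPoint A from IsLocalRing.le_maximalIdeal hp.ne_top) hne)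
  have h3 := (Alg6.hasSk_localization_iff (Submonoid.powers f) A 2).1 hsk p (by
    rw [Set.disjoint_left]
    rintro _ ⟨j, rfl⟩ hj
    exact hfp (hp.mem_of_pow_mem j hj))
  have ht' : LocCoh.depth (Localization.AtPrime p) (Localization.AtPrime p) = (t : ℕ∞) := ht
  have h4 := (QGorRing.skOne_iff A P 2 d t hd ht).1 h3
  rw [ht', show ringKrullDim (A ⧸ p) = (ep : WithBot ℕ∞) from hep]
  have h5 : k < t + ep := by omega
  exact_mod_cast h5

end Groth.Agent.PurX
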