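import Groth.Agent.QGorRing.Facts
import Groth.Agent.KFlatLib.Ring.Dualizing
import Groth.Agent.LC.CohBasic
import Groth.Agent.H9Misc.TFactor
import Groth.Prelude.Def_Wider

/-!
# Annihilating low local cohomology through a dualizing complex
-/

set_option autoImplicit false
set_option linter.style.haveILetI false
set_option linter.unusedSectionVars false
set_option backward.isDefEq.respectTransparency false

universe u

open CategoryTheory CategoryTheory.Limits Pretriangulated MonoidalCategory

attribute [local instance] HasDerivedCategory.standard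

namespace Groth.Agent.PurX

open Groth.Agent.KFlatLib

variable {A : Type u} [CommRing A]

/-- A scalar killing the module of a one degree object kills the object. -/
theorem smul_id_eq_zero (m : ℤ) (X : Dual.D A) [X.IsLE m] [X.IsGE m] (c : A)
    (hc : ∀ x : Dual.HD A X m, c • x = 0) : c • 𝟙 X = 0 := by
  refine (bijective_homologyMap m (X := X) (Y := X)).1 ?_
  show (DerivedCategory.homologyFunctor (ModuleCat.{u} A) m).map (c • 𝟙 X) =
    (DerivedCategory.homologyFunctor (ModuleCat.{u} A) m).map 0
  rw [Functor.map_smul, CategoryTheory.Functor.map_id, Functor.map_zero]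
  exact ModuleCat.hom_ext (LinearMap.ext hc)

/-- Scalars killing cohomology kill maps into objects bounded below. -/
theorem pow_smul_eq_zero_of_homology (a : ℤ) {Z : Dual.D A} [Z.IsGE a] (c : A) :
    ∀ (k : ℕ) (X : Dual.D A) [X.IsLE (a - 1 + k)],
      (∀ j : ℤ, a ≤ j → ∀ x : Dual.HD A X j, c • x = 0) → ∀ g : X ⟶ Z, c ^ k • g = 0 := by
  let t := DerivedCategory.TStructure.t (C := ModuleCat.{u} A)
  intro k
  induction k with
  | zero =>
    intro X hX _ g
    rw [Nat.cast_zero, add_zero] at hX
    rw [pow_zero, one_smul]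
    exact t.zero g (a - 1) a (by omega)
  | succ k ih =>
    intro X hX hc g
    let m : ℤ := a + k
    haveI : X.IsLE m := t.isLE_of_le X (a - 1 + ((k + 1 : ℕ) : ℤ)) m (by push_cast; omega)
    let ι := (t.truncLTι m).app X
    let π := (t.truncGEπ m).app X
    haveI : ((t.truncLT m).obj X).IsLE (a - 1 + k) :=
      t.isLE_truncLT_obj X m (a - 1 + k) (by omega)
    haveI : ((t.truncGE m).obj X).IsGE m := t.isGE_truncGE_obj ..
    haveI : ((t.truncGE m).obj X).IsLE m := inferInstanceAs (t.IsLE ((t.truncGE m).obj X) m)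
    have h1 : c ^ k • (ι ≫ g) = 0 := by
      refine ih _ (fun j hj x => ?_) _
      by_cases hjm : j < m
      · haveI := H9Misc.isIso_map_truncLTι (C := ModuleCat.{u} A) m j hjm X
        refine ((ModuleCat.mono_iff_injective
          ((DerivedCategory.homologyFunctor (ModuleCat.{u} A) j).map ι)).1 inferInstance) ?_
        rw [map_smul, map_zero, hc j hj]
      · haveI := ModuleCat.subsingleton_of_isZero (DerivedCategory.isZero_of_isLE
          ((t.truncLT m).obj X) (a - 1 + k) j (by omega))
        exact Subsingleton.elim _ _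
    have h2 : ι ≫ (c ^ k • g) = 0 := by rw [Linear.comp_smul]; exact h1
    obtain ⟨h, hh⟩ := Triangle.yoneda_exact₂ _ (t.triangleLTGE_distinguished m X) (c ^ k • g) h2
    have h3 : c • 𝟙 ((t.truncGE m).obj X) = 0 := by
      refine smul_id_eq_zero m _ c fun x => ?_
      haveI := H9Misc.isIso_map_truncGEπ (C := ModuleCat.{u} A) m m le_rfl X
      obtain ⟨y, rfl⟩ := ((ModuleCat.epi_iff_surjective
        ((DerivedCategory.homologyFunctor (ModuleCat.{u} A) m).map π)).1 inferInstance) x
      rw [← map_smul, hc m (by omega), map_zero]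
    rw [pow_succ', mul_smul, hh, ← Linear.comp_smul]
    rw [show c • h = (c • 𝟙 ((t.truncGE m).obj X)) ≫ h by rw [Linear.smul_comp, Category.id_comp], h3,
      zero_comp, comp_zero]

section Local

variable [IsLocalRing A] [IsNoetherianRing A] {ω : Dual.D A} {n : PrimeSpectrum A → ℤ}

/-- The dual of a module of finite length is concentrated in one degree. -/
theorem subsingleton_ext_finiteLength (h : QGorRing.IsDegree ω n) (M : Type u) [AddCommGroup M] [Module A M]
    [Module.Finite A M] (hM : ∀ p ∈ Module.support A M, p = IsLocalRing.closedPoint A) (i : ℤ)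
    (hi : i ≠ n (IsLocalRing.closedPoint A)) : Subsingleton (Dual.inD A M ⟶ ω⟦i⟧) := by
  rw [← Module.support_eq_empty_iff (R := A), Set.eq_empty_iff_forall_notMem]
  intro p hp
  have hpM : p ∈ Module.support A M := support_hom_subset M (ω⟦i⟧) hp
  obtain rfl := hM p hpM
  obtain ⟨d, hd, hup, Q, hQ, hQp, hQd, -⟩ := QGorRing.exists_supportDim_localized h M _ hpM
  obtain ⟨d', t, hd', ht, htd, hle, -, -⟩ := QGorRing.local_facts h M _ hpM
  have hdd : d' = d := by
    rw [hd] at hd'
    exact_mod_cast hd'.symm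
  have := hle i hp
  rw [hM Q hQ, sub_self] at hQd
  omega

/-- Cohomology of a dualizing complex stops at the degree of the closed point. -/
theorem isLE_closedPoint (h : QGorRing.IsDegree ω n) : ω.IsLE (n (IsLocalRing.closedPoint A)) := by
  refine (DerivedCategory.isLE_iff _ _).2 fun j hj => ?_
  obtain ⟨e⟩ := exists_homRingLEquiv ω j
  haveI : Subsingleton (Dual.inD A A ⟶ ω⟦j⟧) := by
    rw [← Module.support_eq_empty_iff (R := A), Set.eq_empty_iff_forall_notMem]
    intro p hp
    obtain ⟨d, t, -, -, -, hle, -, -⟩ := QGorRing.local_facts h A p (support_hom_subset A (ω⟦j⟧) hp)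
    have := hle j hp
    have := h.strictMono.monotone
      (show p ≤ IsLocalRing.closedPoint A from IsLocalRing.le_maximalIdeal p.isPrime.ne_top)
    omega
  exact @ModuleCat.isZero_of_subsingleton _ _ _ e.symm.injective.subsingleton

/-- A scalar killing the top cohomology of a dualizing complex kills low degree maps out of modules of
finite length. -/
theorem pow_smul_hom_eq_zero (h : QGorRing.IsDegree ω n) (c : A) (k : ℕ)
    (hc : ∀ j : ℤ, n (IsLocalRing.closedPoint A) - k ≤ j → ∀ x : Dual.HD A ω j, c • x = 0)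
    (M : Type u) [AddCommGroup M] [Module A M] [Module.Finite A M]
    (hM : ∀ p ∈ Module.support A M, p = IsLocalRing.closedPoint A) (i : ℤ) (hi : i ≤ k)
    (φ : Dual.inD A M ⟶ (Dual.inD A A)⟦i⟧) : c ^ (k + 1) • φ = 0 := by
  haveI := hasLTen A
  haveI := hasRHom (A := A)
  haveI := hasLTen₃ A
  haveI := isSymMonoidal A
  let N := n (IsLocalRing.closedPoint A)
  let t := DerivedCategory.TStructure.t (C := ModuleCat.{u} A)
  haveI := isLE_closedPoint h
  obtain ⟨eU⟩ := nonempty_RHomR_unit_iso (A := A) i
  let uA : Dual.inD A A ≅ DTen.unit A :=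
    (DerivedCategory.singleFunctorIsoCompQ (ModuleCat.{u} A) 0).app (ModuleCat.of A A)
  let Y := (DTen.unit A)⟦i⟧
  let eY : (Dual.inD A A)⟦i⟧ ≅ Y := (shiftFunctor (Dual.D A) i).mapIso uA
  let X := Dual.inD A M
  let DY := (DTen.RHomR A Y).obj ω
  let DX := (DTen.RHomR A X).obj ω
  have eDY : DY ≅ ω⟦-i⟧ := eU.app ω
  have hfin : ∀ j : ℤ, Module.Finite A (Dual.HD A Y j) := by
    intro j
    haveI : Module.Finite A (((DerivedCategory.homologyFunctor (ModuleCat.{u} A) 0).shift (j + i)).obj (DTen.unit A)) := by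
      show Module.Finite A (Dual.HD A (DTen.unit A) (j + i))
      obtain ⟨u⟩ := exists_homUnitLEquiv (DTen.unit A) (-(j + i)) (j + i) (by omega)
      haveI : Module.Finite A ((DTen.unit A)⟦-(j + i)⟧ ⟶ DTen.unit A) := by
        obtain ⟨e⟩ := exists_shiftHomLEquiv (DTen.unit A) (DTen.unit A) (j + i)
        haveI : DerivedCategory.IsGE (DTen.unit A) 0 :=
          DerivedCategory.TStructure.t.isGE_of_iso uA 0
        have hu : ∀ l : ℤ, Module.Finite A (Dual.HD A (DTen.unit A) l) := by
          intro l
          by_cases hl : l = 0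
          · subst hl
            haveI : Module.Finite A ((𝟭 (ModuleCat.{u} A)).obj (ModuleCat.of A A)) := inferInstanceAs (Module.Finite A A)
            exact Module.Finite.equiv ((((DerivedCategory.singleFunctorCompHomologyFunctorIso (ModuleCat.{u} A) 0).app
              (ModuleCat.of A A)).symm ≪≫ (DerivedCategory.homologyFunctor (ModuleCat.{u} A) 0).mapIso uA).toLinearEquiv)
          · haveI : DerivedCategory.IsLE (DTen.unit A) 0 :=
              DerivedCategory.TStructure.t.isLE_of_iso uA 0
            haveI : Subsingleton (Dual.HD A (DTen.unit A) l) := by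
              rcases lt_or_gt_of_ne hl with hl | hl
              · exact ModuleCat.subsingleton_of_isZero (DerivedCategory.isZero_of_isGE _ 0 l hl)
              · exact ModuleCat.subsingleton_of_isZero (DerivedCategory.isZero_of_isLE _ 0 l hl)
            exact Module.Finite.of_finite
        haveI := finite_hom_module (DTen.unit A) 0 hu A (j + i)
        exact Module.Finite.equiv ((Linear.homCongr A uA (Iso.refl _)).trans e)
      exact Module.Finite.equiv u
    exact Module.Finite.equiv ((((DerivedCategory.homologyFunctor (ModuleCat.{u} A) 0).shiftIso i j (j + i)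
      (by omega)).app (DTen.unit A)).symm.toLinearEquiv)
  obtain ⟨eB⟩ := nonempty_biduality h.dualizing hfin
  haveI : IsIso ((DTen.symm A).app (X, DY)) :=
    haveI : IsIso (DTen.symm A) := DTen.IsSymMonoidal.isIso_symm
    inferInstance
  haveI : DX.IsGE N := by
    refine (DerivedCategory.isGE_iff _ _).2 fun j hj => ?_
    obtain ⟨e⟩ := exists_hdRHomLEquiv X ω j
    obtain ⟨e'⟩ := exists_shiftHomLEquiv X ω j
    haveI := subsingleton_ext_finiteLength h M hM j (by omega)
    exact @ModuleCat.isZero_of_subsingleton _ _ _ (e.trans e'.symm).injective.subsingleton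
  haveI : DerivedCategory.IsGE (DX⟦i⟧) (N - i) := t.isGE_shift DX N i (N - i) (by omega)
  haveI : DerivedCategory.IsGE (DX⟦i⟧) (N - k) := t.isGE_of_ge _ (N - k) (N - i) (by omega)
  haveI : ω.IsLE (N - k - 1 + ((k + 1 : ℕ) : ℤ)) :=
    t.isLE_of_le ω N _ (by push_cast; omega)
  have hdual : ∀ g : DY ⟶ DX, c ^ (k + 1) • g = 0 := by
    intro g
    obtain ⟨e₁⟩ := exists_shiftHomLEquiv ω DX i
    let e₂ := e₁.trans (Linear.homCongr A eDY.symm (Iso.refl DX))
    obtain ⟨g', rfl⟩ := e₂.surjective g
    rw [← map_smul, pow_smul_eq_zero_of_homology (N - k) c (k + 1) ω hc g', map_zero]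
  -- transport
  let L₁ : (Dual.inD A M ⟶ (Dual.inD A A)⟦i⟧) ≃ₗ[A] (X ⟶ (DTen.RHomR A DY).obj ω) :=
    Linear.homCongr A (Iso.refl _) (eY ≪≫ eB.symm)
  let L₂ : ((DTen.LTen₂ A).obj (X, DY) ⟶ ω) ≃ₗ[A] ((DTen.LTen₂ A).obj (DY, X) ⟶ ω) :=
    Linear.homCongr A (asIso ((DTen.symm A).app (X, DY))).symm (Iso.refl ω)
  let L := ((L₁.trans (rhomLEquiv X DY ω).symm).trans L₂).trans (rhomLEquiv DY X ω)
  refine L.injective ?_
  rw [map_smul, map_zero]
  exact hdual _

/-- A scalar killing the top cohomology of a dualizing complex kills low local cohomology. -/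
theorem exists_pow_kill_localCohomology (h : QGorRing.IsDegree ω n) (c : A) (k : ℕ)
    (hc : ∀ j : ℤ, n (IsLocalRing.closedPoint A) - k ≤ j → ∀ x : Dual.HD A ω j, c • x = 0)
    (i : ℕ) (hi : i ≤ k) (z : LocCoh.H (IsLocalRing.maximalIdeal A) i A) : c ^ (k + 1) • z = 0 := by
  obtain ⟨l, x, rfl⟩ := LC.exists_toH (IsLocalRing.maximalIdeal A) i (M := ModuleCat.of A A) z
  let L := CategoryTheory.Abelian.Ext.homLinearEquiv (R := A) (X := LC.qObj (IsLocalRing.maximalIdeal A) l)
    (Y := ModuleCat.of A A) (n := i)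
  have hx : c ^ (k + 1) • x = 0 := by
    refine L.injective ?_
    rw [map_smul, map_zero]
    refine pow_smul_hom_eq_zero h c k hc (A ⧸ IsLocalRing.maximalIdeal A ^ l) (fun p hp => ?_) i
      (by exact_mod_cast hi) _
    rw [Module.support_eq_zeroLocus, Ideal.annihilator_quotient] at hp
    exact PrimeSpectrum.ext (((IsLocalRing.maximalIdeal.isMaximal A).eq_of_le p.isPrime.ne_top
      fun y hy => p.isPrime.mem_of_pow_mem l (hp (Ideal.pow_mem_pow hy l))).symm)
  show c ^ (k + 1) • LC.toH _ i _ l x = 0
  rw [← map_smul, hx, map_zero]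

end Local

end Groth.Agent.PurX
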