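import Groth.Agent.PurX.DualKillOff

/-!
# Annihilation of local cohomology up to a given degree away from curves through the closed point
-/

set_option autoImplicit false
set_option linter.style.haveILetI false
set_option backward.isDefEq.respectTransparency false

universe u

open CategoryTheory IsLocalRing

attribute [local instance] HasDerivedCategory.standard

namespace Groth.Agent.PurX

variable {A : Type u} [CommRing A] [IsLocalRing A] [IsNoetherianRing A]

/-- For every `L`, a power of the maximal ideal is, modulo `f ^ L`, in the elements `b` such that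
`b * f ^ K` kills the local cohomology of `M` in degrees up to `k`. -/
def KillUpToDeg (k : ℕ) (f : A) (M : Type u) [AddCommGroup M] [Module A M] (K : ℕ) : Prop :=
  ∀ L : ℕ, ∃ T : ℕ, ∀ c ∈ maximalIdeal A ^ T, ∃ b a : A, c = b + a * f ^ L ∧
    ∀ i ≤ k, ∀ z : LocCoh.H (maximalIdeal A) i M, (b * f ^ K) • z = 0

/-- The depth condition away from curves meeting `V(f)` only at the closed point annihilates low local cohomology. -/
theorem exists_killUpToDeg (k : ℕ) {ω : Dual.D A} (hω : Dual.IsDualizing A ω) (f : A)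
    (hc : ∀ p : Ideal A, ∀ _ : p.IsPrime, f ∉ p → (p ⊔ Ideal.span {f}).radical ≠ maximalIdeal A →
      (k : WithBot ℕ∞) < (LocCoh.depth (Localization.AtPrime p) (Localization.AtPrime p) : WithBot ℕ∞) +
        ringKrullDim (A ⧸ p)) :
    ∃ K : ℕ, KillUpToDeg k f A K := by
  classical
  obtain ⟨n, h⟩ := QGorRing.exists_isDegree hω
  let c := n (closedPoint A)
  let 𝔞 : ℕ → Ideal A := fun K =>
    { carrier := {b | ∀ i ≤ k, ∀ z : LocCoh.H (maximalIdeal A) i A, (b * f ^ K) • z = 0}
      add_mem' := fun {a b} ha hb i hi z => by rw [add_mul, add_smul, ha i hi z, hb i hi z, add_zero]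
      zero_mem' := fun i _ z => by rw [zero_mul, zero_smul]
      smul_mem' := fun r a ha i hi z => by rw [smul_eq_mul, mul_assoc, mul_smul, ha i hi z, smul_zero] }
  have hmono : Monotone 𝔞 := fun K K' hK b hb i hi z => by
    obtain ⟨d, rfl⟩ := Nat.exists_eq_add_of_le hK
    rw [pow_add, ← mul_assoc, mul_comm _ (f ^ d), mul_smul, hb i hi z, smul_zero]
  obtain ⟨K₀, hK₀⟩ := monotone_stabilizes_iff_noetherian.2 (inferInstance : IsNoetherian A A) ⟨𝔞, hmono⟩
  refine ⟨K₀, fun L => ?_⟩
  have hrad : maximalIdeal A ≤ (𝔞 K₀ ⊔ Ideal.span {f ^ L}).radical := by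
    rw [Ideal.radical_eq_sInf]
    refine le_sInf fun Q ⟨hQ, hQp⟩ => ?_
    by_contra hQm
    have hfQ : f ∈ Q :=
      hQp.mem_of_pow_mem L (hQ (Ideal.mem_sup_right (Ideal.mem_span_singleton_self _)))
    -- an element outside `Q` whose product with `f` is nilpotent on the dual modules
    have hkey : ∀ j : ℤ, c - k ≤ j → ∃ b, b ∉ Q ∧ b * f ∈ (Module.annihilator A (Dual.HD A ω j)).radical := by
      intro j hj
      by_contra hall
      push Not at hall
      let S : Submonoid A := Submonoid.powers f ⊔ Q.primeCompl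
      have hdis : Disjoint ((Module.annihilator A (Dual.HD A ω j) : Ideal A) : Set A) (S : Set A) := by
        rw [Set.disjoint_right]
        intro x hx hxa
        obtain ⟨_, ⟨m, rfl⟩, s, hs, rfl⟩ := Submonoid.mem_sup.1 hx
        refine hall s hs ⟨m + 1, ?_⟩
        rw [show (s * f) ^ (m + 1) = s ^ m * f * (f ^ m * s) by ring]
        exact Ideal.mul_mem_left _ _ hxa
      obtain ⟨P, hPp, hP, hPS⟩ := Ideal.exists_le_prime_disjoint _ S hdis
      have hfP : f ∉ P := fun hfP => Set.disjoint_left.1 hPS hfP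
        (Submonoid.mem_sup_left (Submonoid.mem_powers f))
      have hPQ : P ≤ Q := fun x hx => by_contra fun hxQ => Set.disjoint_left.1 hPS hx (Submonoid.mem_sup_right hxQ)
      have hne : (P ⊔ Ideal.span {f}).radical ≠ maximalIdeal A := by
        intro e
        have hle : (P ⊔ Ideal.span {f}).radical ≤ Q :=
          (Ideal.radical_mono (sup_le hPQ ((Ideal.span_singleton_le_iff_mem _).2 hfQ))).trans hQp.radical.le
        rw [e] at hle
        exact hQm hle
      let p : PrimeSpectrum A := ⟨P, hPp⟩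
      haveI := hω.finite_cohomology j
      have hmem : p ∈ Module.support A (Dual.HD A ω j) := by
        rw [Module.support_eq_zeroLocus]; exact hP
      obtain ⟨e⟩ := KFlatLib.exists_homRingLEquiv ω j
      rw [← e.support_eq] at hmem
      obtain ⟨d, t, -, ht, -, hle, -, -⟩ := QGorRing.local_facts h A p
        (KFlatLib.support_hom_subset A (ω⟦j⟧) hmem)
      have h1 := hle j hmem
      obtain ⟨ep, hep, hep'⟩ := KFlatLib.ringKrullDim_quotient_eq h.covBy h.strictMono p
      have h2 := hc P hPp hfP hne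
      have ht' : LocCoh.depth (Localization.AtPrime P) (Localization.AtPrime P) = (t : ℕ∞) := ht
      rw [ht', show ringKrullDim (A ⧸ P) = (ep : WithBot ℕ∞) from hep] at h2
      have h3' : ((k : ℕ) : WithBot ℕ∞) < ((t + ep : ℕ) : WithBot ℕ∞) := by push_cast; exact h2
      have h3 : k < t + ep := Nat.cast_lt.1 h3'
      omega
    choose! b hbQ hb using hkey
    let b₀ := ∏ j ∈ Finset.Icc (c - k) c, b j
    have hb₀ : b₀ ∉ Q := fun hmem => by
      obtain ⟨j, hj, hjQ⟩ := (Ideal.IsPrime.prod_mem_iff).1 hmem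
      exact hbQ j (Finset.mem_Icc.1 hj).1 hjQ
    have hkill : ∀ j : ℤ, c - k ≤ j → ∃ N : ℕ, ∀ x : Dual.HD A ω j, (b₀ * f) ^ N • x = 0 := by
      intro j hj
      by_cases hjc : j ≤ c
      · obtain ⟨N, hN⟩ := hb j hj
        obtain ⟨r, hr⟩ := Finset.dvd_prod_of_mem b (Finset.mem_Icc.2 ⟨hj, hjc⟩)
        refine ⟨N, fun x => ?_⟩
        rw [show b₀ * f = r * (b j * f) by
          rw [show b₀ = b j * r from hr]
          ring, mul_pow, mul_smul, Module.mem_annihilator.1 hN x, smul_zero]
      · haveI := isLE_closedPoint h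
        haveI := ModuleCat.subsingleton_of_isZero (DerivedCategory.isZero_of_isLE ω c j (by omega))
        exact ⟨0, fun x => Subsingleton.elim _ _⟩
    choose! N hN using hkill
    let M := (Finset.Icc (c - k) c).sup N
    have hM : ∀ j : ℤ, c - (k : ℕ) ≤ j → ∀ x : Dual.HD A ω j, (b₀ * f) ^ M • x = 0 := by
      intro j hj x
      by_cases hjc : j ≤ c
      · obtain ⟨e, he⟩ := Nat.exists_eq_add_of_le (Finset.le_sup (f := N) (Finset.mem_Icc.2 ⟨hj, hjc⟩))
        rw [show M = e + N j by simp only [M, Nat.cast_ofNat] at *; omega, pow_add, mul_smul,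
          hN j (by exact_mod_cast hj), smul_zero]
      · haveI := isLE_closedPoint h
        haveI := ModuleCat.subsingleton_of_isZero (DerivedCategory.isZero_of_isLE ω c j (by omega))
        exact Subsingleton.elim _ _
    refine hb₀ (hQp.mem_of_pow_mem (M * (k + 1)) (hQ (Ideal.mem_sup_left ?_)))
    refine (hK₀ (max K₀ (M * (k + 1))) (le_max_left _ _)).ge (hmono (le_max_right K₀ _) ?_)
    intro i hi z
    have := exists_pow_kill_localCohomology h ((b₀ * f) ^ M) k hM i hi z
    rwa [← pow_mul, mul_pow] at this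
  obtain ⟨T, hT⟩ := Ideal.exists_pow_le_of_le_radical_of_fg hrad (IsNoetherian.noetherian _)
  refine ⟨T, fun x hx => ?_⟩
  obtain ⟨b, hb, y, hy, rfl⟩ := Submodule.mem_sup.1 (hT hx)
  obtain ⟨a, rfl⟩ := Ideal.mem_span_singleton'.1 hy
  exact ⟨b, a, rfl, hb⟩

/-- A regular `f`: low local cohomology of the quotients by high powers of `f` is killed by a fixed power of
`f` times a power of the maximal ideal. -/
theorem KillUpToDeg.kill_quot_pow {k : ℕ} {f : A} {M : Type u} [AddCommGroup M] [Module A M] {K : ℕ} (h : KillUpToDeg (k + 1) f M K)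
    (hreg : ∀ x : M, f • x = 0 → x = 0) (L : ℕ) :
    ∃ T : ℕ, ∀ c ∈ maximalIdeal A ^ T, ∀ i ≤ k,
      ∀ z : LocCoh.H (maximalIdeal A) i (M ⧸ LinearMap.range (LinearMap.lsmul A M (f ^ L))), (c * f ^ (K + K)) • z = 0 := by
  obtain ⟨T, hT⟩ := h L
  refine ⟨T + T, fun c hc i hi z => ?_⟩
  rw [pow_add] at hc
  induction hc using Submodule.mul_induction_on' with
  | add a _ b _ ha hb => rw [add_mul, add_smul, ha, hb, add_zero]
  | mem_mul_mem c₁ hc₁ c₂ hc₂ =>
    obtain ⟨b₁, a₁, e₁, hb₁⟩ := hT c₁ hc₁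
    obtain ⟨b₂, a₂, e₂, hb₂⟩ := hT c₂ hc₂
    let μL : M →ₗ[A] M := LinearMap.lsmul A M (f ^ L)
    have hinj : Function.Injective μL := by
      rw [injective_iff_map_eq_zero]
      intro x hx
      have : ∀ (l : ℕ) (x : M), f ^ l • x = 0 → x = 0 := by
        intro l
        induction l with
        | zero => intro x hx; simpa using hx
        | succ l ih => intro x hx; exact ih _ (hreg _ (by rwa [smul_smul, ← pow_succ']))
      exact this L x hx
    let Sq : ShortComplex (ModuleCat.{u} A) := ShortComplex.mk (ModuleCat.ofHom μL)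
      (ModuleCat.ofHom (LinearMap.range μL).mkQ)
      (ModuleCat.hom_ext (LinearMap.ext fun z => (Submodule.Quotient.mk_eq_zero _).2 ⟨z, rfl⟩))
    have hSq : Sq.ShortExact :=
      { exact := (ShortComplex.ShortExact.moduleCat_exact_iff_function_exact _).2
          (LinearMap.exact_iff.2 (Submodule.ker_mkQ _))
        mono_f := (ModuleCat.mono_iff_injective _).2 hinj
        epi_g := (ModuleCat.epi_iff_surjective _).2 (Submodule.mkQ_surjective _) }
    have hQ : ∀ x : M ⧸ LinearMap.range μL, f ^ L • x = 0 := fun x => by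
      obtain ⟨x, rfl⟩ := Submodule.Quotient.mk_surjective _ x
      rw [← Submodule.Quotient.mk_smul, Submodule.Quotient.mk_eq_zero]
      exact ⟨x, rfl⟩
    have hL : ∀ v : LocCoh.H (maximalIdeal A) i (M ⧸ LinearMap.range μL), f ^ L • v = 0 :=
      LC.AdjRows.smul_H_eq_zero _ _ _ hQ
    let δ := LC.δH (maximalIdeal A) i hSq (i + 1) rfl
    have hδ : δ ((c₂ * f ^ K) • z) = 0 := by
      have hb := hb₂ (i + 1) (by omega) (δ z)
      have hf0 : δ (f ^ L • z) = 0 := (congrArg δ (hL z)).trans (map_zero δ)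
      rw [map_smul] at hf0 ⊢
      rw [show c₂ * f ^ K = b₂ * f ^ K + (a₂ * f ^ K) * f ^ L by rw [e₂]; ring, add_smul, mul_smul (a₂ * f ^ K)]
      refine (congrArg₂ (· + ·) hb ((congrArg ((a₂ * f ^ K) • ·) hf0).trans (smul_zero _))).trans (add_zero _)
    obtain ⟨w, hw⟩ := (LC.exact₃ (maximalIdeal A) i hSq (i + 1) rfl _).1 hδ
    rw [show c₁ * c₂ * f ^ (K + K) = (c₁ * f ^ K) * (c₂ * f ^ K) by ring, mul_smul]
    have hz : (b₁ * f ^ K) • ((c₂ * f ^ K) • z) = 0 := by
      refine (congrArg (fun v => (b₁ * f ^ K) • v) hw.symm).trans ?_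
      refine (map_smul _ (b₁ * f ^ K) w).symm.trans ?_
      exact (congrArg _ (hb₁ i (by omega) w)).trans (map_zero _)
    rw [show c₁ * f ^ K = b₁ * f ^ K + (a₁ * f ^ K) * f ^ L by rw [e₁]; ring, add_smul, hz, zero_add, mul_smul,
      hL, smul_zero]

end Groth.Agent.PurX
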