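import Groth.Agent.PurX.CechLC
import Groth.Agent.PurX.CechTrans
import Groth.Agent.LC.AdjDepthRows
import Groth.Agent.LC.CohDerived

/-!
# The ideals of elements killing the first Čech groups
-/

set_option autoImplicit false
set_option linter.style.haveILetI false

universe u v

namespace Groth.Agent.PurX

variable {A : Type u} [CommRing A] {ι : Type}

theorem H0Killed.add [Fintype ι] {g : ι → A} {M : Type v} [AddCommGroup M] [Module A M] {c c' : A}
    (h : H0Killed g M c) (h' : H0Killed g M c') : H0Killed g M (c + c') := by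
  intro k y hy
  obtain ⟨x, p, hx⟩ := h k y hy
  obtain ⟨x', p', hx'⟩ := h' k y hy
  refine ⟨x + x', p + p', fun i => ?_⟩
  have e := congrArg (fun m => g i ^ p' • m) (hx i)
  have e' := congrArg (fun m => g i ^ p • m) (hx' i)
  simp only [smul_smul] at e e'
  rw [smul_smul, mul_add, add_smul, smul_add, show g i ^ (p + p') * c = g i ^ p' * (g i ^ p * c) by ring,
    show g i ^ (p + p') * c' = g i ^ p * (g i ^ p' * c') by ring, e, e']
  congr 2 <;> ring

theorem H1Killed.add [Fintype ι] {g : ι → A} {M : Type v} [AddCommGroup M] [Module A M] {c c' : A}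
    (h : H1Killed g M c) (h' : H1Killed g M c') : H1Killed g M (c + c') := by
  intro k a ha
  obtain ⟨p, w, hw⟩ := h k a ha
  obtain ⟨p', w', hw'⟩ := h' k a ha
  refine ⟨p + p', fun i => g i ^ p' • w i + g i ^ p • w' i, fun i j => ?_⟩
  have e := congrArg (fun m => (g i * g j) ^ p' • m) (hw i j)
  have e' := congrArg (fun m => (g i * g j) ^ p • m) (hw' i j)
  simp only [smul_smul, smul_sub] at e e'
  rw [smul_smul, mul_add, add_smul,
    show (g i * g j) ^ (p + p') * c = (g i * g j) ^ p' * ((g i * g j) ^ p * c) by ring, e,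
    show (g i * g j) ^ (p + p') * c' = (g i * g j) ^ p * ((g i * g j) ^ p' * c') by ring, e',
    smul_add, smul_add, smul_smul, smul_smul, smul_smul, smul_smul]
  rw [show (g i * g j) ^ p' * g j ^ (k + p) = g j ^ (k + (p + p')) * g i ^ p' by ring,
    show (g i * g j) ^ p' * g i ^ (k + p) = g i ^ (k + (p + p')) * g j ^ p' by ring,
    show (g i * g j) ^ p * g j ^ (k + p') = g j ^ (k + (p + p')) * g i ^ p by ring,
    show (g i * g j) ^ p * g i ^ (k + p') = g i ^ (k + (p + p')) * g j ^ p by ring]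
  abel

theorem H0Killed.zero [Fintype ι] {g : ι → A} {M : Type v} [AddCommGroup M] [Module A M] : H0Killed g M 0 :=
  fun k _ _ => ⟨0, 0, fun i => by simp⟩

theorem H1Killed.zero [Fintype ι] {g : ι → A} {M : Type v} [AddCommGroup M] [Module A M] : H1Killed g M 0 :=
  fun k _ _ => ⟨0, fun _ => 0, fun i j => by simp⟩

/-- The elements killing a property closed under combinations contain a power of the ideal they meet. -/
theorem exists_pow_of_radical {P : A → Prop} (h0 : P 0) (hadd : ∀ a b, P a → P b → P (a + b))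
    (hmul : ∀ r a, P a → P (r * a)) [Finite ι] (g : ι → A) (h : ∀ i, ∃ t : ℕ, P (g i ^ t)) :
    ∃ t : ℕ, ∀ c ∈ Ideal.span (Set.range g) ^ t, P c := by
  let K : Ideal A :=
    { carrier := {a | P a}
      add_mem' := fun {a b} => hadd a b
      zero_mem' := h0
      smul_mem' := hmul }
  have hle : Ideal.span (Set.range g) ≤ K.radical := by
    refine Ideal.span_le.2 ?_
    rintro _ ⟨i, rfl⟩
    exact h i
  obtain ⟨t, ht⟩ := Ideal.exists_pow_le_of_le_radical_of_fg hle (Submodule.fg_span (Set.finite_range g))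
  exact ⟨t, fun c hc => ht hc⟩

/-- A finite local cohomology module is killed by a power of the ideal. -/
theorem exists_pow_kill_H [IsNoetherianRing A] (J : Ideal A) (i : ℕ) (M : Type u) [AddCommGroup M] [Module A M]
    [Module.Finite A (LocCoh.H J i M)] : ∃ N : ℕ, ∀ c ∈ J ^ N, ∀ z : LocCoh.H J i M, c • z = 0 := by
  obtain ⟨N, hN⟩ := LC.AdjRows.exists_pow_kill_torsion J (LocCoh.H J i M)
  refine ⟨N, fun c hc z => ?_⟩
  have hz : z ∈ DRing.torsionSub J (LocCoh.H J i M) := LC.isPowerTorsion_obj J i (ModuleCat.of A M) z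
  have := congrArg Subtype.val ((Module.mem_annihilator.1 (hN hc)) ⟨z, hz⟩)
  exact this

section Transfer

variable [Fintype ι] {g : ι → A} {M N : Type v} [AddCommGroup M] [Module A M] [AddCommGroup N] [Module A N]
  (φ : M →ₗ[A] N) (hker : ∀ m, φ m = 0 → ∀ i, ∃ q : ℕ, g i ^ q • m = 0)
  (hsurj : ∀ (n : N) i, ∃ (q : ℕ) (m : M), g i ^ q • n = φ m)

include hker hsurj in
theorem H0Killed.smul_mem_range (hsep : ∀ x : N, (∀ i, ∃ k : ℕ, g i ^ k • x = 0) → x = 0) {c : A}
    (h : H0Killed g M c) (z : N) : ∃ m, φ m = c • z := by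
  classical
  choose q y hy using hsurj z
  let Q := ∑ i, q i
  let y' : ι → M := fun i => g i ^ (Q - q i) • y i
  have hy' : ∀ i, φ (y' i) = g i ^ Q • z := fun i => by
    rw [map_smul, ← hy, smul_smul, ← pow_add,
      Nat.sub_add_cancel (Finset.single_le_sum (f := q) (fun _ _ => Nat.zero_le _) (Finset.mem_univ i))]
  have hd : ∀ e : ι × ι, ∀ l, ∃ r : ℕ, g l ^ r • (g e.2 ^ Q • y' e.1 - g e.1 ^ Q • y' e.2) = 0 :=
    fun e => hker _ (by
      rw [map_sub, LinearMap.map_smul _ (g e.2 ^ Q), LinearMap.map_smul _ (g e.1 ^ Q), hy', hy', smul_comm, sub_self])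
  choose r hr using hd
  let R := ∑ e : ι × ι, r e e.1
  have hR : ∀ i j, g i ^ R • (g j ^ Q • y' i - g i ^ Q • y' j) = 0 := fun i j => by
    obtain ⟨d, hd⟩ := Nat.exists_eq_add_of_le
      (Finset.single_le_sum (f := fun e : ι × ι => r e e.1) (fun _ _ => Nat.zero_le _) (Finset.mem_univ (i, j)))
    simp only [R, hd]
    rw [add_comm (r (i, j) i) d, pow_add, mul_smul, hr (i, j) i, smul_zero]
  obtain ⟨x, p, hx⟩ := h (Q + R) (fun i => g i ^ R • y' i) fun i j => by
    have := congrArg (fun m => g j ^ R • m) (hR i j)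
    simp only [smul_sub, smul_smul, smul_zero, sub_eq_zero] at this
    simp only [smul_smul]
    rw [show g j ^ (Q + R) * g i ^ R = g j ^ R * (g i ^ R * g j ^ Q) by ring, this]
    congr 1
    ring
  refine ⟨x, sub_eq_zero.1 (hsep _ fun i => ⟨Q + R + p, ?_⟩)⟩
  rw [smul_sub, ← map_smul φ, ← hx i, map_smul, map_smul, map_smul, hy', smul_smul, smul_smul, smul_smul, smul_smul,
    ← sub_smul, show g i ^ p * c * g i ^ R * g i ^ Q - g i ^ (Q + R + p) * c = 0 by ring, zero_smul]

include hker hsurj in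
theorem H1Killed.transfer {c : A} (h : H1Killed g M c) : H1Killed g N c := by
  classical
  intro k a ha
  choose q b hb using fun e : ι × ι => hsurj (a e.1 e.2) e.1
  let Q := ∑ e, q e
  let b' : ι → ι → M := fun i j => (g i ^ (Q - q (i, j)) * g j ^ Q) • b (i, j)
  have hb' : ∀ i j, φ (b' i j) = (g i * g j) ^ Q • a i j := fun i j => by
    rw [map_smul, ← hb, smul_smul, mul_right_comm, ← pow_add,
      Nat.sub_add_cancel (Finset.single_le_sum (f := q) (fun _ _ => Nat.zero_le _) (Finset.mem_univ (i, j))), mul_pow]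
  have hd : ∀ e : ι × ι × ι, ∀ o, ∃ r : ℕ, g o ^ r • (g e.2.2 ^ (k + Q) • b' e.1 e.2.1 + g e.1 ^ (k + Q) • b' e.2.1 e.2.2 -
      g e.2.1 ^ (k + Q) • b' e.1 e.2.2) = 0 := fun e => hker _ (by
    obtain ⟨i, j, l⟩ := e
    have := congrArg (fun m => (g i * g j * g l) ^ Q • m) (ha i j l)
    simp only [smul_add, smul_smul] at this
    simp only [map_sub, map_add, map_smul, hb', smul_smul, sub_eq_zero]
    rw [show g l ^ (k + Q) * (g i * g j) ^ Q = (g i * g j * g l) ^ Q * g l ^ k by ring,
      show g i ^ (k + Q) * (g j * g l) ^ Q = (g i * g j * g l) ^ Q * g i ^ k by ring,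
      show g j ^ (k + Q) * (g i * g l) ^ Q = (g i * g j * g l) ^ Q * g j ^ k by ring]
    exact this)
  choose r hr using hd
  let R := ∑ e : ι × ι × ι, r e e.1
  obtain ⟨p, w, hw⟩ := h (k + Q + R) (fun i j => (g i * g j) ^ R • b' i j) fun i j l => by
    obtain ⟨d, hd⟩ := Nat.exists_eq_add_of_le
      (Finset.single_le_sum (f := fun e : ι × ι × ι => r e e.1) (fun _ _ => Nat.zero_le _) (Finset.mem_univ (i, j, l)))
    have := congrArg (fun m => (g i ^ d * (g j * g l) ^ R) • m) (hr (i, j, l) i)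
    simp only [smul_add, smul_sub, smul_smul, smul_zero, sub_eq_zero] at this
    simp only [smul_smul]
    rw [show g l ^ (k + Q + R) * (g i * g j) ^ R = g i ^ d * (g j * g l) ^ R * (g i ^ r (i, j, l) i * g l ^ (k + Q)) by
        simp only [R, hd]; ring,
      show g i ^ (k + Q + R) * (g j * g l) ^ R = g i ^ d * (g j * g l) ^ R * (g i ^ r (i, j, l) i * g i ^ (k + Q)) by
        simp only [R, hd]; ring,
      show g j ^ (k + Q + R) * (g i * g l) ^ R = g i ^ d * (g j * g l) ^ R * (g i ^ r (i, j, l) i * g j ^ (k + Q)) by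
        simp only [R, hd]; ring]
    exact this
  refine ⟨p + R + Q, fun i => φ (w i), fun i j => ?_⟩
  have := congrArg φ (hw i j)
  simp only [map_sub, map_smul, hb', smul_smul] at this
  rw [show k + (p + R + Q) = k + Q + R + p by omega, smul_smul, ← this]
  congr 1
  ring

end Transfer

end Groth.Agent.PurX
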