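import Groth.Agent.PurX.MilnorGlue
import Groth.Agent.PurX.DualKillOff
import Groth.Agent.Adic7.Basic

/-!
# Extension to a neighbourhood from a dualizing complex
-/

set_option autoImplicit false
set_option linter.style.haveILetI false
set_option linter.unusedSectionVars false

universe u

open CategoryTheory CategoryTheory.Limits AlgebraicGeometry TensorProduct IsLocalRing
open Groth.Agent.Pi1Ext Groth.Agent.Pi1Ext.RegPurity

set_option backward.isDefEq.respectTransparency false

attribute [local instance] HasDerivedCategory.standard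

noncomputable section

namespace Groth.Agent.PurX

theorem isAdicComplete_pow {A : Type u} [CommRing A] [IsNoetherianRing A] (f : A) [IsAdicComplete (Ideal.span {f}) A]
    (P : ℕ) (hP : 0 < P) : IsAdicComplete (Ideal.span {f ^ P}) A where
  toIsHausdorff := IsHausdorff.of_le_jacobson _ A
    ((Ideal.span_singleton_le_span_singleton.2 (dvd_pow_self f hP.ne')).trans (IsAdicComplete.le_jacobson_bot (Ideal.span {f})))
  toIsPrecomplete := ⟨fun a ha => by
    have hle : ∀ n, (Ideal.span {f ^ P} ^ n • ⊤ : Submodule A A) ≤ Ideal.span {f} ^ n • ⊤ := fun n =>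
      Submodule.smul_mono_left (Ideal.pow_right_mono (Ideal.span_singleton_le_span_singleton.2 (dvd_pow_self f hP.ne')) n)
    obtain ⟨L, hL⟩ := IsPrecomplete.prec (I := Ideal.span {f}) (M := A) inferInstance (f := a)
      fun {m n} h => SModEq.mono (hle m) (ha h)
    refine ⟨L, fun n => (ha (Nat.le_mul_of_pos_left n hP)).trans ?_⟩
    have e : (Ideal.span {f} ^ (P * n) : Ideal A) = Ideal.span {f ^ P} ^ n := by
      rw [Ideal.span_singleton_pow, Ideal.span_singleton_pow, pow_mul]
    rw [← e]
    exact hL (P * n)⟩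

theorem H0Killed.of_linearEquiv {A : Type u} [CommRing A] {ι : Type} {g : ι → A} {c : A} {M M' : Type u}
    [AddCommGroup M] [Module A M] [AddCommGroup M'] [Module A M'] (e : M ≃ₗ[A] M') (h : H0Killed g M c) :
    H0Killed g M' c := by
  intro k y hy
  obtain ⟨x, p, hx⟩ := h k (fun i => e.symm (y i)) fun i j => by
    have := congrArg e.symm (hy i j)
    simpa only [map_smul] using this
  refine ⟨e x, p, fun i => ?_⟩
  have := congrArg e (hx i)
  simpa only [map_smul, LinearEquiv.apply_symm_apply] using this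

theorem H1Killed.of_linearEquiv {A : Type u} [CommRing A] {ι : Type} {g : ι → A} {c : A} {M M' : Type u}
    [AddCommGroup M] [Module A M] [AddCommGroup M'] [Module A M'] (e : M ≃ₗ[A] M') (h : H1Killed g M c) :
    H1Killed g M' c := by
  intro k a ha
  obtain ⟨p, w, hw⟩ := h k (fun i j => e.symm (a i j)) fun i j l => by
    have := congrArg e.symm (ha i j l)
    simpa only [map_smul, map_add] using this
  refine ⟨p, fun i => e (w i), fun i j => ?_⟩
  have := congrArg e (hw i j)
  simpa only [map_smul, map_sub, LinearEquiv.apply_symm_apply] using this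

variable {A : Type u} [CommRing A] [IsLocalRing A] [IsNoetherianRing A]

/-- The quotient maps of the punctured thickenings. -/
theorem exists_thickening_map {f : A} {P : ℕ} (hP : 0 < P) :
    ∃ j : pullback (FEt.puncturedSpec A).ι (Spec.map (CommRingCat.ofHom (Ideal.Quotient.mk (Ideal.span {f})))) ⟶
        pullback (FEt.puncturedSpec A).ι (Spec.map (CommRingCat.ofHom (Ideal.Quotient.mk (Ideal.span {f ^ P})))),
      j ≫ pullback.fst _ _ = pullback.fst _ _ ∧ (FEt.restrict j).IsEquivalence := by
  let q := Spec.map (CommRingCat.ofHom (Ideal.Quotient.mk (Ideal.span {f})))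
  let q' := Spec.map (CommRingCat.ofHom (Ideal.Quotient.mk (Ideal.span {f ^ P})))
  have hle : Ideal.span {f ^ P} ≤ Ideal.span {f} := Ideal.span_singleton_le_span_singleton.2 (dvd_pow_self f hP.ne')
  let j : pullback (FEt.puncturedSpec A).ι q ⟶ pullback (FEt.puncturedSpec A).ι q' :=
    pullback.lift (pullback.fst _ _) (pullback.snd _ _ ≫ Spec.map (CommRingCat.ofHom (Ideal.Quotient.factor hle))) (by
      rw [Category.assoc, ← Spec.map_comp, pullback.condition]
      congr 1)
  have hj : j ≫ pullback.fst _ _ = pullback.fst _ _ := pullback.lift_fst _ _ _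
  haveI : IsClosedImmersion q := IsClosedImmersion.spec_of_surjective _ Ideal.Quotient.mk_surjective
  haveI : IsClosedImmersion q' := IsClosedImmersion.spec_of_surjective _ Ideal.Quotient.mk_surjective
  haveI : IsClosedImmersion (j ≫ pullback.fst (FEt.puncturedSpec A).ι q') := by rw [hj]; infer_instance
  haveI : IsClosedImmersion j := IsClosedImmersion.of_comp _ (pullback.fst (FEt.puncturedSpec A).ι q')
  haveI : Surjective j := by
    refine ⟨fun y => ?_⟩
    have hr : (pullback.fst (FEt.puncturedSpec A).ι q').base y ∈ Set.range (pullback.fst (FEt.puncturedSpec A).ι q).base := by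
      rw [show Set.range (pullback.fst (FEt.puncturedSpec A).ι q).base = _ from Scheme.Pullback.range_fst _ _]
      have h1 : (pullback.fst (FEt.puncturedSpec A).ι q').base y ∈
          Set.range (pullback.fst (FEt.puncturedSpec A).ι q').base := ⟨y, rfl⟩
      rw [show Set.range (pullback.fst (FEt.puncturedSpec A).ι q').base = _ from Scheme.Pullback.range_fst _ _] at h1
      exact (mem_range_spec_quot f _).2 (Ideal.IsPrime.mem_of_pow_mem inferInstance P
        ((mem_range_spec_quot (f ^ P) _).1 h1))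
    obtain ⟨x, hx⟩ := hr
    refine ⟨x, (pullback.fst (FEt.puncturedSpec A).ι q').isClosedEmbedding.injective ?_⟩
    rw [← Scheme.Hom.comp_apply, hj]
    exact hx
  exact ⟨j, hj, S0238.result _⟩

/-- Covers of the punctured hypersurface extend to a neighbourhood, if `b * f ^ K` kills low local cohomology
for `b` in, modulo high powers of `f`, a power of the maximal ideal. -/
theorem exists_extension_nhd_of_killUpTo {f : A} (hf : f ∈ maximalIdeal A) [IsAdicComplete (Ideal.span {f}) A]
    {K : ℕ} (hK : KillUpTo f A K)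
    (V₀ : FEt.Cat (pullback (FEt.puncturedSpec A).ι (Spec.map (CommRingCat.ofHom (Ideal.Quotient.mk (Ideal.span {f})))))) :
    ∃ (U' : (Spec (CommRingCat.of A)).Opens) (_ : U' ≤ FEt.puncturedSpec A)
      (u' : pullback (FEt.puncturedSpec A).ι (Spec.map (CommRingCat.ofHom (Ideal.Quotient.mk (Ideal.span {f})))) ⟶ (U' : Scheme.{u}))
      (_ : u' ≫ U'.ι = pullback.fst (FEt.puncturedSpec A).ι (Spec.map (CommRingCat.ofHom (Ideal.Quotient.mk (Ideal.span {f})))) ≫ (FEt.puncturedSpec A).ι)
      (V' : FEt.Cat (U' : Scheme.{u})), Nonempty ((FEt.restrict u').obj V' ≅ V₀) := by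
  classical
  by_cases hnil : IsNilpotent f
  · let q := Spec.map (CommRingCat.ofHom (Ideal.Quotient.mk (Ideal.span {f})))
    let j := pullback.fst (FEt.puncturedSpec A).ι q
    haveI : IsClosedImmersion q := IsClosedImmersion.spec_of_surjective _ Ideal.Quotient.mk_surjective
    haveI : IsClosedImmersion j := inferInstance
    haveI : Surjective j := ⟨fun x => by
      show x ∈ Set.range j.base
      rw [show Set.range j.base = _ from Scheme.Pullback.range_fst _ _]
      refine (mem_range_spec_quot f _).2 ?_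
      obtain ⟨k, hk⟩ := hnil
      exact Ideal.IsPrime.mem_of_pow_mem inferInstance k (by rw [hk]; exact zero_mem _)⟩
    haveI : (FEt.restrict j).IsEquivalence := S0238.result _
    exact ⟨FEt.puncturedSpec A, le_rfl, j, rfl, (FEt.restrict j).objPreimage V₀,
      ⟨(FEt.restrict j).objObjPreimageIso V₀⟩⟩
  -- the torsion
  obtain ⟨N, hN⟩ := monotone_stabilizes_iff_noetherian.2 (inferInstance : IsNoetherian A A)
    ⟨fun N => LinearMap.ker (LinearMap.lsmul A A (f ^ N)), fun a b hab x hx => by
      obtain ⟨c, rfl⟩ := Nat.exists_eq_add_of_le hab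
      simp only [LinearMap.mem_ker, LinearMap.lsmul_apply, smul_eq_mul] at hx ⊢
      rw [pow_add, mul_comm (f ^ a), mul_assoc, hx, mul_zero]⟩
  let T : Ideal A := LinearMap.ker (LinearMap.lsmul A A (f ^ N))
  let Kq := K + N
  let P := Kq + Kq + N + 1
  have hP : 0 < P := Nat.succ_pos _
  let F := f ^ P
  have hT : ∀ r ∈ T, F * r = 0 := fun r hr => by
    have : f ^ N * r = 0 := hr
    rw [show F = f ^ (Kq + Kq + 1) * f ^ N by rw [← pow_add]; show f ^ P = _; congr 1; simp only [P]; omega, mul_assoc, this, mul_zero]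
  have hTm : T ≤ maximalIdeal A := IsLocalRing.le_maximalIdeal fun htop => hnil ⟨N, by
    have : f ^ N * 1 = 0 := (htop ▸ Submodule.mem_top (x := (1 : A)) : (1 : A) ∈ T)
    rwa [mul_one] at this⟩
  have hFm : F ∈ maximalIdeal A := Ideal.pow_mem_of_mem _ hf _ hP
  haveI : Nontrivial (A ⧸ Ideal.span {F}) := Ideal.Quotient.nontrivial_iff.2
    fun h => (maximalIdeal.isMaximal A).ne_top (top_le_iff.1 (h ▸ (Ideal.span_singleton_le_iff_mem _).2 hFm))
  haveI : IsLocalRing (A ⧸ Ideal.span {F}) := IsLocalRing.of_surjective' _ Ideal.Quotient.mk_surjective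
  let A₂ := A ⧸ T
  haveI : Nontrivial A₂ := Ideal.Quotient.nontrivial_iff.2
    fun h => (maximalIdeal.isMaximal A).ne_top (top_le_iff.1 (h ▸ hTm))
  haveI : IsLocalRing A₂ := IsLocalRing.of_surjective' _ Ideal.Quotient.mk_surjective
  haveI : IsLocalHom (algebraMap A A₂) := Function.Surjective.isLocalHom _ Ideal.Quotient.mk_surjective
  let F₂ := Ideal.Quotient.mk T F
  have hmax : ∀ a ∈ maximalIdeal A, algebraMap A A₂ a ∈ maximalIdeal A₂ := fun a ha => by
    rw [mem_maximalIdeal, mem_nonunits_iff]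
    exact fun h => ha (IsLocalHom.map_nonunit _ h)
  have hF₂ : F₂ ∈ maximalIdeal A₂ := hmax F hFm
  haveI : Nontrivial (A₂ ⧸ Ideal.span {F₂}) := Ideal.Quotient.nontrivial_iff.2
    fun h => (maximalIdeal.isMaximal A₂).ne_top (top_le_iff.1 (h ▸ (Ideal.span_singleton_le_iff_mem _).2 hF₂))
  haveI : IsLocalRing (A₂ ⧸ Ideal.span {F₂}) := IsLocalRing.of_surjective' _ Ideal.Quotient.mk_surjective
  have hreg : ∀ x : A₂, f • x = 0 → x = 0 := fun x hx => by
    obtain ⟨x, rfl⟩ := Ideal.Quotient.mk_surjective x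
    rw [Algebra.smul_def, Ideal.Quotient.algebraMap_eq, ← map_mul, Ideal.Quotient.eq_zero_iff_mem] at hx
    rw [Ideal.Quotient.eq_zero_iff_mem]
    refine (hN (N + 1) N.le_succ).ge ?_
    show f ^ (N + 1) * x = 0
    rw [pow_succ, mul_assoc]
    exact hx
  have hregF : F₂ ∈ nonZeroDivisors A₂ := by
    refine mem_nonZeroDivisors_iff_right.2 fun x hx => ?_
    have : ∀ (l : ℕ) (x : A₂), f ^ l • x = 0 → x = 0 := fun l => by
      induction l with
      | zero => intro x hx; simpa using hx
      | succ l ih => exact fun x hx => ih x (hreg _ (by rwa [smul_smul, ← pow_succ']))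
    refine this P x ?_
    rw [Algebra.smul_def, mul_comm]
    exact hx
  haveI : IsAdicComplete (Ideal.span {F₂}) A₂ := by
    haveI := isAdicComplete_pow f P hP
    haveI : IsAdicComplete (Ideal.span {F}) A₂ := Adic7.isAdicComplete_of_finite _ A₂
    rw [show Ideal.span {F₂} = (Ideal.span {F}).map (algebraMap A A₂) by
      rw [Ideal.map_span, Set.image_singleton]; rfl]
    exact (IsAdicComplete.map_algebraMap_iff (S := A₂) _ A₂).mpr inferInstance
  -- killing over the quotient
  obtain ⟨n, g, hg⟩ := exists_gens (maximalIdeal A)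
  let g₂ : Fin n → A₂ := algebraMap A A₂ ∘ g
  have hg₂ : Ideal.span (Set.range g₂) = maximalIdeal A₂ := by
    rw [Set.range_comp, ← Ideal.map_span, hg]
    refine le_antisymm (Ideal.map_le_iff_le_comap.2 hmax) fun a ha => ?_
    obtain ⟨a, rfl⟩ := Ideal.Quotient.mk_surjective a
    refine Ideal.mem_map_of_mem (algebraMap A A₂) ?_
    rw [mem_maximalIdeal, mem_nonunits_iff] at ha ⊢
    exact fun h => ha (h.map _)
  obtain ⟨t, ht⟩ := (hK.quotient T (fun x hx => hx)).kill_quot_pow hreg (P * 3)
  let M₃ := A₂ ⧸ LinearMap.range (LinearMap.lsmul A A₂ (f ^ (P * 3)))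
  let Q₃ := A₂ ⧸ Ideal.span {F₂ ^ 3}
  have hrange : LinearMap.range (LinearMap.lsmul A A₂ (f ^ (P * 3))) = (Ideal.span {F₂ ^ 3}).restrictScalars A := by
    ext x
    rw [Submodule.restrictScalars_mem, Ideal.mem_span_singleton', LinearMap.mem_range]
    refine exists_congr fun y => ?_
    rw [LinearMap.lsmul_apply, Algebra.smul_def, mul_comm, pow_mul]
    rfl
  let eM : M₃ ≃ₗ[A] Q₃ := (Submodule.quotEquivOfEq _ _ hrange).trans
    (Submodule.Quotient.restrictScalarsEquiv A (Ideal.span {F₂ ^ 3}))
  have hk : ∀ l, H0Killed g₂ Q₃ (g₂ l ^ t * F₂) ∧ H1Killed g₂ Q₃ (g₂ l ^ t * F₂) := by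
    intro l
    have hkill : ∀ i ≤ 2, ∀ z : LocCoh.H (maximalIdeal A) i M₃, (g l ^ t * f ^ P) • z = 0 := fun i hi z => by
      rw [show g l ^ t * f ^ P = f ^ (N + 1) * (g l ^ t * f ^ (Kq + Kq)) by
        rw [mul_left_comm, ← pow_add]; congr 2; omega, mul_smul,
        ht _ (Ideal.pow_mem_pow (hg ▸ Ideal.subset_span ⟨l, rfl⟩) t) i hi z, smul_zero]
    have h0 := h0Killed_of_H g hg (ModuleCat.of A M₃) _ (hkill 1 one_le_two)
    have h1 := h1Killed_of_H g hg (ModuleCat.of A M₃) _ (hkill 2 le_rfl)
    have hscal : algebraMap A A₂ (g l ^ t * f ^ P) = g₂ l ^ t * F₂ := by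
      rw [map_mul, map_pow]; rfl
    refine ⟨?_, ?_⟩
    · have h0' := H0Killed.of_linearEquiv eM h0
      rw [H0Killed.restrictScalars (S := A₂), hscal] at h0'
      exact h0'
    · have h1' := H1Killed.of_linearEquiv eM h1
      rw [H1Killed.restrictScalars (S := A₂), hscal] at h1'
      exact h1'
  obtain ⟨j, hj, hjE⟩ := exists_thickening_map (A := A) (f := f) hP
  haveI := hjE
  obtain ⟨U', hU', u₁, hu₁, V', ⟨e⟩⟩ := exists_extension_of_torsion_quotient (f := F) T hT
    (fun D _ _ _ hD => exists_algebra_of_killed hF₂ hregF hg₂ (fun l => (hk l).1) (fun l => (hk l).2) D hD)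
    ((FEt.restrict j).objPreimage V₀)
  refine ⟨U', hU', j ≫ u₁, by rw [Category.assoc, hu₁, reassoc_of% hj], V', ⟨?_⟩⟩
  exact Spread.restrictComp j u₁ _ rfl V' ≪≫ (FEt.restrict j).mapIso e ≪≫ (FEt.restrict j).objObjPreimageIso V₀

/-- Covers of the punctured hypersurface extend to a neighbourhood under the numerical conditions. -/
theorem exists_extension_nhd_of_dualizing {f : A} (hf : f ∈ maximalIdeal A)
    (hd : ∃ ω : Dual.D A, Dual.IsDualizing A ω) [IsAdicComplete (Ideal.span {f}) A]
    (hc : ((LocCoh.HasSk 2 (Localization.Away f) (Localization.Away f) ∧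
        ∀ p : Ideal A, p ∈ minimalPrimes A → f ∉ p → (4 : WithBot ℕ∞) ≤ ringKrullDim (A ⧸ p)) ∨
      (∀ p : Ideal A, ∀ _ : p.IsPrime, f ∉ p → (p ⊔ Ideal.span {f}).radical ≠ maximalIdeal A →
        (3 : WithBot ℕ∞) < (LocCoh.depth (Localization.AtPrime p) (Localization.AtPrime p) : WithBot ℕ∞) + ringKrullDim (A ⧸ p))))
    (V₀ : FEt.Cat (pullback (FEt.puncturedSpec A).ι (Spec.map (CommRingCat.ofHom (Ideal.Quotient.mk (Ideal.span {f})))))) :
    ∃ (U' : (Spec (CommRingCat.of A)).Opens) (_ : U' ≤ FEt.puncturedSpec A)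
      (u' : pullback (FEt.puncturedSpec A).ι (Spec.map (CommRingCat.ofHom (Ideal.Quotient.mk (Ideal.span {f})))) ⟶ (U' : Scheme.{u}))
      (_ : u' ≫ U'.ι = pullback.fst (FEt.puncturedSpec A).ι (Spec.map (CommRingCat.ofHom (Ideal.Quotient.mk (Ideal.span {f})))) ≫ (FEt.puncturedSpec A).ι)
      (V' : FEt.Cat (U' : Scheme.{u})), Nonempty ((FEt.restrict u').obj V' ≅ V₀) := by
  obtain ⟨ω, hω⟩ := hd
  obtain ⟨K, hK⟩ := exists_killUpTo hω f (by
    rcases hc with ⟨hsk, hdim⟩ | h
    · exact fun p hp hfp hm => depth_add_dim_three_of_hasSk hω f hsk hdim p hp hfp hm hf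
    · exact h)
  exact exists_extension_nhd_of_killUpTo hf hK V₀

end Groth.Agent.PurX
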