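import Mathlib.RingTheory.LocalRing.Module
import Mathlib.RingTheory.Smooth.Fiber
import Mathlib.RingTheory.Kaehler.TensorProduct
import Mathlib.RingTheory.Unramified.Finite
import Mathlib.LinearAlgebra.TensorProduct.Quotient
import Mathlib.RingTheory.Nakayama
import Mathlib.RingTheory.Etale.Basic
import Mathlib.RingTheory.Smooth.Flat

/-!
# A finite algebra over a local ring which is étale modulo a regular element is étale
-/

set_option autoImplicit false
set_option linter.style.haveILetI false

universe u

open TensorProduct IsLocalRing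

attribute [local instance] Algebra.TensorProduct.rightAlgebra

namespace Groth.Agent.PurX

variable {R : Type u} [CommRing R] [IsLocalRing R] [IsNoetherianRing R] {t : R}

/-- A finite module, free modulo a regular element, is free. -/
theorem free_of_regular_quotient (ht : t ∈ maximalIdeal R) {M : Type u} [AddCommGroup M] [Module R M]
    [Module.Finite R M] (hreg : ∀ m : M, t • m = 0 → m = 0)
    [Module.Free (R ⧸ Ideal.span {t}) ((R ⧸ Ideal.span {t}) ⊗[R] M)] : Module.Free R M := by
  classical
  let B := R ⧸ Ideal.span {t}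
  let J := Module.Free.ChooseBasisIndex B (B ⊗[R] M)
  let b := Module.Free.chooseBasis B (B ⊗[R] M)
  haveI : Module.Finite B (B ⊗[R] M) := inferInstance
  haveI : Nontrivial B := Ideal.Quotient.nontrivial_iff.2
    fun h => (maximalIdeal.isMaximal R).ne_top (top_le_iff.1 (h ▸ (Ideal.span_singleton_le_iff_mem _).2 ht))
  haveI : Fintype J := Module.Free.ChooseBasisIndex.fintype B (B ⊗[R] M)
  choose v hv using fun j => TensorProduct.mk_surjective R M B Ideal.Quotient.mk_surjective (b j)
  let L : (J → R) →ₗ[R] M := Fintype.linearCombination R v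
  have hL : ∀ a, (1 : B) ⊗ₜ[R] L a = b.equivFun.symm (fun j => Ideal.Quotient.mk _ (a j)) := fun a => by
    simp only [L, Fintype.linearCombination_apply, TensorProduct.tmul_sum, Module.Basis.equivFun_symm_apply]
    refine Finset.sum_congr rfl fun j _ => ?_
    rw [← hv, TensorProduct.tmul_smul, ← Ideal.Quotient.algebraMap_eq, algebraMap_smul]
    rfl
  have hmem : ∀ m : M, (1 : B) ⊗ₜ[R] m = 0 → ∃ m', t • m' = m := fun m hm => by
    have h := congrArg (TensorProduct.quotTensorEquivQuotSMul M (Ideal.span {t})) hm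
    rw [TensorProduct.quotTensorEquivQuotSMul_mk_one_tmul, map_zero, Submodule.Quotient.mk_eq_zero,
      Submodule.ideal_span_singleton_smul, Submodule.mem_smul_pointwise_iff_exists] at h
    obtain ⟨m', -, hm'⟩ := h
    exact ⟨m', hm'⟩
  have hle : Ideal.span {t} ≤ Ideal.jacobson ⊥ :=
    ((Ideal.span_singleton_le_iff_mem _).2 ht).trans (maximalIdeal_le_jacobson _)
  have hsurj : LinearMap.range L = ⊤ := by
    refine top_le_iff.1 (Submodule.le_of_le_smul_of_le_jacobson_bot Module.Finite.fg_top hle fun m _ => ?_)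
    choose a ha using fun j => Ideal.Quotient.mk_surjective (b.equivFun (1 ⊗ₜ[R] m) j)
    obtain ⟨m', hm'⟩ := hmem (m - L a) (by
      rw [TensorProduct.tmul_sub, hL, sub_eq_zero, show (fun j => Ideal.Quotient.mk _ (a j)) = b.equivFun (1 ⊗ₜ[R] m) from
        funext ha, LinearEquiv.symm_apply_apply])
    rw [← add_sub_cancel (L a) m, ← hm']
    exact add_mem (Submodule.mem_sup_left ⟨a, rfl⟩)
      (Submodule.mem_sup_right (Submodule.smul_mem_smul (Ideal.mem_span_singleton_self t) trivial))
  have hker : LinearMap.ker L = ⊥ := by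
    refine Submodule.eq_bot_of_le_smul_of_le_jacobson_bot (Ideal.span {t}) _ (IsNoetherian.noetherian _) (fun a ha => ?_) hle
    have h0 := hL a
    rw [LinearMap.mem_ker.1 ha, TensorProduct.tmul_zero, eq_comm, LinearEquiv.map_eq_zero_iff] at h0
    have hdvd : ∀ j, t ∣ a j := fun j =>
      Ideal.mem_span_singleton.1 (Ideal.Quotient.eq_zero_iff_mem.1 (congrFun h0 j))
    choose a' ha' using hdvd
    have e : a = t • a' := funext ha'
    rw [e]
    refine Submodule.smul_mem_smul (Ideal.mem_span_singleton_self t) (hreg _ ?_)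
    rw [← map_smul, ← e]
    exact LinearMap.mem_ker.1 ha
  exact Module.Free.of_equiv
    (LinearEquiv.ofBijective L ⟨LinearMap.ker_eq_bot.1 hker, LinearMap.range_eq_top.1 hsurj⟩)

/-- A finite algebra on which `t` is regular and which is étale modulo `t` is étale. -/
theorem etale_of_regular_quotient (ht : t ∈ maximalIdeal R) (S : Type u) [CommRing S] [Algebra R S]
    [Module.Finite R S] (hreg : ∀ m : S, t • m = 0 → m = 0)
    [Algebra.Etale (R ⧸ Ideal.span {t}) ((R ⧸ Ideal.span {t}) ⊗[R] S)] : Algebra.Etale R S := by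
  let B := R ⧸ Ideal.span {t}
  haveI : Nontrivial B := Ideal.Quotient.nontrivial_iff.2
    fun h => (maximalIdeal.isMaximal R).ne_top (top_le_iff.1 (h ▸ (Ideal.span_singleton_le_iff_mem _).2 ht))
  haveI : IsLocalRing B := IsLocalRing.of_surjective' _ Ideal.Quotient.mk_surjective
  haveI : Module.Free B (B ⊗[R] S) := Module.free_of_flat_of_isLocalRing
  haveI : Module.Free R S := free_of_regular_quotient ht hreg
  haveI : Algebra.FinitePresentation R S :=
    Algebra.FinitePresentation.of_finiteType.mp inferInstance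
  haveI : Algebra.FormallyUnramified R S := by
    constructor
    haveI : Module.Finite R (Ω[S⁄R]) := Module.Finite.trans S _
    haveI : Subsingleton (B ⊗[R] Ω[S⁄R]) :=
      (KaehlerDifferential.tensorKaehlerEquivBase R B S (B ⊗[R] S)).subsingleton
    refine subsingleton_of_forall_eq 0 fun z => ?_
    have hle : Ideal.span {t} ≤ Ideal.jacobson ⊥ :=
      ((Ideal.span_singleton_le_iff_mem _).2 ht).trans (maximalIdeal_le_jacobson _)
    have htop : (⊤ : Submodule R (Ω[S⁄R])) ≤ Ideal.span {t} • ⊤ := fun z _ => by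
      have h := congrArg (TensorProduct.quotTensorEquivQuotSMul (Ω[S⁄R]) (Ideal.span {t}))
        (Subsingleton.elim ((1 : B) ⊗ₜ[R] z) 0)
      rwa [TensorProduct.quotTensorEquivQuotSMul_mk_one_tmul, map_zero, Submodule.Quotient.mk_eq_zero] at h
    have := Submodule.eq_bot_of_le_smul_of_le_jacobson_bot _ _ Module.Finite.fg_top htop hle
    exact (Submodule.mem_bot R).1 (this ▸ Submodule.mem_top (x := z))
  exact Algebra.Etale.of_formallyUnramified_of_flat

/-- A finite module, free modulo `t`, whose `t`-torsion is in `T • M` for an ideal `T` killed by `t`, is free. -/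
theorem free_of_torsion_quotient (ht : t ∈ maximalIdeal R) {T : Ideal R} (hT : ∀ r ∈ T, t * r = 0) {M : Type u}
    [AddCommGroup M] [Module R M] [Module.Finite R M] (hM : ∀ m : M, t • m = 0 → m ∈ T • (⊤ : Submodule R M))
    [Module.Free (R ⧸ Ideal.span {t}) ((R ⧸ Ideal.span {t}) ⊗[R] M)] : Module.Free R M := by
  classical
  let B := R ⧸ Ideal.span {t}
  let J := Module.Free.ChooseBasisIndex B (B ⊗[R] M)
  let b := Module.Free.chooseBasis B (B ⊗[R] M)
  haveI : Module.Finite B (B ⊗[R] M) := inferInstance
  haveI : Nontrivial B := Ideal.Quotient.nontrivial_iff.2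
    fun h => (maximalIdeal.isMaximal R).ne_top (top_le_iff.1 (h ▸ (Ideal.span_singleton_le_iff_mem _).2 ht))
  haveI : Fintype J := Module.Free.ChooseBasisIndex.fintype B (B ⊗[R] M)
  choose v hv using fun j => TensorProduct.mk_surjective R M B Ideal.Quotient.mk_surjective (b j)
  let L : (J → R) →ₗ[R] M := Fintype.linearCombination R v
  have hL : ∀ a, (1 : B) ⊗ₜ[R] L a = b.equivFun.symm (fun j => Ideal.Quotient.mk _ (a j)) := fun a => by
    simp only [L, Fintype.linearCombination_apply, TensorProduct.tmul_sum, Module.Basis.equivFun_symm_apply]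
    refine Finset.sum_congr rfl fun j _ => ?_
    rw [← hv, TensorProduct.tmul_smul, ← Ideal.Quotient.algebraMap_eq, algebraMap_smul]
    rfl
  have hmem : ∀ m : M, (1 : B) ⊗ₜ[R] m = 0 → ∃ m', t • m' = m := fun m hm => by
    have h := congrArg (TensorProduct.quotTensorEquivQuotSMul M (Ideal.span {t})) hm
    rw [TensorProduct.quotTensorEquivQuotSMul_mk_one_tmul, map_zero, Submodule.Quotient.mk_eq_zero,
      Submodule.ideal_span_singleton_smul, Submodule.mem_smul_pointwise_iff_exists] at h
    obtain ⟨m', -, hm'⟩ := h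
    exact ⟨m', hm'⟩
  have hle : Ideal.span {t} ≤ Ideal.jacobson ⊥ :=
    ((Ideal.span_singleton_le_iff_mem _).2 ht).trans (maximalIdeal_le_jacobson _)
  have hsurj : LinearMap.range L = ⊤ := by
    refine top_le_iff.1 (Submodule.le_of_le_smul_of_le_jacobson_bot Module.Finite.fg_top hle fun m _ => ?_)
    choose a ha using fun j => Ideal.Quotient.mk_surjective (b.equivFun (1 ⊗ₜ[R] m) j)
    obtain ⟨m', hm'⟩ := hmem (m - L a) (by
      rw [TensorProduct.tmul_sub, hL, sub_eq_zero, show (fun j => Ideal.Quotient.mk _ (a j)) = b.equivFun (1 ⊗ₜ[R] m) from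
        funext ha, LinearEquiv.symm_apply_apply])
    rw [← add_sub_cancel (L a) m, ← hm']
    exact add_mem (Submodule.mem_sup_left ⟨a, rfl⟩)
      (Submodule.mem_sup_right (Submodule.smul_mem_smul (Ideal.mem_span_singleton_self t) trivial))
  have htop : ∀ m ∈ T • (⊤ : Submodule R M), ∃ a : J → R, (∀ j, a j ∈ T) ∧ L a = m := fun m hm => by
    refine Submodule.smul_induction_on hm (fun r hr z _ => ?_) fun z z' ⟨a, ha, e⟩ ⟨a', ha', e'⟩ =>
      ⟨a + a', fun j => add_mem (ha j) (ha' j), by rw [map_add, e, e']⟩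
    obtain ⟨a, rfl⟩ := LinearMap.range_eq_top.1 hsurj z
    exact ⟨r • a, fun j => Ideal.mul_mem_right _ _ hr, by rw [map_smul]⟩
  have hker : LinearMap.ker L = ⊥ := by
    refine Submodule.eq_bot_of_le_smul_of_le_jacobson_bot (Ideal.span {t}) _ (IsNoetherian.noetherian _) (fun a ha => ?_) hle
    have h0 := hL a
    rw [LinearMap.mem_ker.1 ha, TensorProduct.tmul_zero, eq_comm, LinearEquiv.map_eq_zero_iff] at h0
    have hdvd : ∀ j, t ∣ a j := fun j =>
      Ideal.mem_span_singleton.1 (Ideal.Quotient.eq_zero_iff_mem.1 (congrFun h0 j))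
    choose a' ha' using hdvd
    have e : a = t • a' := funext ha'
    obtain ⟨s, hs, hLs⟩ := htop _ (hM (L a') (by rw [← map_smul, ← e]; exact LinearMap.mem_ker.1 ha))
    have e' : t • a' = t • (a' - s) := funext fun j => by
      show t * a' j = t * (a' j - s j)
      rw [mul_sub, hT _ (hs j), sub_zero]
    rw [e, e']
    refine Submodule.smul_mem_smul (Ideal.mem_span_singleton_self t) ?_
    rw [LinearMap.mem_ker, map_sub, hLs, sub_self]
  exact Module.Free.of_equiv
    (LinearEquiv.ofBijective L ⟨LinearMap.ker_eq_bot.1 hker, LinearMap.range_eq_top.1 hsurj⟩)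

/-- A finite algebra, étale modulo `t`, whose `t`-torsion is in `T • S` for an ideal `T` killed by `t`, is étale. -/
theorem etale_of_torsion_quotient (ht : t ∈ maximalIdeal R) {T : Ideal R} (hT : ∀ r ∈ T, t * r = 0) (S : Type u)
    [CommRing S] [Algebra R S] [Module.Finite R S] (hM : ∀ m : S, t • m = 0 → m ∈ T • (⊤ : Submodule R S))
    [Algebra.Etale (R ⧸ Ideal.span {t}) ((R ⧸ Ideal.span {t}) ⊗[R] S)] : Algebra.Etale R S := by
  let B := R ⧸ Ideal.span {t}
  haveI : Nontrivial B := Ideal.Quotient.nontrivial_iff.2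
    fun h => (maximalIdeal.isMaximal R).ne_top (top_le_iff.1 (h ▸ (Ideal.span_singleton_le_iff_mem _).2 ht))
  haveI : IsLocalRing B := IsLocalRing.of_surjective' _ Ideal.Quotient.mk_surjective
  haveI : Module.Free B (B ⊗[R] S) := Module.free_of_flat_of_isLocalRing
  haveI : Module.Free R S := free_of_torsion_quotient ht hT hM
  haveI : Algebra.FinitePresentation R S :=
    Algebra.FinitePresentation.of_finiteType.mp inferInstance
  haveI : Algebra.FormallyUnramified R S := by
    constructor
    haveI : Module.Finite R (Ω[S⁄R]) := Module.Finite.trans S _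
    haveI : Subsingleton (B ⊗[R] Ω[S⁄R]) :=
      (KaehlerDifferential.tensorKaehlerEquivBase R B S (B ⊗[R] S)).subsingleton
    refine subsingleton_of_forall_eq 0 fun z => ?_
    have hle : Ideal.span {t} ≤ Ideal.jacobson ⊥ :=
      ((Ideal.span_singleton_le_iff_mem _).2 ht).trans (maximalIdeal_le_jacobson _)
    have htop : (⊤ : Submodule R (Ω[S⁄R])) ≤ Ideal.span {t} • ⊤ := fun z _ => by
      have h := congrArg (TensorProduct.quotTensorEquivQuotSMul (Ω[S⁄R]) (Ideal.span {t}))
        (Subsingleton.elim ((1 : B) ⊗ₜ[R] z) 0)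
      rwa [TensorProduct.quotTensorEquivQuotSMul_mk_one_tmul, map_zero, Submodule.Quotient.mk_eq_zero] at h
    have := Submodule.eq_bot_of_le_smul_of_le_jacobson_bot _ _ Module.Finite.fg_top htop hle
    exact (Submodule.mem_bot R).1 (this ▸ Submodule.mem_top (x := z))
  exact Algebra.Etale.of_formallyUnramified_of_flat

end Groth.Agent.PurX
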