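import Groth.Agent.PurX.Glue
import Groth.Agent.PurX.Bridge
import Groth.Agent.Pi1Ext.Spread
import Groth.Agent.S0239

/-!
# Extension of covers from a hypersurface of the punctured spectrum
-/

set_option autoImplicit false
set_option linter.style.haveILetI false

universe u

open CategoryTheory CategoryTheory.Limits AlgebraicGeometry TensorProduct IsLocalRing
open Groth.Agent.Pi1Ext

set_option backward.isDefEq.respectTransparency false

noncomputable section

namespace Groth.Agent.PurX

/-- A cover extends if its restriction to a hypersurface of the punctured spectrum extends. -/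
theorem exists_extension_of_hypersurface {A : Type u} [CommRing A] [IsLocalRing A] [IsNoetherianRing A]
    (f : A) (hf : f ∈ maximalIdeal A) {ι : Type} [Fintype ι] (g : ι → A)
    (hg : Ideal.span (Set.range g) = maximalIdeal A) {n : ℕ}
    (h0 : H0Killed g A (f ^ n)) (h1 : H1Killed g A (f ^ n)) (V : FEt.Cat (FEt.puncturedSpec A : Scheme.{u}))
    (Y₀ : FEt.Cat (Spec (CommRingCat.of (A ⧸ Ideal.span {f}))))
    (e₀ : (FEt.restrict (pullback.snd (FEt.puncturedSpec A).ι (Spec.map (CommRingCat.ofHom (Ideal.Quotient.mk (Ideal.span {f})))))).obj Y₀ ≅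
      (FEt.restrict (pullback.fst (FEt.puncturedSpec A).ι (Spec.map (CommRingCat.ofHom (Ideal.Quotient.mk (Ideal.span {f})))))).obj V) :
    ∃ Y : FEt.Cat (Spec (CommRingCat.of A)), Nonempty ((FEt.restrict (FEt.puncturedSpec A).ι).obj Y ≅ V) := by
  let Ah := Cpl A
  let φ := algebraMap A Ah
  let fh := φ f
  have hmax : maximalIdeal Ah = (maximalIdeal A).map φ := AdicCompletion.maximalIdeal_eq_map (R := A)
  have hgh : Ideal.span (Set.range (φ ∘ g)) = maximalIdeal Ah := by
    rw [hmax, Set.range_comp, ← Ideal.map_span]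
    exact congrArg (Ideal.map φ) hg
  have hfh : fh ∈ maximalIdeal Ah := hmax ▸ Ideal.mem_map_of_mem φ hf
  haveI : IsAdicComplete (Ideal.span {fh}) Ah := isAdicComplete_cpl A (by
    refine fun hT => (maximalIdeal.isMaximal Ah).ne_top (top_le_iff.1 (hT ▸ ?_))
    exact (Ideal.span_singleton_le_iff_mem _).2 hfh)
  haveI : HenselianRing Ah (Ideal.span {fh}) := IsAdicComplete.henselianRing _ _
  have h0h : H0Killed (φ ∘ g) Ah (fh ^ n) :=
    map_pow φ f n ▸ (H0Killed.restrictScalars (S := Ah)).1 h0.of_flat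
  have h1h : H1Killed (φ ∘ g) Ah (fh ^ n) :=
    map_pow φ f n ▸ (H1Killed.restrictScalars (S := Ah)).1 h1.of_flat
  let Uι := (FEt.puncturedSpec A).ι
  let c := PuritySch.sp A Ah
  let q₀ := Spec.map (CommRingCat.ofHom (Ideal.Quotient.mk (Ideal.span {f})))
  let qh := Spec.map (CommRingCat.ofHom (Ideal.Quotient.mk (Ideal.span {fh})))
  let ιh := (FEt.puncturedSpec Ah).ι
  let u₁ := pullback.fst Uι c
  let u₂ := pullback.snd Uι c
  haveI : IsOpenImmersion u₂ := MorphismProperty.pullback_snd _ _ inferInstance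
  have hrange : Set.range ιh.base = Set.range u₂.base := by
    rw [show Set.range u₂.base = _ from Scheme.Pullback.range_snd _ _]
    ext q
    rw [Set.mem_preimage]
    refine (mem_range_punctured hgh q).trans (Iff.trans ?_ (mem_range_punctured hg (PrimeSpectrum.comap φ q)).symm)
    exact Iff.rfl
  let κ := IsOpenImmersion.isoOfRangeEq ιh u₂ hrange
  have hκ : κ.hom ≫ u₂ = ιh := IsOpenImmersion.isoOfRangeEq_hom_fac _ _ _
  have hκ' : u₂ = κ.inv ≫ ιh := by rw [← hκ, Iso.inv_hom_id_assoc]
  let ρ := Ideal.quotientMap (Ideal.span {fh}) φ (by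
    rw [Ideal.span_singleton_le_iff_mem, Ideal.mem_comap]
    exact Ideal.mem_span_singleton_self fh)
  let r := Spec.map (CommRingCat.ofHom ρ)
  have hr : qh ≫ c = r ≫ q₀ := by
    rw [← Spec.map_comp, ← Spec.map_comp]
    rfl
  haveI := Groth.Agent.S0239.result Ah (Ideal.span {fh})
  let Yh := (FEt.restrict qh).objPreimage ((FEt.restrict r).obj Y₀)
  let eY := (FEt.restrict qh).objObjPreimageIso ((FEt.restrict r).obj Y₀)
  let P₀f := pullback.fst Uι q₀
  let P₀s := pullback.snd Uι q₀
  let Phf := pullback.fst ιh qh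
  let Phs := pullback.snd ιh qh
  let w : pullback ιh qh ⟶ pullback Uι q₀ := pullback.lift (Phf ≫ κ.hom ≫ u₁) (Phs ≫ r) (by
    simp only [Category.assoc]
    rw [show u₁ ≫ Uι = u₂ ≫ c from pullback.condition, reassoc_of% hκ, ← hr, ← pullback.condition_assoc])
  obtain ⟨hFull, hFaith⟩ := restrict_ff_of_killed fh hfh (φ ∘ g) hgh h0h h1h
  haveI := hFull
  haveI := hFaith
  let eh : (FEt.restrict ιh).obj Yh ≅ (FEt.restrict (κ.hom ≫ u₁)).obj V :=
    (FEt.restrict Phf).preimageIso
      (Spread.restrictSquare Phf ιh Phs qh pullback.condition Yh ≪≫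
        (FEt.restrict Phs).mapIso eY ≪≫
        Spread.restrictSquare Phs r w P₀s (pullback.lift_snd _ _ _).symm Y₀ ≪≫
        (FEt.restrict w).mapIso e₀ ≪≫
        Spread.restrictSquare w P₀f Phf (κ.hom ≫ u₁) (pullback.lift_fst _ _ _) V)
  refine exists_extension_of_completion A V Yh ?_
  exact Spread.restrictComp κ.inv ιh u₂ hκ' Yh ≪≫ (FEt.restrict κ.inv).mapIso eh ≪≫
    (Spread.restrictComp κ.inv (κ.hom ≫ u₁) u₁ (Iso.inv_hom_id_assoc _ _).symm V).symm

end Groth.Agent.PurX
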