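import Groth.Agent.PurX.FFNhd
import Groth.Agent.Pi1X.FEtFull
import Groth.Agent.Pi1Ext.Spread

/-!
# Full faithfulness of restriction from neighbourhoods of the punctured hypersurface
-/

set_option autoImplicit false
set_option linter.style.haveILetI false
set_option linter.unusedSectionVars false

universe u

open CategoryTheory CategoryTheory.Limits AlgebraicGeometry IsLocalRing
open Groth.Agent.Pi1X

set_option backward.isDefEq.respectTransparency false

noncomputable section

namespace Groth.Agent.PurX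

/-- A morphism between restrictions extends if its graph extends to a clopen subset. -/
theorem exists_map_eq_of_graph {X S : Scheme.{u}} (i : X ⟶ S)
    (h : ∀ C : Set S, IsClopen C → C.Nonempty → (C ∩ Set.range i.base).Nonempty) {Y Z : FEt.Cat S}
    (ψ : (FEt.restrict i).obj Y ⟶ (FEt.restrict i).obj Z)
    (hs : ∀ σ : pullback Y.hom i ⟶ pullback (pullback.fst Y.hom Z.hom ≫ Y.hom) i,
      σ ≫ pullback.fst _ _ ≫ pullback.fst Y.hom Z.hom = pullback.fst Y.hom i →
      σ ≫ pullback.fst _ _ ≫ pullback.snd Y.hom Z.hom = ψ.left ≫ pullback.fst Z.hom i →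
      σ ≫ pullback.snd _ _ = pullback.snd Y.hom i →
      ∃ G : Set ↥(pullback Y.hom Z.hom), IsClopen G ∧
        (pullback.fst (pullback.fst Y.hom Z.hom ≫ Y.hom) i).base ⁻¹' G = Set.range σ.base) :
    ∃ φ : Y ⟶ Z, (FEt.restrict i).map φ = ψ := by
  let ψ₀ : pullback Y.hom i ⟶ pullback Z.hom i := ψ.left
  have hψ₀ : ψ₀ ≫ pullback.snd Z.hom i = pullback.snd Y.hom i := MorphismProperty.Over.w ψ
  let P : Scheme.{u} := pullback Y.hom Z.hom
  have hP : FEt.prop (pullback.fst Y.hom Z.hom ≫ Y.hom) :=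
    MorphismProperty.comp_mem _ _ _ (MorphismProperty.pullback_fst _ _ Z.prop) Y.prop
  let W : FEt.Cat S := MorphismProperty.Over.mk ⊤ (pullback.fst Y.hom Z.hom ≫ Y.hom) hP
  let σ : pullback Y.hom i ⟶ pullback W.hom i :=
    pullback.lift (pullback.lift (pullback.fst Y.hom i) (ψ₀ ≫ pullback.fst Z.hom i) (by
      rw [Category.assoc, pullback.condition, pullback.condition, reassoc_of% hψ₀]))
      (pullback.snd Y.hom i) (by
        show pullback.lift _ _ _ ≫ pullback.fst Y.hom Z.hom ≫ Y.hom = _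
        rw [pullback.lift_fst_assoc, pullback.condition])
  have hσ : FEt.prop σ := prop_of_comp σ (pullback.snd W.hom i)
    (MorphismProperty.pullback_snd _ _ W.prop) (by
      rw [pullback.lift_snd]
      exact MorphismProperty.pullback_snd _ _ Y.prop)
  obtain ⟨G, hG, hGσ⟩ := hs σ ((pullback.lift_fst_assoc _ _ _ _).trans (pullback.lift_fst _ _ _))
    ((pullback.lift_fst_assoc _ _ _ _).trans (pullback.lift_snd _ _ _)) (pullback.lift_snd _ _ _)
  let U : P.Opens := ⟨G, hG.2⟩
  let p : (U : Scheme.{u}) ⟶ Y.left := U.ι ≫ pullback.fst Y.hom Z.hom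
  have hp : FEt.prop p := MorphismProperty.comp_mem _ _ _ (prop_ι_of_isClopen U hG.1)
    (MorphismProperty.pullback_fst _ _ Z.prop)
  haveI := hp.1
  haveI := hp.2
  -- `σ` is a monomorphism
  haveI : Mono σ := by
    refine ⟨fun a b hab => pullback.hom_ext ?_ ?_⟩
    · have h1 := congrArg (fun t => t ≫ pullback.fst W.hom i ≫ pullback.fst Y.hom Z.hom) hab
      simpa [σ, W] using h1
    · have h1 := congrArg (fun t => t ≫ pullback.snd W.hom i) hab
      simpa [σ] using h1
  haveI := hσ.2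
  have hσ1 : σ ≫ pullback.fst W.hom i ≫ pullback.fst Y.hom Z.hom = pullback.fst Y.hom i := by
    simp [σ, W]
  have hσ2 : σ ≫ pullback.snd W.hom i = pullback.snd Y.hom i := by simp [σ]
  haveI : IsOpenImmersion σ := IsOpenImmersion.of_flat_of_mono σ
  -- universal injectivity
  haveI : UniversallyInjective p := by
    rw [UniversallyInjective.iff_diagonal]
    refine ⟨Set.range_eq_univ.1 ?_⟩
    have hΔ : FEt.prop (pullback.diagonal p) := prop_of_comp _ (pullback.fst p p)
      (MorphismProperty.pullback_fst _ _ hp) (by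
        rw [pullback.diagonal_fst]; exact MorphismProperty.id_mem _ _)
    by_contra hne
    let q : pullback p p ⟶ S := pullback.fst p p ≫ p ≫ Y.hom
    have hq : FEt.prop q := MorphismProperty.comp_mem _ _ _ (MorphismProperty.pullback_fst _ _ hp)
      (MorphismProperty.comp_mem _ _ _ hp Y.prop)
    haveI := hq.1
    haveI := hq.2
    have hC : IsClopen (q.base '' (Set.range (pullback.diagonal p).base)ᶜ) :=
      ⟨q.isClosedMap _ (isClopen_range hΔ).compl.1, q.isOpenMap _ (isClopen_range hΔ).compl.2⟩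
    obtain ⟨_, ⟨c, hc, rfl⟩, x, hx⟩ := h _ hC ((Set.nonempty_compl.2 hne).image _)
    obtain ⟨w, hw, -⟩ := Scheme.Pullback.exists_preimage_pullback c x hx.symm
    let z := (pullback q i).fromSpecResidueField w
    let a : Spec ((pullback q i).residueField w) ⟶ pullback W.hom i := z ≫
      pullback.lift (pullback.fst q i ≫ pullback.fst p p ≫ U.ι) (pullback.snd q i) (by
        simpa [q, p, W] using pullback.condition (f := q) (g := i))
    let b : Spec ((pullback q i).residueField w) ⟶ pullback W.hom i := z ≫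
      pullback.lift (pullback.fst q i ≫ pullback.snd p p ≫ U.ι) (pullback.snd q i) (by
        have hq' : pullback.snd p p ≫ p ≫ Y.hom = q := (pullback.condition_assoc Y.hom).symm
        rw [← pullback.condition, show (pullback.fst q i ≫ pullback.snd p p ≫ U.ι) ≫ W.hom =
          pullback.fst q i ≫ pullback.snd p p ≫ p ≫ Y.hom by simp [p, W], hq'])
    have hrange : ∀ (t : Spec ((pullback q i).residueField w) ⟶ (U : Scheme.{u}))
        (t' : Spec ((pullback q i).residueField w) ⟶ pullback W.hom i),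
        t' ≫ pullback.fst W.hom i = t ≫ U.ι → Set.range t'.base ⊆ Set.range σ.base := by
      rintro t t' htt _ ⟨y, rfl⟩
      refine hGσ.le (show (t' ≫ pullback.fst W.hom i) y ∈ G from ?_)
      rw [htt, Scheme.Hom.comp_apply]
      exact (t.base y).2
    have ha : a ≫ pullback.fst W.hom i = (z ≫ pullback.fst q i ≫ pullback.fst p p) ≫ U.ι := by
      simp [a]
    have hb : b ≫ pullback.fst W.hom i = (z ≫ pullback.fst q i ≫ pullback.snd p p) ≫ U.ι := by
      simp [b]
    have hya := IsOpenImmersion.lift_fac σ a (hrange _ _ ha)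
    have hyb := IsOpenImmersion.lift_fac σ b (hrange _ _ hb)
    have hyy : IsOpenImmersion.lift σ a (hrange _ _ ha) = IsOpenImmersion.lift σ b (hrange _ _ hb) := by
      refine pullback.hom_ext ?_ ?_
      · have h1 : IsOpenImmersion.lift σ a (hrange _ _ ha) ≫ pullback.fst Y.hom i =
            a ≫ pullback.fst W.hom i ≫ pullback.fst Y.hom Z.hom := by
          rw [← hσ1, reassoc_of% hya]
        have h2 : IsOpenImmersion.lift σ b (hrange _ _ hb) ≫ pullback.fst Y.hom i =
            b ≫ pullback.fst W.hom i ≫ pullback.fst Y.hom Z.hom := by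
          rw [← hσ1, reassoc_of% hyb]
        rw [h1, h2, reassoc_of% ha, reassoc_of% hb]
        exact congrArg (fun t => z ≫ pullback.fst q i ≫ t) (pullback.condition (f := p) (g := p))
      · have h1 : IsOpenImmersion.lift σ a (hrange _ _ ha) ≫ pullback.snd Y.hom i =
            a ≫ pullback.snd W.hom i := by
          rw [← hσ2, reassoc_of% hya]
        have h2 : IsOpenImmersion.lift σ b (hrange _ _ hb) ≫ pullback.snd Y.hom i =
            b ≫ pullback.snd W.hom i := by
          rw [← hσ2, reassoc_of% hyb]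
        rw [h1, h2]
        simp [a, b]
    have hab : a = b := by rw [← hya, ← hyb, hyy]
    have heq : z ≫ pullback.fst q i ≫ pullback.fst p p = z ≫ pullback.fst q i ≫ pullback.snd p p := by
      rw [← cancel_mono U.ι]
      have h1 := congrArg (fun t => t ≫ pullback.fst W.hom i) hab
      simpa [a, b] using h1
    have hz : z ≫ pullback.fst q i =
        (z ≫ pullback.fst q i ≫ pullback.fst p p) ≫ pullback.diagonal p := by
      refine pullback.hom_ext ?_ ?_ <;> simp [heq]
    refine hc ⟨(z ≫ pullback.fst q i ≫ pullback.fst p p).base (IsLocalRing.closedPoint _), ?_⟩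
    rw [← Scheme.Hom.comp_apply, ← hz, Scheme.Hom.comp_apply]
    rw [show z.base (IsLocalRing.closedPoint _) = w from Scheme.fromSpecResidueField_apply w _]
    exact hw
  haveI : IsOpenImmersion p := isOpenImmersion_of_etale_universallyInjective p
  -- the restriction of `p`
  have hσU : Set.range (σ ≫ pullback.fst W.hom i).base ⊆ Set.range U.ι.base := by
    rintro _ ⟨y, rfl⟩
    rw [Scheme.Opens.range_ι, Scheme.Hom.comp_apply]
    exact Set.ext_iff.1 hGσ (σ.base y) |>.2 ⟨y, rfl⟩
  let τ : pullback Y.hom i ⟶ (U : Scheme.{u}) := IsOpenImmersion.lift U.ι _ hσU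
  have hτ : τ ≫ U.ι = σ ≫ pullback.fst W.hom i := IsOpenImmersion.lift_fac _ _ _
  have hτp : τ ≫ p = pullback.fst Y.hom i := by
    simp only [p, reassoc_of% hτ]
    simp [σ, W]
  haveI : Surjective p := by
    refine ⟨Set.range_eq_univ.1 ?_⟩
    by_contra hne
    have hC : IsClopen (Y.hom.base '' (Set.range p.base)ᶜ) :=
      ⟨Y.hom.isClosedMap _ (isClopen_range hp).compl.1, Y.hom.isOpenMap _ (isClopen_range hp).compl.2⟩
    obtain ⟨_, ⟨y, hy, rfl⟩, x, hx⟩ := h _ hC ((Set.nonempty_compl.2 hne).image _)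
    obtain ⟨w, hw, -⟩ := Scheme.Pullback.exists_preimage_pullback y x hx.symm
    exact hy ⟨τ.base w, by rw [← Scheme.Hom.comp_apply, hτp]; exact hw⟩
  haveI : IsIso p := (isIso_iff_isOpenImmersion_and_surjective _).2 ⟨inferInstance, inferInstance⟩
  have hφw : (inv p ≫ U.ι ≫ pullback.snd Y.hom Z.hom) ≫ Z.hom = Y.hom := by
    rw [Category.assoc, Category.assoc, ← pullback.condition, ← Category.assoc U.ι]
    exact IsIso.inv_hom_id_assoc p Y.hom
  refine ⟨MorphismProperty.Over.homMk (inv p ≫ U.ι ≫ pullback.snd Y.hom Z.hom) hφw,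
    MorphismProperty.Over.Hom.ext ?_⟩
  show _ = ψ₀
  refine pullback.hom_ext ?_ ?_
  · have h1 : pullback.fst Y.hom i ≫ inv p ≫ U.ι ≫ pullback.snd Y.hom Z.hom =
        ψ₀ ≫ pullback.fst Z.hom i := by
      rw [← hτp, Category.assoc, IsIso.hom_inv_id_assoc, reassoc_of% hτ]
      simp [σ, W]
    simpa [FEt.restrict] using h1
  · simpa [FEt.restrict] using hψ₀.symm

variable {A : Type u} [CommRing A] [IsLocalRing A]

/-- The parts over `V(f)` of a cover of an open set, split into two closed sets, are separated by open sets. -/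
def SepNear (f : A) {U' : (Spec (CommRingCat.of A)).Opens} (W : FEt.Cat (U' : Scheme.{u})) : Prop :=
  ∀ C₁ C₂ : Set W.left, IsClosed C₁ → IsClosed C₂ → Disjoint C₁ C₂ →
    (∀ x, x ∈ C₁ ∪ C₂ ↔ f ∈ ((W.hom ≫ U'.ι) x : PrimeSpectrum A).asIdeal) →
    ∃ G H : Set W.left, IsOpen G ∧ IsOpen H ∧ Disjoint G H ∧ C₁ ⊆ G ∧ C₂ ⊆ H

theorem cov_of_factor {f : A} {U' : (Spec (CommRingCat.of A)).Opens}
    (u' : pullback (FEt.puncturedSpec A).ι (Spec.map (CommRingCat.ofHom (Ideal.Quotient.mk (Ideal.span {f})))) ⟶ (U' : Scheme.{u}))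
    (hu' : u' ≫ U'.ι = pullback.fst (FEt.puncturedSpec A).ι (Spec.map (CommRingCat.ofHom (Ideal.Quotient.mk (Ideal.span {f})))) ≫ (FEt.puncturedSpec A).ι)
    (p : PrimeSpectrum A) (hfp : f ∈ p.asIdeal) (hne : p ≠ closedPoint A) : p ∈ U' ∧ p ∈ Set.range (u' ≫ U'.ι).base := by
  obtain ⟨x, hx⟩ : (⟨p, hne⟩ : (FEt.puncturedSpec A : Scheme.{u})) ∈
      Set.range (pullback.fst (FEt.puncturedSpec A).ι (Spec.map (CommRingCat.ofHom (Ideal.Quotient.mk (Ideal.span {f}))))).base := by
    rw [show Set.range (pullback.fst (FEt.puncturedSpec A).ι (Spec.map (CommRingCat.ofHom (Ideal.Quotient.mk (Ideal.span {f}))))).base = _ from Scheme.Pullback.range_fst _ _]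
    exact (mem_range_spec_quot f p).2 hfp
  have h : (u' ≫ U'.ι) x = p := by
    rw [hu', Scheme.Hom.comp_apply]
    exact congrArg Subtype.val hx
  exact ⟨h ▸ (u'.base x).2, x, h⟩

theorem mem_ideal_of_range {f : A} (x : ↥(pullback (FEt.puncturedSpec A).ι (Spec.map (CommRingCat.ofHom (Ideal.Quotient.mk (Ideal.span {f})))))) :
    f ∈ ((pullback.fst (FEt.puncturedSpec A).ι (Spec.map (CommRingCat.ofHom (Ideal.Quotient.mk (Ideal.span {f})))) ≫ (FEt.puncturedSpec A).ι) x : PrimeSpectrum A).asIdeal := by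
  refine (mem_range_spec_quot f _).1 ⟨pullback.snd (FEt.puncturedSpec A).ι _ x, ?_⟩
  exact (congrArg (fun t : pullback (FEt.puncturedSpec A).ι (Spec.map (CommRingCat.ofHom (Ideal.Quotient.mk (Ideal.span {f})))) ⟶ Spec (CommRingCat.of A) => t.base x) pullback.condition.symm)

/-- Separation for the restriction to the punctured hypersurface gives separation over `V(f)`. -/
theorem sepNear_of_separates {f : A} {U' : (Spec (CommRingCat.of A)).Opens} (hU' : U' ≤ FEt.puncturedSpec A)
    (u' : pullback (FEt.puncturedSpec A).ι (Spec.map (CommRingCat.ofHom (Ideal.Quotient.mk (Ideal.span {f})))) ⟶ (U' : Scheme.{u}))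
    (hu' : u' ≫ U'.ι = pullback.fst (FEt.puncturedSpec A).ι (Spec.map (CommRingCat.ofHom (Ideal.Quotient.mk (Ideal.span {f})))) ≫ (FEt.puncturedSpec A).ι)
    (W : FEt.Cat (U' : Scheme.{u})) (h : Separates u' W) : SepNear f W := by
  intro C₁ C₂ h₁ h₂ hd hC
  let j := pullback.fst W.hom u'
  have hrange : ∀ x : W.left, f ∈ ((W.hom ≫ U'.ι) x : PrimeSpectrum A).asIdeal → x ∈ Set.range j.base := fun x hx => by
    rw [show Set.range j.base = _ from Scheme.Pullback.range_fst _ _]
    obtain ⟨-, y, hy⟩ := cov_of_factor u' hu' _ hx (hU' (W.hom x).2)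
    exact ⟨y, U'.ι.isOpenEmbedding.injective hy⟩
  have hmem : ∀ y, j y ∈ C₁ ∪ C₂ := fun y => by
    have hc : (j ≫ W.hom ≫ U'.ι) y = (pullback.snd W.hom u' ≫ u' ≫ U'.ι) y := by
      rw [pullback.condition_assoc]
    rw [hC, ← Scheme.Hom.comp_apply, hc, hu', Scheme.Hom.comp_apply]
    exact mem_ideal_of_range _
  have hcompl : j.base ⁻¹' C₂ = (j.base ⁻¹' C₁)ᶜ := by
    ext y
    exact ⟨fun h2 h1 => Set.disjoint_left.1 hd h1 h2, fun h1 => (hmem y).resolve_left h1⟩
  obtain ⟨G, H, hG, hH, hGH, hG', hH'⟩ := h (j.base ⁻¹' C₁)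
    ⟨h₁.preimage j.continuous, isClosed_compl_iff.1 (hcompl ▸ h₂.preimage j.continuous)⟩
  refine ⟨G, H, hG, hH, hGH, fun x hx => ?_, fun x hx => ?_⟩
  · obtain ⟨y, rfl⟩ := hrange x ((hC x).1 (Or.inl hx))
    exact hG'.ge hx
  · obtain ⟨y, rfl⟩ := hrange x ((hC x).1 (Or.inr hx))
    exact hH'.ge (show y ∈ (j.base ⁻¹' C₁)ᶜ from hcompl ▸ hx)

variable [IsNoetherianRing A] (f : A)

/-- An open neighbourhood contains a smaller one all of whose nonempty clopen subsets meet the punctured hypersurface. -/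
theorem exists_dense_nhd {U₁ : (Spec (CommRingCat.of A)).Opens}
    (u₁ : pullback (FEt.puncturedSpec A).ι (Spec.map (CommRingCat.ofHom (Ideal.Quotient.mk (Ideal.span {f})))) ⟶ (U₁ : Scheme.{u})) :
    ∃ (U'' : (Spec (CommRingCat.of A)).Opens) (h : U'' ≤ U₁)
      (u'' : pullback (FEt.puncturedSpec A).ι (Spec.map (CommRingCat.ofHom (Ideal.Quotient.mk (Ideal.span {f})))) ⟶ (U'' : Scheme.{u}))
      (_ : u'' ≫ (Spec (CommRingCat.of A)).homOfLE h = u₁),
      ∀ C : Set (U'' : Scheme.{u}), IsClopen C → C.Nonempty → (C ∩ Set.range u''.base).Nonempty := by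
  let O := {B : (U₁ : Scheme.{u}).Opens // IsClosed (B : Set (U₁ : Scheme.{u})) ∧ Disjoint (B : Set (U₁ : Scheme.{u})) (Set.range u₁.base)}
  haveI : Nonempty O := ⟨⟨⊥, by simp, by simp⟩⟩
  haveI : WellFoundedGT (U₁ : Scheme.{u}).Opens :=
    haveI : TopologicalSpace.NoetherianSpace (Spec (CommRingCat.of A)) :=
      (inferInstance : TopologicalSpace.NoetherianSpace (PrimeSpectrum A))
    U₁.ι.isOpenEmbedding.isInducing.noetherianSpace
  obtain ⟨⟨B, hBc, hBd⟩, hmax⟩ : ∃ B : O, ∀ B' : O, ¬ (B.1 < B'.1) := by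
    obtain ⟨B, -, hB⟩ := (InvImage.wf (fun B : O => B.1) wellFounded_gt).has_min Set.univ Set.univ_nonempty
    exact ⟨B, fun B' => hB B' trivial⟩
  let K : (U₁ : Scheme.{u}).Opens := ⟨(B : Set (U₁ : Scheme.{u}))ᶜ, hBc.isOpen_compl⟩
  let U'' : (Spec (CommRingCat.of A)).Opens := U₁.ι ''ᵁ K
  have hle : U'' ≤ U₁ := U₁.ι_image_le K
  let k : (U'' : Scheme.{u}) ⟶ (U₁ : Scheme.{u}) := (Spec (CommRingCat.of A)).homOfLE hle
  have hk : ∀ y : (U'' : Scheme.{u}), k y ∉ (B : Set (U₁ : Scheme.{u})) := fun y => by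
    obtain ⟨z, hz, hzy⟩ := y.2
    rwa [show k y = z from U₁.ι.isOpenEmbedding.injective (by
      rw [← Scheme.Hom.comp_apply, Scheme.homOfLE_ι]; exact hzy.symm)]
  have hrange : Set.range u₁.base ⊆ Set.range k.base := by
    rintro _ ⟨x, rfl⟩
    refine ⟨⟨U₁.ι (u₁ x), u₁ x, fun hB => Set.disjoint_left.1 hBd hB ⟨x, rfl⟩, rfl⟩, U₁.ι.isOpenEmbedding.injective ?_⟩
    rw [← Scheme.Hom.comp_apply, Scheme.homOfLE_ι]
    rfl
  refine ⟨U'', hle, IsOpenImmersion.lift k u₁ hrange, IsOpenImmersion.lift_fac _ _ _, fun C hC hne => ?_⟩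
  by_contra hemp
  let B' : (U₁ : Scheme.{u}).Opens := B ⊔ ⟨k.base '' C, k.isOpenEmbedding.isOpenMap _ hC.2⟩
  have hB'c : IsClosed (B' : Set (U₁ : Scheme.{u})) := by
    have e : (B' : Set (U₁ : Scheme.{u}))ᶜ = k.base '' Cᶜ := by
      ext z
      constructor
      · intro hz
        have hzB : z ∉ (B : Set (U₁ : Scheme.{u})) := fun h => hz (Or.inl h)
        refine ⟨⟨U₁.ι z, z, hzB, rfl⟩, fun h => hz (Or.inr ⟨_, h, ?_⟩), ?_⟩ <;>
          exact U₁.ι.isOpenEmbedding.injective (by rw [← Scheme.Hom.comp_apply, Scheme.homOfLE_ι]; rfl)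
      · rintro ⟨y, hy, rfl⟩ (h | ⟨y', hy', h⟩)
        · exact hk y h
        · exact hy (k.isOpenEmbedding.injective h ▸ hy')
    exact isOpen_compl_iff.1 (e ▸ k.isOpenEmbedding.isOpenMap _ hC.compl.2)
  have hB'd : Disjoint (B' : Set (U₁ : Scheme.{u})) (Set.range u₁.base) := by
    rw [Set.disjoint_left]
    rintro _ (h | ⟨y, hy, h⟩) ⟨x, rfl⟩
    · exact Set.disjoint_left.1 hBd h ⟨x, rfl⟩
    · refine hemp ⟨y, hy, x, k.isOpenEmbedding.injective (h ▸ ?_)⟩
      rw [← Scheme.Hom.comp_apply, IsOpenImmersion.lift_fac]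
  obtain ⟨y, hy⟩ := hne
  refine hmax ⟨B', hB'c, hB'd⟩ (lt_of_le_of_ne le_sup_left fun e => hk y ?_)
  rw [show B = B' from e]
  exact Or.inr ⟨y, hy, rfl⟩

/-- Morphisms with the same restriction agree near the punctured hypersurface. -/
theorem exists_nhd_map_eq {U' : (Spec (CommRingCat.of A)).Opens}
    (u' : pullback (FEt.puncturedSpec A).ι (Spec.map (CommRingCat.ofHom (Ideal.Quotient.mk (Ideal.span {f})))) ⟶ (U' : Scheme.{u}))
    {V' W' : FEt.Cat (U' : Scheme.{u})} (φ ψ : V' ⟶ W') (h : (FEt.restrict u').map φ = (FEt.restrict u').map ψ) :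
    ∃ (U'' : (Spec (CommRingCat.of A)).Opens) (h : U'' ≤ U') (u'' : pullback (FEt.puncturedSpec A).ι (Spec.map (CommRingCat.ofHom (Ideal.Quotient.mk (Ideal.span {f})))) ⟶ (U'' : Scheme.{u})),
      u'' ≫ (Spec (CommRingCat.of A)).homOfLE h = u' ∧
      (FEt.restrict ((Spec (CommRingCat.of A)).homOfLE h)).map φ = (FEt.restrict ((Spec (CommRingCat.of A)).homOfLE h)).map ψ := by
  obtain ⟨U'', hle, u'', hu, hd⟩ := exists_dense_nhd f u'
  haveI := restrict_faithful u'' hd
  refine ⟨U'', hle, u'', hu, (FEt.restrict u'').map_injective ?_⟩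
  subst hu
  let e := MorphismProperty.Over.pullbackComp (P := FEt.prop) (Q := ⊤) u'' ((Spec (CommRingCat.of A)).homOfLE hle)
  have hφ := e.hom.naturality φ
  have hψ := e.hom.naturality ψ
  refine (cancel_epi (e.hom.app V')).1 (hφ.symm.trans (Eq.trans ?_ hψ))
  exact congrArg (· ≫ e.hom.app W') h

set_option maxHeartbeats 800000 in
/-- Morphisms of restrictions extend near the punctured hypersurface if clopens separate. -/
theorem exists_nhd_preimage (hsep : ∀ (U₁ : (Spec (CommRingCat.of A)).Opens), U₁ ≤ FEt.puncturedSpec A →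
      (∀ p : PrimeSpectrum A, f ∈ p.asIdeal → p ≠ closedPoint A → p ∈ U₁) →
      ∀ W : FEt.Cat (U₁ : Scheme.{u}), SepNear f W)
    {U' : (Spec (CommRingCat.of A)).Opens} (hU' : U' ≤ FEt.puncturedSpec A)
    (u' : pullback (FEt.puncturedSpec A).ι (Spec.map (CommRingCat.ofHom (Ideal.Quotient.mk (Ideal.span {f})))) ⟶ (U' : Scheme.{u}))
    (hu' : u' ≫ U'.ι = pullback.fst (FEt.puncturedSpec A).ι (Spec.map (CommRingCat.ofHom (Ideal.Quotient.mk (Ideal.span {f})))) ≫ (FEt.puncturedSpec A).ι)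
    {V' W' : FEt.Cat (U' : Scheme.{u})} (φ₀ : (FEt.restrict u').obj V' ⟶ (FEt.restrict u').obj W') :
    ∃ (U'' : (Spec (CommRingCat.of A)).Opens) (h : U'' ≤ U') (u'' : pullback (FEt.puncturedSpec A).ι (Spec.map (CommRingCat.ofHom (Ideal.Quotient.mk (Ideal.span {f})))) ⟶ (U'' : Scheme.{u}))
      (hu : u'' ≫ (Spec (CommRingCat.of A)).homOfLE h = u')
      (φ : (FEt.restrict ((Spec (CommRingCat.of A)).homOfLE h)).obj V' ⟶ (FEt.restrict ((Spec (CommRingCat.of A)).homOfLE h)).obj W'),
      (FEt.restrict u'').map φ =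
        (MorphismProperty.Over.pullbackComp u'' ((Spec (CommRingCat.of A)).homOfLE h) u' hu.symm).inv.app V' ≫ φ₀ ≫
          (MorphismProperty.Over.pullbackComp u'' ((Spec (CommRingCat.of A)).homOfLE h) u' hu.symm).hom.app W' := by
  classical
  haveI : IsClosedImmersion (Spec.map (CommRingCat.ofHom (Ideal.Quotient.mk (Ideal.span {f})))) :=
    IsClosedImmersion.spec_of_surjective _ Ideal.Quotient.mk_surjective
  haveI : IsClosedImmersion u' := by
    haveI : IsClosedImmersion (u' ≫ (Spec (CommRingCat.of A)).homOfLE hU') := by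
      rw [show u' ≫ (Spec (CommRingCat.of A)).homOfLE hU' = pullback.fst _ _ by
        rw [← cancel_mono (FEt.puncturedSpec A).ι, Category.assoc, Scheme.homOfLE_ι, hu']]
      infer_instance
    exact IsClosedImmersion.of_comp _ ((Spec (CommRingCat.of A)).homOfLE hU')
  have hfy : ∀ y, f ∈ (U'.ι (u' y) : PrimeSpectrum A).asIdeal := fun y => by
    have h := mem_ideal_of_range (f := f) y
    rw [← hu'] at h
    exact h
  let P : Scheme.{u} := pullback V'.hom W'.hom
  let Pc : FEt.Cat (U' : Scheme.{u}) := MorphismProperty.Over.mk ⊤ (pullback.fst V'.hom W'.hom ≫ V'.hom)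
    (MorphismProperty.comp_mem _ _ _ (MorphismProperty.pullback_fst _ _ W'.prop) V'.prop)
  let φl : pullback V'.hom u' ⟶ pullback W'.hom u' := φ₀.left
  have hφl : φl ≫ pullback.snd W'.hom u' = pullback.snd V'.hom u' := MorphismProperty.Over.w φ₀
  let mm := pullback.fst Pc.hom u'
  let σ₀ : pullback V'.hom u' ⟶ pullback Pc.hom u' :=
    pullback.lift (pullback.lift (pullback.fst V'.hom u') (φl ≫ pullback.fst W'.hom u') (by
      rw [Category.assoc, pullback.condition, pullback.condition, reassoc_of% hφl]))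
      (pullback.snd V'.hom u') (by
        show pullback.lift _ _ _ ≫ pullback.fst V'.hom W'.hom ≫ V'.hom = _
        rw [pullback.lift_fst_assoc, pullback.condition])
  have hσ₀ : IsClopen (Set.range σ₀.base) := isClopen_range (prop_of_comp σ₀ (pullback.snd Pc.hom u')
    (MorphismProperty.pullback_snd _ _ Pc.prop) (by
      rw [pullback.lift_snd]
      exact MorphismProperty.pullback_snd _ _ V'.prop))
  haveI : IsClosedImmersion mm := MorphismProperty.pullback_fst _ _ inferInstance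
  have hC : ∀ x : P, x ∈ mm.base '' Set.range σ₀.base ∪ mm.base '' (Set.range σ₀.base)ᶜ ↔
      f ∈ ((Pc.hom ≫ U'.ι) x : PrimeSpectrum A).asIdeal := by
    intro x
    rw [← Set.image_union, Set.union_compl_self, Set.image_univ, show Set.range mm.base = _ from Scheme.Pullback.range_fst _ _]
    constructor
    · rintro ⟨y, hy⟩
      rw [Scheme.Hom.comp_apply, show Pc.hom x = u' y from hy.symm]
      exact hfy y
    · intro hx
      obtain ⟨-, y, hy⟩ := cov_of_factor u' hu' _ hx (hU' (Pc.hom x).2)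
      exact ⟨y, U'.ι.isOpenEmbedding.injective hy⟩
  obtain ⟨G, H, hG, hH, hGH, hG₁, hH₁⟩ := hsep U' hU' (fun p hp hne => (cov_of_factor u' hu' p hp hne).1) Pc
    (mm.base '' Set.range σ₀.base) (mm.base '' (Set.range σ₀.base)ᶜ)
    (mm.isClosedEmbedding.isClosedMap _ hσ₀.1) (mm.isClosedEmbedding.isClosedMap _ hσ₀.compl.1)
    ((Set.disjoint_image_iff mm.isClosedEmbedding.injective).2 disjoint_compl_right) hC
  let Ph : P ⟶ (U' : Scheme.{u}) := Pc.hom
  haveI : IsFinite Ph := Pc.prop.1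
  let K : (U' : Scheme.{u}).Opens := ⟨(Ph.base '' (G ∪ H)ᶜ)ᶜ, (Ph.isClosedMap _ (hG.union hH).isClosed_compl).isOpen_compl⟩
  let U₁ : (Spec (CommRingCat.of A)).Opens := U'.ι ''ᵁ K
  have hle₁ : U₁ ≤ U' := U'.ι_image_le K
  let k₁ := (Spec (CommRingCat.of A)).homOfLE hle₁
  have hrange : Set.range u'.base ⊆ Set.range k₁.base := by
    rintro _ ⟨y, rfl⟩
    have hy : u' y ∈ (K : Set (U' : Scheme.{u})) := by
      rintro ⟨x, hx, hxy⟩
      have := (hC x).2 (by
        rw [Scheme.Hom.comp_apply, show Pc.hom x = u' y from hxy]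
        exact hfy y)
      exact hx (this.imp (fun h => hG₁ h) (fun h => hH₁ h))
    refine ⟨⟨U'.ι (u' y), u' y, hy, rfl⟩, U'.ι.isOpenEmbedding.injective ?_⟩
    rw [← Scheme.Hom.comp_apply, Scheme.homOfLE_ι]
    rfl
  obtain ⟨U'', hle₂, u'', hu₂, hd⟩ := exists_dense_nhd f (IsOpenImmersion.lift k₁ u' hrange)
  let k := (Spec (CommRingCat.of A)).homOfLE (hle₂.trans hle₁)
  have hu : u'' ≫ k = u' := by
    rw [show k = (Spec (CommRingCat.of A)).homOfLE hle₂ ≫ k₁ from (Scheme.homOfLE_homOfLE _ _ _).symm,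
      reassoc_of% hu₂, IsOpenImmersion.lift_fac]
  refine ⟨U'', hle₂.trans hle₁, u'', hu, ?_⟩
  subst hu
  let e := MorphismProperty.Over.pullbackComp (P := FEt.prop) (Q := ⊤) u'' k
  let Y := (FEt.restrict k).obj V'
  let Z := (FEt.restrict k).obj W'
  refine exists_map_eq_of_graph u'' hd (e.inv.app V' ≫ φ₀ ≫ e.hom.app W') fun σ hσ1 hσ2 hσ3 => ?_
  let q : pullback Y.hom Z.hom ⟶ P :=
    pullback.lift (pullback.fst _ _ ≫ pullback.fst V'.hom k) (pullback.snd _ _ ≫ pullback.fst W'.hom k) (by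
      rw [Category.assoc, Category.assoc, pullback.condition, pullback.condition]
      exact congrArg (· ≫ k) (pullback.condition (f := Y.hom) (g := Z.hom)))
  have hqG : ∀ z, q z ∈ G ∪ H := fun z => by
    by_contra hz
    have hbase : (q ≫ Ph) z = ((pullback.fst Y.hom Z.hom ≫ Y.hom) ≫ k) z := by
      refine congrArg (fun t : pullback Y.hom Z.hom ⟶ (U' : Scheme.{u}) => t.base z) ?_
      show q ≫ pullback.fst V'.hom W'.hom ≫ V'.hom = _
      rw [pullback.lift_fst_assoc, Category.assoc, Category.assoc, pullback.condition]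
      rfl
    have h1 := hle₂ ((pullback.fst Y.hom Z.hom ≫ Y.hom) z).2
    obtain ⟨w, hw, hwe⟩ := h1
    refine hw ⟨q z, hz, U'.ι.isOpenEmbedding.injective ?_⟩
    refine (congrArg U'.ι.base hbase).trans (Eq.trans ?_ hwe.symm)
    show (k ≫ U'.ι) _ = _
    rw [Scheme.homOfLE_ι]
    rfl
  refine ⟨q.base ⁻¹' G, ⟨?_, hG.preimage q.continuous⟩, ?_⟩
  · rw [← isOpen_compl_iff, show (q.base ⁻¹' G)ᶜ = q.base ⁻¹' H from Set.ext fun z =>
      ⟨fun h => (hqG z).resolve_left h, fun h h' => Set.disjoint_left.1 hGH h' h⟩]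
    exact hH.preimage q.continuous
  let Wf := pullback.fst Y.hom Z.hom ≫ Y.hom
  let m : pullback Wf u'' ⟶ pullback Pc.hom (u'' ≫ k) :=
    pullback.lift (pullback.fst _ _ ≫ q) (pullback.snd _ _) (by
      show (_ ≫ q) ≫ pullback.fst V'.hom W'.hom ≫ V'.hom = _
      rw [Category.assoc, pullback.lift_fst_assoc, Category.assoc, pullback.condition,
        ← pullback.condition_assoc (f := Wf) (g := u'')]
      simp only [Wf, Category.assoc]
      rfl)
  let a : pullback Y.hom u'' ⟶ pullback V'.hom (u'' ≫ k) :=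
    pullback.lift (pullback.fst Y.hom u'' ≫ pullback.fst V'.hom k) (pullback.snd _ _) (by
      rw [Category.assoc, pullback.condition, ← pullback.condition_assoc (f := Y.hom) (g := u'')]
      rfl)
  haveI : Mono m := by
    refine ⟨fun {X} s t hst => ?_⟩
    have h1 : s ≫ pullback.snd _ _ = t ≫ pullback.snd _ _ := by
      simpa [m] using congrArg (· ≫ pullback.snd _ _) hst
    have h2 : (s ≫ pullback.fst _ _) ≫ q = (t ≫ pullback.fst _ _) ≫ q := by
      simpa [m] using congrArg (· ≫ pullback.fst _ _) hst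
    refine pullback.hom_ext ?_ h1
    have hY : (s ≫ pullback.fst Wf u'') ≫ pullback.fst Y.hom Z.hom ≫ Y.hom =
        (t ≫ pullback.fst Wf u'') ≫ pullback.fst Y.hom Z.hom ≫ Y.hom := by
      show (s ≫ pullback.fst Wf u'') ≫ Wf = (t ≫ pullback.fst Wf u'') ≫ Wf
      rw [Category.assoc, Category.assoc, pullback.condition, reassoc_of% h1]
    refine pullback.hom_ext (pullback.hom_ext ?_ ?_) (pullback.hom_ext ?_ ?_)
    · simpa [q] using congrArg (· ≫ pullback.fst _ _) h2
    · simp only [Category.assoc] at hY ⊢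
      exact hY
    · simpa [q] using congrArg (· ≫ pullback.snd _ _) h2
    · rw [pullback.condition (f := Y.hom) (g := Z.hom)] at hY
      simp only [Category.assoc] at hY ⊢
      exact hY
  haveI : UniversallyInjective m := by
    rw [UniversallyInjective.iff_diagonal]
    infer_instance
  have ha : a = (e.inv.app V').left := by
    rw [← cancel_epi (e.hom.app V').left,
      show (e.hom.app V').left ≫ (e.inv.app V').left = 𝟙 _ from
        congrArg (fun t => t.left) (e.hom_inv_id_app V')]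
    refine pullback.hom_ext ?_ ?_
    · rw [Category.assoc, pullback.lift_fst, Category.id_comp]
      exact MorphismProperty.Over.pullbackComp_left_fst_fst u'' k V'
    · rw [Category.assoc, pullback.lift_snd, Category.id_comp]
      exact MorphismProperty.Over.w (e.hom.app V')
  let σ' : pullback Y.hom u'' ⟶ pullback Wf u'' := σ
  have hσ1' : σ' ≫ pullback.fst Wf u'' ≫ pullback.fst Y.hom Z.hom = pullback.fst Y.hom u'' := hσ1
  have hσ2' : σ' ≫ pullback.fst Wf u'' ≫ pullback.snd Y.hom Z.hom =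
      (e.inv.app V' ≫ φ₀ ≫ e.hom.app W').left ≫ pullback.fst Z.hom u'' := hσ2
  have hσ3' : σ' ≫ pullback.snd Wf u'' = pullback.snd Y.hom u'' := hσ3
  have hkey : σ' ≫ m = a ≫ σ₀ := by
    refine pullback.hom_ext (pullback.hom_ext ?_ ?_) ?_
    · simp only [m, σ₀, q, a, Category.assoc, pullback.lift_fst, pullback.lift_fst_assoc]
      rw [reassoc_of% hσ1']
    · simp only [m, σ₀, q, Category.assoc, pullback.lift_fst, pullback.lift_fst_assoc, pullback.lift_snd]
      rw [reassoc_of% hσ2', ha]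
      show ((e.inv.app V').left ≫ φ₀.left ≫ (e.hom.app W').left) ≫ _ = _
      simp only [Category.assoc]
      exact congrArg (fun t => (e.inv.app V').left ≫ φ₀.left ≫ t) (MorphismProperty.Over.pullbackComp_left_fst_fst u'' k W')
    · simp only [m, σ₀, a, Category.assoc, pullback.lift_snd]
      exact hσ3'
  haveI : IsIso a := by
    rw [ha]
    exact ⟨(e.hom.app V').left, congrArg (fun t => t.left) (e.inv_hom_id_app V'),
      congrArg (fun t => t.left) (e.hom_inv_id_app V')⟩
  show (pullback.fst Wf u'').base ⁻¹' (q.base ⁻¹' G) = Set.range σ'.base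
  ext w
  have hmw : q ((pullback.fst Wf u'') w) = mm (m w) := by
    rw [← Scheme.Hom.comp_apply, ← Scheme.Hom.comp_apply]
    exact congrArg (fun t : pullback Wf u'' ⟶ P => t.base w) (pullback.lift_fst _ _ _).symm
  constructor
  · intro hw
    have hw' : mm (m w) ∈ G := hmw ▸ hw
    obtain ⟨y, hy⟩ : m w ∈ Set.range σ₀.base := by
      by_contra hn
      exact Set.disjoint_left.1 hGH hw' (hH₁ ⟨_, hn, rfl⟩)
    obtain ⟨y', rfl⟩ := a.surjective y
    refine ⟨y', m.injective ?_⟩
    rw [← Scheme.Hom.comp_apply, hkey, Scheme.Hom.comp_apply]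
    exact hy
  · rintro ⟨y, rfl⟩
    show q _ ∈ G
    rw [hmw]
    refine hG₁ ⟨_, ⟨a y, ?_⟩, rfl⟩
    rw [← Scheme.Hom.comp_apply, ← hkey, Scheme.Hom.comp_apply]

end Groth.Agent.PurX
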