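import Groth.Agent.PurX.FFMain
import Groth.Agent.PurX.DualKillDeg
import Groth.Agent.PurX.DualNhd
import Groth.Agent.KFlatLib.Ring.DualizingFibreRows

/-!
# Clopens separate near the punctured hypersurface in the presence of a dualizing complex
-/

set_option autoImplicit false
set_option linter.style.haveILetI false
set_option linter.unusedSectionVars false

universe u

open CategoryTheory CategoryTheory.Limits AlgebraicGeometry IsLocalRing

set_option backward.isDefEq.respectTransparency false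

attribute [local instance] HasDerivedCategory.standard

noncomputable section

namespace Groth.Agent.PurX

variable {A : Type u} [CommRing A] [IsLocalRing A] [IsNoetherianRing A]

/-- A prime of a reduced ring at which the depth is zero is minimal. -/
theorem mem_minimalPrimes_of_depth_zero [IsReduced A] (p : Ideal A) [p.IsPrime]
    (h : ¬ (1 : ℕ∞) ≤ LocCoh.depth (Localization.AtPrime p) (LocalizedModule p.primeCompl A)) :
    p ∈ minimalPrimes A := by
  rw [Alg6.one_le_depth_atPrime_iff, not_not] at h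
  obtain ⟨hp, x, hx⟩ := h
  have hx0 : x ≠ 0 := by
    rintro rfl
    apply hp.ne_top
    rw [hx, Ideal.eq_top_iff_one]
    refine Ideal.le_radical ?_
    simp [Submodule.mem_colon_singleton]
  obtain ⟨q, hq, hxq⟩ : ∃ q ∈ minimalPrimes A, x ∉ q := by
    by_contra hall
    push Not at hall
    apply hx0
    have h0 : x ∈ sInf (minimalPrimes A) := Ideal.mem_sInf.2 fun {q} hq => hall q hq
    rw [show sInf (minimalPrimes A) = (⊥ : Ideal A).radical from Ideal.sInf_minimalPrimes,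
      show (⊥ : Ideal A).radical = nilradical A from rfl, nilradical_eq_zero] at h0
    exact h0
  haveI := hq.1.1
  have hle : p ≤ q := by
    rw [hx]
    intro a ha
    obtain ⟨k, hk⟩ := ha
    rw [Submodule.mem_colon_singleton, Submodule.mem_bot] at hk
    exact Ideal.IsPrime.mem_of_pow_mem inferInstance k
      ((hq.1.1.mem_or_mem (by rw [show a ^ k * x = a ^ k • x from rfl, hk]; exact zero_mem q)).resolve_right hxq)
  exact (le_antisymm hle (hq.2 ⟨hp, bot_le⟩ hle)) ▸ hq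

/-- The numerical condition for a reduced ring whose components off `V(f)` have dimension at least three. -/
theorem depth_add_dim_two_of_isReduced [IsReduced A] {ω : Dual.D A} (hω : Dual.IsDualizing A ω) (f : A)
    (hf : f ∈ maximalIdeal A) (hdim : ∀ p : Ideal A, p ∈ minimalPrimes A → f ∉ p → (3 : WithBot ℕ∞) ≤ ringKrullDim (A ⧸ p))
    (p : Ideal A) (hp : p.IsPrime) (hfp : f ∉ p) (hm : (p ⊔ Ideal.span {f}).radical ≠ maximalIdeal A) :
    ((2 : ℕ) : WithBot ℕ∞) < (LocCoh.depth (Localization.AtPrime p) (Localization.AtPrime p) : WithBot ℕ∞) +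
      ringKrullDim (A ⧸ p) := by
  obtain ⟨n, h⟩ := QGorRing.exists_isDegree hω
  let P : PrimeSpectrum A := ⟨p, hp⟩
  obtain ⟨R, hR, hne⟩ : ∃ R : PrimeSpectrum A, p ⊔ Ideal.span {f} ≤ R.asIdeal ∧ R ≠ closedPoint A := by
    by_contra hall
    push Not at hall
    refine hm (le_antisymm ((Ideal.radical_mono (sup_le (le_maximalIdeal hp.ne_top)
      ((Ideal.span_singleton_le_iff_mem _).2 hf))).trans (maximalIdeal.isMaximal A).isPrime.radical.le) ?_)
    rw [Ideal.radical_eq_sInf]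
    refine le_sInf fun J hJ => ?_
    have := congrArg PrimeSpectrum.asIdeal (hall ⟨J, hJ.2⟩ hJ.1)
    exact this.ge
  have hPR : P < R := lt_of_le_of_ne (le_sup_left.trans hR)
    fun e => hfp (by
      have := (le_sup_right.trans hR : Ideal.span {f} ≤ R.asIdeal) (Ideal.mem_span_singleton_self f)
      rwa [← e] at this)
  have hRm : R < closedPoint A := lt_of_le_of_ne (le_maximalIdeal R.2.ne_top : R ≤ closedPoint A) hne
  have hsupp : P ∈ Module.support A A := by
    rw [Module.support_eq_zeroLocus, Module.annihilator_eq_bot.2 inferInstance, PrimeSpectrum.mem_zeroLocus,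
      SetLike.coe_subset_coe]
    exact bot_le
  obtain ⟨t, ht, -, -⟩ := QGorRing.depth_localized_ext h.dualizing h.ext A P hsupp
  obtain ⟨ep, hep, hep'⟩ := KFlatLib.ringKrullDim_quotient_eq h.covBy h.strictMono P
  have ht' : LocCoh.depth (Localization.AtPrime p) (Localization.AtPrime p) = (t : ℕ∞) := ht
  have hep2 : ringKrullDim (A ⧸ p) = (ep : WithBot ℕ∞) := hep
  have h2 := h.strictMono hPR
  have h2' := h.strictMono hRm
  have key : 2 < t + ep := by
    by_cases hmin : p ∈ minimalPrimes A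
    · have h1 := hdim p hmin hfp
      rw [hep2] at h1
      have h1' : 3 ≤ ep := by exact_mod_cast h1
      omega
    · have h1 : (1 : ℕ∞) ≤ LocCoh.depth (Localization.AtPrime p) (LocalizedModule p.primeCompl A) := by
        by_contra hd
        exact hmin (mem_minimalPrimes_of_depth_zero p hd)
      have h1' : (1 : ℕ∞) ≤ (t : ℕ∞) := ht ▸ h1
      have h1'' : 1 ≤ t := by exact_mod_cast h1'
      omega
  rw [ht', hep2]
  have h6 : ((2 : ℕ) : WithBot ℕ∞) < ((t + ep : ℕ) : WithBot ℕ∞) := Nat.cast_lt.2 key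
  push_cast at h6 ⊢
  exact h6

/-- Separation over a closed subscheme containing the complement of `V(f)` gives separation. -/
theorem sepNear_of_quotient {f : A} (T : Ideal A) [IsLocalRing (A ⧸ T)]
    (hT : ∀ p : PrimeSpectrum A, f ∉ p.asIdeal → T ≤ p.asIdeal)
    (h : ∀ (U₁ : (Spec (CommRingCat.of (A ⧸ T))).Opens), U₁ ≤ FEt.puncturedSpec (A ⧸ T) →
      (∀ p : PrimeSpectrum (A ⧸ T), Ideal.Quotient.mk T f ∈ p.asIdeal → p ≠ closedPoint (A ⧸ T) → p ∈ U₁) →
      ∀ W : FEt.Cat (U₁ : Scheme.{u}), SepNear (Ideal.Quotient.mk T f) W)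
    {U' : (Spec (CommRingCat.of A)).Opens} (hU' : U' ≤ FEt.puncturedSpec A)
    (hcov : ∀ p : PrimeSpectrum A, f ∈ p.asIdeal → p ≠ closedPoint A → p ∈ U')
    (W : FEt.Cat (U' : Scheme.{u})) : SepNear f W := by
  intro C₁ C₂ h₁ h₂ hd hC
  let q := Spec.map (CommRingCat.ofHom (Ideal.Quotient.mk T))
  haveI : IsClosedImmersion q := IsClosedImmersion.spec_of_surjective _ Ideal.Quotient.mk_surjective
  haveI : IsLocalHom (Ideal.Quotient.mk T) := Function.Surjective.isLocalHom _ Ideal.Quotient.mk_surjective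
  let U₁ := q ⁻¹ᵁ U'
  let ψ : (U₁ : Scheme.{u}) ⟶ (U' : Scheme.{u}) := q ∣_ U'
  haveI : IsClosedImmersion ψ := IsZariskiLocalAtTarget.restrict ‹IsClosedImmersion q› U'
  let W₁ : FEt.Cat (U₁ : Scheme.{u}) := (FEt.restrict ψ).obj W
  let k : W₁.left ⟶ W.left := pullback.fst W.hom ψ
  haveI : IsClosedImmersion k := MorphismProperty.pullback_fst _ _ inferInstance
  have hU₁ : U₁ ≤ FEt.puncturedSpec (A ⧸ T) := fun p hp hne => by
    refine hU' (x := q p) hp ?_
    rw [show p = closedPoint (A ⧸ T) from hne]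
    exact IsLocalRing.comap_closedPoint (Ideal.Quotient.mk T)
  have hcov₁ : ∀ p : PrimeSpectrum (A ⧸ T), Ideal.Quotient.mk T f ∈ p.asIdeal → p ≠ closedPoint (A ⧸ T) → p ∈ U₁ := by
    intro p hp hne
    refine hcov _ hp fun e => hne (PrimeSpectrum.comap_injective_of_surjective _ Ideal.Quotient.mk_surjective ?_)
    exact e.trans (IsLocalRing.comap_closedPoint (Ideal.Quotient.mk T)).symm
  have hkq : k ≫ W.hom ≫ U'.ι = (W₁.hom ≫ U₁.ι) ≫ q := by
    show pullback.fst W.hom ψ ≫ W.hom ≫ U'.ι = (pullback.snd W.hom ψ ≫ U₁.ι) ≫ q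
    rw [pullback.condition_assoc, Category.assoc, morphismRestrict_ι]
  have hmem : ∀ y, Ideal.Quotient.mk T f ∈ ((W₁.hom ≫ U₁.ι) y : PrimeSpectrum (A ⧸ T)).asIdeal ↔
      f ∈ ((W.hom ≫ U'.ι) (k y) : PrimeSpectrum A).asIdeal := fun y => by
    rw [show (W.hom ≫ U'.ι) (k y) = q ((W₁.hom ≫ U₁.ι) y) from
      congrArg (fun t : W₁.left ⟶ Spec (CommRingCat.of A) => t.base y) hkq]
    exact Iff.rfl
  obtain ⟨G₁, H₁, hG, hH, hGH, hG', hH'⟩ := h U₁ hU₁ hcov₁ W₁ (k.base ⁻¹' C₁) (k.base ⁻¹' C₂)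
    (h₁.preimage k.continuous) (h₂.preimage k.continuous) (hd.preimage _)
    fun y => by
      rw [hmem, ← hC]
      exact Iff.rfl
  refine ⟨(k.base '' G₁ᶜ ∪ C₂)ᶜ, (k.base '' H₁ᶜ ∪ C₁)ᶜ,
    ((k.isClosedEmbedding.isClosedMap _ hG.isClosed_compl).union h₂).isOpen_compl,
    ((k.isClosedEmbedding.isClosedMap _ hH.isClosed_compl).union h₁).isOpen_compl, ?_, ?_, ?_⟩
  · rw [Set.disjoint_left]
    intro x hxG hxH
    have hfx : f ∉ ((W.hom ≫ U'.ι) x : PrimeSpectrum A).asIdeal := fun hfx =>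
      ((hC x).2 hfx).elim (fun h => hxH (Or.inr h)) fun h => hxG (Or.inr h)
    obtain ⟨y, rfl⟩ : x ∈ Set.range k.base := by
      rw [show Set.range k.base = _ from Scheme.Pullback.range_fst _ _]
      obtain ⟨p, hp⟩ : (W.hom ≫ U'.ι) x ∈ Set.range q.base := by
        show _ ∈ Set.range (PrimeSpectrum.comap (Ideal.Quotient.mk T))
        rw [range_comap_of_surjective _ _ Ideal.Quotient.mk_surjective, Ideal.mk_ker, PrimeSpectrum.mem_zeroLocus,
          SetLike.coe_subset_coe]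
        exact hT _ hfx
      have hp' : q p ∈ U' := hp ▸ (W.hom x).2
      refine ⟨⟨p, hp'⟩, U'.ι.isOpenEmbedding.injective ?_⟩
      show (ψ ≫ U'.ι) _ = _
      rw [morphismRestrict_ι]
      exact hp
    have h1 : y ∈ G₁ := by_contra fun h => hxG (Or.inl ⟨y, h, rfl⟩)
    have h2 : y ∈ H₁ := by_contra fun h => hxH (Or.inl ⟨y, h, rfl⟩)
    exact Set.disjoint_left.1 hGH h1 h2
  · rintro x hx (⟨y, hy, rfl⟩ | hx')
    · exact hy (hG' hx)
    · exact Set.disjoint_left.1 hd hx hx'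
  · rintro x hx (⟨y, hy, rfl⟩ | hx')
    · exact hy (hH' hx)
    · exact Set.disjoint_left.1 hd hx' hx

/-- Clopens separate if the components off `V(f)` have dimension at least three. -/
theorem sepNear_of_dualizing {f : A} (hf : f ∈ maximalIdeal A)
    (hd : ∃ ω : Dual.D A, Dual.IsDualizing A ω) [IsAdicComplete (Ideal.span {f}) A]
    (hc : ∀ p : Ideal A, p ∈ minimalPrimes A → f ∉ p → (3 : WithBot ℕ∞) ≤ ringKrullDim (A ⧸ p))
    {U' : (Spec (CommRingCat.of A)).Opens} (hU' : U' ≤ FEt.puncturedSpec A)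
    (hcov : ∀ p : PrimeSpectrum A, f ∈ p.asIdeal → p ≠ closedPoint A → p ∈ U')
    (W : FEt.Cat (U' : Scheme.{u})) : SepNear f W := by
  classical
  by_cases hnil : IsNilpotent f
  · intro C₁ C₂ h₁ h₂ hd' hC
    have hall : ∀ x, x ∈ C₁ ∪ C₂ := fun x => (hC x).2 (by
      obtain ⟨k, hk⟩ := hnil
      exact Ideal.IsPrime.mem_of_pow_mem inferInstance k (by rw [hk]; exact zero_mem _))
    have e : C₁ = C₂ᶜ := Set.ext fun x => ⟨fun h1 h2 => Set.disjoint_left.1 hd' h1 h2, (hall x).resolve_right⟩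
    refine ⟨C₁, C₂, e ▸ h₂.isOpen_compl, ?_, hd', le_rfl, le_rfl⟩
    rw [show C₂ = C₁ᶜ by rw [e, compl_compl]]
    exact h₁.isOpen_compl
  let T : Ideal A := Submodule.comap (LinearMap.lsmul A A f) (nilradical A)
  have hTmem : ∀ x, x ∈ T ↔ IsNilpotent (f * x) := fun x => Iff.rfl
  have hTp : ∀ p : PrimeSpectrum A, f ∉ p.asIdeal → T ≤ p.asIdeal := fun p hp x hx => by
    have h : f * x ∈ p.asIdeal := nilradical_le_prime p.asIdeal ((hTmem x).1 hx)
    exact (p.isPrime.mem_or_mem h).resolve_left hp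
  have hTm : T ≤ maximalIdeal A := IsLocalRing.le_maximalIdeal fun htop => hnil (by
    have := (hTmem 1).1 (htop ▸ Submodule.mem_top)
    rwa [mul_one] at this)
  let A₂ := A ⧸ T
  haveI : Nontrivial A₂ := Ideal.Quotient.nontrivial_iff.2
    fun h => (maximalIdeal.isMaximal A).ne_top (top_le_iff.1 (h ▸ hTm))
  haveI : IsLocalRing A₂ := IsLocalRing.of_surjective' _ Ideal.Quotient.mk_surjective
  refine sepNear_of_quotient T hTp (fun U₁ hU₁ hcov₁ W₁ => ?_) hU' hcov W
  haveI : IsLocalHom (algebraMap A A₂) := Function.Surjective.isLocalHom _ Ideal.Quotient.mk_surjective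
  haveI : IsReduced A₂ := (Ideal.isRadical_iff_quotient_reduced T).1 fun x ⟨k, hk⟩ => by
    obtain ⟨j, hj⟩ := (hTmem _).1 hk
    refine (hTmem x).2 ⟨(k + 1) * j, ?_⟩
    rw [pow_mul, show (f * x) ^ (k + 1) = f ^ k * x * (f * x ^ k) by ring, mul_pow, hj, mul_zero]
  let f₂ := Ideal.Quotient.mk T f
  have hmax : ∀ a ∈ maximalIdeal A, algebraMap A A₂ a ∈ maximalIdeal A₂ := fun a ha => by
    rw [mem_maximalIdeal, mem_nonunits_iff]
    exact fun h => ha (IsLocalHom.map_nonunit _ h)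
  have hf₂ : f₂ ∈ maximalIdeal A₂ := hmax f hf
  have hreg : ∀ x : A₂, f₂ * x = 0 → x = 0 := fun x hx => by
    obtain ⟨x, rfl⟩ := Ideal.Quotient.mk_surjective x
    rw [← map_mul, Ideal.Quotient.eq_zero_iff_mem, hTmem] at hx
    rw [Ideal.Quotient.eq_zero_iff_mem, hTmem]
    obtain ⟨j, hj⟩ := hx
    exact ⟨2 * j, by rw [pow_mul, show (f * x) ^ 2 = f * (f * x) * x by ring, mul_pow, hj, zero_mul]⟩
  haveI : IsAdicComplete (Ideal.span {f₂}) A₂ := by
    haveI : IsAdicComplete (Ideal.span {f}) A₂ := Adic7.isAdicComplete_of_finite _ A₂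
    rw [show Ideal.span {f₂} = (Ideal.span {f}).map (algebraMap A A₂) by
      rw [Ideal.map_span, Set.image_singleton]; rfl]
    exact (IsAdicComplete.map_algebraMap_iff (S := A₂) _ A₂).mpr inferInstance
  obtain ⟨ω, hω⟩ := hd
  obtain ⟨ω₂, hω₂⟩ := KFlatLib.exists_isDualizing_of_surjective (Ideal.Quotient.mk T) Ideal.Quotient.mk_surjective hω
  have hdim : ∀ p : Ideal A₂, p ∈ minimalPrimes A₂ → f₂ ∉ p → (3 : WithBot ℕ∞) ≤ ringKrullDim (A₂ ⧸ p) := by
    intro p hp hfp
    haveI := hp.1.1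
    let P : Ideal A := p.comap (Ideal.Quotient.mk T)
    have hP : P ∈ minimalPrimes A := by
      refine ⟨⟨Ideal.comap_isPrime _ _, bot_le⟩, fun J hJ hJP => ?_⟩
      haveI := hJ.1
      have hfJ : f ∉ J := fun h => hfp (hJP h)
      have hTJ : T ≤ J := hTp ⟨J, hJ.1⟩ hfJ
      have hle : J.map (Ideal.Quotient.mk T) ≤ p := Ideal.map_le_iff_le_comap.2 hJP
      have hJp : (J.map (Ideal.Quotient.mk T)).IsPrime :=
        Ideal.map_isPrime_of_surjective Ideal.Quotient.mk_surjective (by rwa [Ideal.mk_ker])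
      have := hp.2 ⟨hJp, bot_le⟩ hle
      calc P ≤ (J.map (Ideal.Quotient.mk T)).comap (Ideal.Quotient.mk T) := Ideal.comap_mono this
        _ = J := by rw [Ideal.comap_map_of_surjective' _ Ideal.Quotient.mk_surjective, Ideal.mk_ker, sup_eq_left.2 hTJ]
    let e : A ⧸ P ≃+* A₂ ⧸ p := (Ideal.quotEquivOfEq (by rw [← RingHom.comap_ker, Ideal.mk_ker])).trans
      (RingHom.quotientKerEquivOfSurjective (f := (Ideal.Quotient.mk p).comp (Ideal.Quotient.mk T))
        (Ideal.Quotient.mk_surjective.comp Ideal.Quotient.mk_surjective))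
    rw [← ringKrullDim_eq_of_ringEquiv e]
    exact hc P hP fun h => hfp h
  obtain ⟨K, hK⟩ := exists_killUpToDeg 2 hω₂ f₂ fun p hp hfp hm =>
    depth_add_dim_two_of_isReduced hω₂ f₂ hf₂ hdim p hp hfp hm
  let P := K + K + 1
  have hP : 0 < P := Nat.succ_pos _
  let F := f₂ ^ P
  have hFm : F ∈ maximalIdeal A₂ := Ideal.pow_mem_of_mem _ hf₂ _ hP
  haveI : IsAdicComplete (Ideal.span {F}) A₂ := isAdicComplete_pow f₂ P hP
  have hregF : F ∈ nonZeroDivisors A₂ :=
    pow_mem (mem_nonZeroDivisors_iff_right.2 fun x hx => hreg x (by rwa [mul_comm] at hx)) P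
  obtain ⟨n, g, hg⟩ := exists_gens (maximalIdeal A₂)
  obtain ⟨t, ht⟩ := hK.kill_quot_pow (k := 1) hreg (P * 3)
  have hrange : LinearMap.range (LinearMap.lsmul A₂ A₂ (f₂ ^ (P * 3))) = Ideal.span {F ^ 3} := by
    ext x
    rw [Ideal.mem_span_singleton', LinearMap.mem_range]
    refine exists_congr fun y => ?_
    rw [LinearMap.lsmul_apply, smul_eq_mul, mul_comm, pow_mul]
  let M₃ := A₂ ⧸ LinearMap.range (LinearMap.lsmul A₂ A₂ (f₂ ^ (P * 3)))
  have h1 : ∀ l, H0Killed g (A₂ ⧸ Ideal.span {F ^ 3}) (g l ^ t * F) := fun l => by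
    refine H0Killed.of_linearEquiv (Submodule.quotEquivOfEq _ _ hrange)
      (h0Killed_of_H g hg (ModuleCat.of A₂ M₃) _ fun z => ?_)
    rw [show g l ^ t * F = f₂ * (g l ^ t * f₂ ^ (K + K)) by
      show g l ^ t * f₂ ^ (K + K + 1) = _
      ring, mul_smul, ht _ (Ideal.pow_mem_pow (hg ▸ Ideal.subset_span ⟨l, rfl⟩) t) 1 le_rfl z, smul_zero]
  exact (sepNear_pow_iff hP W₁).1 (sepNear_of_H0Killed hFm hregF hg h1 hU₁
    (fun p hp hne => hcov₁ p (p.isPrime.mem_of_pow_mem P hp) hne) W₁)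

end Groth.Agent.PurX
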