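import Mathlib.AlgebraicGeometry.Morphisms.QuasiSeparated

/-!
# Global functions on a quasi-compact open of an affine scheme
-/

set_option autoImplicit false

universe u

open CategoryTheory AlgebraicGeometry TopologicalSpace

namespace Groth.Agent.PurX

/-- Functions on an open containing `D(G)` are `G`-power torsion away from functions on the affine scheme. -/
theorem torsion_of_isOpenImmersion {X W : Scheme.{u}} [IsAffine X] (j : W ⟶ X) [IsOpenImmersion j]
    [CompactSpace W] [QuasiSeparatedSpace W] (G : Γ(X, ⊤)) (hG : X.basicOpen G ≤ j.opensRange) :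
    (∀ z : Γ(W, ⊤), ∃ (n : ℕ) (y : Γ(X, ⊤)), j.appTop G ^ n * z = j.appTop y) ∧
      ∀ y : Γ(X, ⊤), j.appTop y = 0 → ∃ n : ℕ, G ^ n * y = 0 := by
  let r := X.basicOpen G
  haveI : IsIso (j.app r) := j.isIso_app r hG
  haveI hloc := (isAffineOpen_top X).isLocalization_basicOpen G
  have hnat : ∀ y : Γ(X, ⊤), W.presheaf.map (homOfLE (le_top : j ⁻¹ᵁ r ≤ ⊤)).op (j.appTop y) =
      j.app r (X.presheaf.map (homOfLE (le_top : r ≤ ⊤)).op y) := fun y => by
    have := congrArg (fun t => t y) (j.naturality (homOfLE (le_top : r ≤ ⊤)).op)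
    exact this.symm
  have halg : ∀ y : Γ(X, ⊤), algebraMap Γ(X, ⊤) Γ(X, r) y = X.presheaf.map (homOfLE (le_top : r ≤ ⊤)).op y :=
    fun y => rfl
  have hb : W.basicOpen (j.appTop G) = j ⁻¹ᵁ r := (Scheme.preimage_basicOpen_top j G).symm
  refine ⟨fun z => ?_, fun y hy => ?_⟩
  · obtain ⟨w, hw⟩ : ∃ w, j.app r w = W.presheaf.map (homOfLE (le_top : j ⁻¹ᵁ r ≤ ⊤)).op z :=
      (ConcreteCategory.bijective_of_isIso (j.app r)).2 _
    obtain ⟨⟨y, ⟨_, n, rfl⟩⟩, hy⟩ := IsLocalization.surj (Submonoid.powers G) w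
    have hzero : W.presheaf.map (homOfLE (le_top : j ⁻¹ᵁ r ≤ ⊤)).op (j.appTop G ^ n * z - j.appTop y) = 0 := by
      rw [map_sub, map_mul, map_pow, hnat, hnat, ← hw, ← map_pow, ← map_mul, ← map_pow, ← halg,
        ← halg, ← hy, mul_comm w, sub_self]
    have hzero' : (j.appTop G ^ n * z - j.appTop y) |_ W.basicOpen (j.appTop G) = 0 := by
      rw [TopCat.Presheaf.restrictOpen, TopCat.Presheaf.restrict]
      revert hzero
      generalize j.appTop G ^ n * z - j.appTop y = d
      revert d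
      rw [hb]
      exact fun d h => h
    obtain ⟨m, hm⟩ := exists_of_res_zero_of_qcqs_of_top hzero'
    refine ⟨m + n, G ^ m * y, ?_⟩
    rw [map_mul, map_pow, pow_add, ← sub_eq_zero, ← hm]
    ring
  · have h1 : algebraMap Γ(X, ⊤) Γ(X, r) y = 0 := by
      refine (ConcreteCategory.bijective_of_isIso (j.app r)).1 ?_
      rw [halg, ← hnat, hy, map_zero, map_zero]
    obtain ⟨⟨_, n, rfl⟩, hn⟩ := (IsLocalization.map_eq_zero_iff (Submonoid.powers G) _ _).1 h1
    exact ⟨n, hn⟩

end Groth.Agent.PurX
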