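import Groth.Agent.PurX.ThickCover
import Groth.Agent.PurX.KilledIdeal
import Groth.Agent.PurX.TorsionOff
import Groth.Agent.Pi1Ext.PuritySch

/-!
# The bottom of the formal system of a cover

The algebra of functions of a cover of the punctured spectrum of `A ⧸ (f)` is finite, and models it,
when `H¹_m(A ⧸ f)` is finite; its first Čech group is killed by a power of `m` when `H²` is finite
as well.
-/

set_option autoImplicit false
set_option linter.style.haveILetI false
set_option linter.unusedSectionVars false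

universe u

open CategoryTheory CategoryTheory.Limits AlgebraicGeometry TensorProduct IsLocalRing
open Groth.Agent.Pi1Ext Groth.Agent.Pi1Ext.RegPurity

set_option backward.isDefEq.respectTransparency false

noncomputable section

namespace Groth.Agent.PurX

theorem etAway_of_isoAway' {A : Type u} [CommRing A] {C B : Type u} [CommRing C] [CommRing B] [Algebra A C]
    [Algebra A B] {f : C →ₐ[A] B} {g : A} (hf : IsoAway f g) (hg : EtAway A C g) : EtAway A B g := by
  let Bg := Localization.Away (algebraMap A B g)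
  letI := ((algebraMap B Bg).comp f.toRingHom).toAlgebra
  haveI : IsScalarTower A C Bg := IsScalarTower.of_algebraMap_eq fun a => by
    rw [IsScalarTower.algebraMap_apply A B Bg, RingHom.algebraMap_toAlgebra]
    exact congrArg (algebraMap B Bg) (f.commutes a).symm
  haveI := hf.isLocalization
  haveI : Algebra.Etale A (Localization.Away (algebraMap A C g)) := hg
  exact Algebra.Etale.of_equiv ((IsLocalization.algEquiv (Submonoid.powers (algebraMap A C g))
    (Localization.Away (algebraMap A C g)) Bg).restrictScalars A)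

/-- Functions on a punctured finite cover are the finite algebra up to torsion. -/
theorem isoAway_struct {B : Type u} [CommRing B] [IsLocalRing B] {D : Type u} [CommRing D] [Algebra B D]
    {X : Scheme.{u}} [CompactSpace X] [QuasiSeparatedSpace X] (E : X ⟶ Spec (CommRingCat.of D)) [IsOpenImmersion E]
    (hE : (PuritySch.sp B D).base ⁻¹' ((FEt.puncturedSpec B : Set (Spec (CommRingCat.of B)))) ⊆ Set.range E.base)
    [Algebra B Γ(X, ⊤)] (φ : D →ₐ[B] Γ(X, ⊤)) (hφ : ∀ y, φ y = struct E y) {b : B} (hb : b ∈ maximalIdeal B) :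
    IsoAway φ b := by
  let iso := Scheme.ΓSpecIso (CommRingCat.of D)
  let G : Γ(Spec (CommRingCat.of D), ⊤) := iso.inv (algebraMap B D b)
  have hG : (Spec (CommRingCat.of D)).basicOpen G ≤ E.opensRange := by
    intro q hq
    rw [basicOpen_eq_of_affine', Iso.inv_hom_id_apply] at hq
    have hq' : algebraMap B D b ∉ (q : PrimeSpectrum D).asIdeal := hq
    refine hE fun he => hq' ?_
    have he' : PrimeSpectrum.comap (algebraMap B D) q = closedPoint B := he
    exact (show b ∈ (PrimeSpectrum.comap (algebraMap B D) q).asIdeal by rw [he']; exact hb)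
  obtain ⟨h1, h2⟩ := torsion_of_isOpenImmersion E G hG
  have hGb : E.appTop G = algebraMap B Γ(X, ⊤) b := by
    rw [← φ.commutes, hφ]
    rfl
  refine ⟨fun z => ?_, fun y hy => ?_⟩
  · obtain ⟨n, y, hy⟩ := h1 z
    refine ⟨n, iso.hom y, ?_⟩
    rw [hφ, Algebra.smul_def, map_pow, ← hGb, hy]
    show E.appTop y = E.appTop (iso.inv (iso.hom y))
    rw [Iso.hom_inv_id_apply]
  · obtain ⟨n, hn⟩ := h2 (iso.inv y) ((hφ y).symm.trans hy)
    refine ⟨n, ?_⟩
    have := congrArg iso.hom hn
    simp only [G, map_mul, map_pow, Iso.inv_hom_id_apply, map_zero] at this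
    rw [Algebra.smul_def, map_pow]
    exact this

variable {A : Type u} [CommRing A] [IsLocalRing A] [IsNoetherianRing A] (f : A)

/-- The punctured spectrum of `A ⧸ (f)` is the bottom thickening. -/
theorem exists_bottom_iso [IsLocalRing (A ⧸ Ideal.span {f})] :
    ∃ κ : (FEt.puncturedSpec (A ⧸ Ideal.span {f}) : Scheme.{u}) ≅ thickU f 0,
      κ.hom ≫ pullback.snd _ _ = (FEt.puncturedSpec (A ⧸ Ideal.span {f})).ι := by
  let B := A ⧸ Ideal.span {f}
  let jj : thickU f 0 ⟶ Spec (CommRingCat.of B) := pullback.snd _ _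
  haveI : IsOpenImmersion jj := MorphismProperty.pullback_snd _ _ inferInstance
  have hrange : Set.range (FEt.puncturedSpec B).ι.base = Set.range jj.base := by
    rw [show Set.range jj.base = _ from Scheme.Pullback.range_snd _ _, Scheme.Opens.range_ι, Scheme.Opens.range_ι]
    ext x
    show x ≠ closedPoint B ↔ PrimeSpectrum.comap (Ideal.Quotient.mk (Ideal.span {f})) x ≠ closedPoint A
    refine not_congr ?_
    haveI : IsLocalHom (Ideal.Quotient.mk (Ideal.span {f})) := Function.Surjective.isLocalHom _ Ideal.Quotient.mk_surjective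
    rw [← IsLocalRing.comap_closedPoint (f := Ideal.Quotient.mk (Ideal.span {f}))]
    exact (PrimeSpectrum.comap_injective_of_surjective _ Ideal.Quotient.mk_surjective).eq_iff.symm
  exact ⟨IsOpenImmersion.isoOfRangeEq _ jj hrange, IsOpenImmersion.isoOfRangeEq_hom_fac _ _ _⟩

variable {ι : Type} [Fintype ι] {g : ι → A} (hg : Ideal.span (Set.range g) = maximalIdeal A)

include hg in
/-- Powers of the maximal ideal kill the first Čech groups of a finite algebra étale off the closed point of the quotient. -/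
theorem exists_pow_killed_model [IsLocalRing (A ⧸ Ideal.span {f})] (D : Type u) [CommRing D]
    [Algebra (A ⧸ Ideal.span {f}) D] [Module.Finite (A ⧸ Ideal.span {f}) D] (hD : EtOff (A ⧸ Ideal.span {f}) D)
    [Algebra A D] [IsScalarTower A (A ⧸ Ideal.span {f}) D] :
    (Module.Finite A (LocCoh.H (maximalIdeal A) 1 (A ⧸ Ideal.span {f})) →
      ∃ t : ℕ, ∀ c ∈ Ideal.span (Set.range g) ^ t, H0Killed g D c) ∧
    (Module.Finite A (LocCoh.H (maximalIdeal A) 2 (A ⧸ Ideal.span {f})) →
      ∃ t : ℕ, ∀ c ∈ Ideal.span (Set.range g) ^ t, H1Killed g D c) := by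
  let B := A ⧸ Ideal.span {f}
  have hgm : ∀ i, (algebraMap A B ∘ g) i ∈ maximalIdeal B := fun i => by
    rw [Function.comp_apply, mem_maximalIdeal, mem_nonunits_iff]
    haveI : IsLocalHom (algebraMap A B) := Function.Surjective.isLocalHom _ Ideal.Quotient.mk_surjective
    exact fun h => (show g i ∈ maximalIdeal A from hg ▸ Ideal.subset_span ⟨i, rfl⟩) (IsLocalHom.map_nonunit _ h)
  have hsplit := split_of_etOff D hD (algebraMap A B ∘ g) hgm
  have hrad : ∀ i, algebraMap A B (g i) ∈ (Ideal.span (Set.range (algebraMap A B ∘ g))).radical := fun i =>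
    Ideal.le_radical (Ideal.subset_span ⟨i, rfl⟩)
  refine ⟨fun h1 => ?_, fun h2 => ?_⟩
  · obtain ⟨N, hN⟩ := exists_pow_kill_H (maximalIdeal A) 1 B
    refine exists_pow_of_radical H0Killed.zero (fun a b => H0Killed.add) (fun r a h => h.mul_left r) g fun i => ?_
    have h := (H0Killed.restrictScalars (S := B) (M := B)).1 (h0Killed_of_H g hg (ModuleCat.of A B) (g i ^ N)
      (hN _ (Ideal.pow_mem_pow (hg ▸ Ideal.subset_span ⟨i, rfl⟩) N)))
    obtain ⟨t, ht⟩ := hsplit.h0Killed (hrad i) h
    refine ⟨t + N, H0Killed.restrictScalars (S := B).2 ?_⟩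
    rw [pow_add, map_mul, map_pow]
    rwa [map_pow] at ht ⊢
  · obtain ⟨N, hN⟩ := exists_pow_kill_H (maximalIdeal A) 2 B
    refine exists_pow_of_radical H1Killed.zero (fun a b => H1Killed.add) (fun r a h => h.mul_left r) g fun i => ?_
    have h := (H1Killed.restrictScalars (S := B) (M := B)).1 (h1Killed_of_H g hg (ModuleCat.of A B) (g i ^ N)
      (hN _ (Ideal.pow_mem_pow (hg ▸ Ideal.subset_span ⟨i, rfl⟩) N)))
    obtain ⟨t, ht⟩ := hsplit.h1Killed (hrad i) h
    refine ⟨t + N, H1Killed.restrictScalars (S := B).2 ?_⟩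
    rw [pow_add, map_mul, map_pow]
    rwa [map_pow] at ht ⊢

include hg in
/-- The bottom of the formal system of a cover. -/
theorem bottom_facts (hnz : f ∈ nonZeroDivisors A) [IsLocalRing (A ⧸ Ideal.span {f})] (V₀ : FEt.Cat (thickU f 0))
    [Algebra (A ⧸ Ideal.span {f}) ((thickSystem f V₀).R 0)]
    (halg : CommRingCat.ofHom (algebraMap (A ⧸ Ideal.span {f}) ((thickSystem f V₀).R 0)) = struct ((thickSystem f V₀).s 0))
    (h1 : Module.Finite A (LocCoh.H (maximalIdeal A) 1 (A ⧸ Ideal.span {f}))) :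
    IsScalarTower A (A ⧸ Ideal.span {f}) ((thickSystem f V₀).R 0) ∧
      Module.Finite A ((thickSystem f V₀).R 0) ∧
      EtOff (A ⧸ Ideal.span {f}) ((thickSystem f V₀).R 0) ∧
      (Module.Finite A (LocCoh.H (maximalIdeal A) 2 (A ⧸ Ideal.span {f})) →
        ∃ t : ℕ, ∀ c ∈ Ideal.span (Set.range g) ^ t, H1Killed g ((thickSystem f V₀).R 0) c) ∧
      ∃ (κ : (FEt.puncturedSpec (A ⧸ Ideal.span {f}) : Scheme.{u}) ≅ thickU f 0) (_ : κ.hom ≫ pullback.snd _ _ = (FEt.puncturedSpec (A ⧸ Ideal.span {f})).ι)
        (hR : FEt.prop (PuritySch.rest (A ⧸ Ideal.span {f}) ((thickSystem f V₀).R 0))),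
        Nonempty (PuritySch.obj ((thickSystem f V₀).R 0) hR ≅ (FEt.restrict κ.hom).obj V₀) := by
  classical
  let B := A ⧸ Ideal.span {f}
  let S := thickSystem f V₀
  let R₀ := S.R 0
  haveI : IsNoetherianRing B := inferInstance
  haveI htow : IsScalarTower A B R₀ := IsScalarTower.of_algebraMap_eq fun a => by
    have h : struct (S.T 0) = CommRingCat.ofHom (algebraMap A B) ≫ struct (S.s 0) := by
      rw [← struct_comp_spec]
      exact congrArg struct (S.fac 0).symm
    rw [ThickSystem.algebraMap_eq, h]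
    exact congr($(halg.symm) (Ideal.Quotient.mk (Ideal.span {f}) a))
  obtain ⟨κ, hκ⟩ := exists_bottom_iso f
  let V' := (FEt.restrict κ.hom).obj V₀
  obtain ⟨D, _, _, _, hD, ⟨e⟩⟩ := PuritySch.exists_finite_model V'
  letI : Algebra A D := Algebra.compHom D (algebraMap A B)
  haveI : IsScalarTower A B D := IsScalarTower.of_algebraMap_eq fun _ => rfl
  -- the open immersion into the finite model
  let v₁ : pullback (PuritySch.sp B D) (FEt.puncturedSpec B).ι ⟶ pullback V₀.hom κ.hom := e.hom.left
  haveI : IsIso v₁ :=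
    ⟨e.inv.left, congrArg (fun t => t.left) e.hom_inv_id, congrArg (fun t => t.left) e.inv_hom_id⟩
  let w : pullback (PuritySch.sp B D) (FEt.puncturedSpec B).ι ⟶ S.X 0 := v₁ ≫ pullback.fst V₀.hom κ.hom
  haveI : IsIso (pullback.fst V₀.hom κ.hom) := inferInstance
  haveI : IsIso w := inferInstance
  let E : S.X 0 ⟶ Spec (CommRingCat.of D) := inv w ≫ pullback.fst _ _
  have hEsp : E ≫ PuritySch.sp B D = S.s 0 := by
    have hv : v₁ ≫ pullback.snd V₀.hom κ.hom = PuritySch.rest B D := MorphismProperty.Over.w e.hom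
    rw [Category.assoc, IsIso.inv_comp_eq, pullback.condition]
    have h2 : w ≫ S.s 0 = v₁ ≫ (pullback.fst V₀.hom κ.hom ≫ V₀.hom) ≫ pullback.snd _ _ := by
      simp only [w, Category.assoc]
      rfl
    rw [h2, pullback.condition, Category.assoc, reassoc_of% hv]
    exact (congrArg (fun t => PuritySch.rest B D ≫ t) hκ).symm
  let φ : D →ₐ[B] R₀ :=
    { toRingHom := (struct E).hom
      commutes' := fun a => by
        have h : CommRingCat.ofHom (algebraMap B D) ≫ struct E = struct (S.s 0) := by
          rw [← struct_comp_spec]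
          exact congrArg struct hEsp
        rw [show struct (S.s 0) = CommRingCat.ofHom (algebraMap B R₀) from halg.symm] at h
        exact congr($h a) }
  have hErange : (PuritySch.sp B D).base ⁻¹' (FEt.puncturedSpec B : Set (Spec (CommRingCat.of B))) ⊆ Set.range E.base := by
    rw [show Set.range E.base = Set.range (pullback.fst (PuritySch.sp B D) (FEt.puncturedSpec B).ι).base from by
      simp only [E, Scheme.Hom.comp_base, TopCat.coe_comp]
      exact Function.Surjective.range_comp (inv w).surjective _, Scheme.Pullback.range_fst, Scheme.Opens.range_ι]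
  haveI : IsOpenImmersion E := inferInstance
  have hiso : ∀ b ∈ maximalIdeal B, IsoAway φ b := fun b hb => isoAway_struct E hErange φ (fun y => rfl) hb
  haveI : IsLocalHom (algebraMap A B) := Function.Surjective.isLocalHom _ Ideal.Quotient.mk_surjective
  have hgm : ∀ i, algebraMap A B (g i) ∈ maximalIdeal B := fun i => by
    rw [mem_maximalIdeal, mem_nonunits_iff]
    exact fun h => (show g i ∈ maximalIdeal A from hg ▸ Ideal.subset_span ⟨i, rfl⟩) (IsLocalHom.map_nonunit _ h)
  let φA : D →ₗ[A] R₀ := (φ.restrictScalars A).toLinearMap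
  have hker : ∀ m, φA m = 0 → ∀ i, ∃ q : ℕ, g i ^ q • m = 0 := fun m hm i => by
    obtain ⟨n, hn⟩ := (hiso _ (hgm i)).2 m hm
    exact ⟨n, by rw [← algebraMap_smul B, map_pow, hn]⟩
  have hsurj : ∀ (z : R₀) i, ∃ (q : ℕ) (m : D), g i ^ q • z = φA m := fun z i => by
    obtain ⟨n, m, hm⟩ := (hiso _ (hgm i)).1 z
    exact ⟨n, m, by rw [← algebraMap_smul B, map_pow, hm]; rfl⟩
  have hsep := (S.isTower hg hnz).sep 0
  obtain ⟨hk0, hk1⟩ := exists_pow_killed_model f hg D hD
  obtain ⟨t, ht⟩ := hk0 h1
  haveI : Module.Finite A D := Module.Finite.trans B D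
  haveI hfin : Module.Finite A R₀ := by
    let L : R₀ →ₗ[A] (ι → R₀) := LinearMap.pi fun i => g i ^ t • LinearMap.id
    have hL : ∀ z i, L z i ∈ LinearMap.range φA := fun z i => by
      obtain ⟨m, hm⟩ := (ht (g i ^ t) (Ideal.pow_mem_pow (Ideal.subset_span (Set.mem_range_self i)) t)).smul_mem_range φA hker hsurj hsep z
      exact ⟨m, hm⟩
    let L' : R₀ →ₗ[A] (ι → LinearMap.range φA) :=
      LinearMap.pi fun i => (g i ^ t • LinearMap.id).codRestrict _ fun z => hL z i
    refine Module.Finite.of_injective L' ((injective_iff_map_eq_zero _).2 fun z hz => hsep z fun i => ⟨t, ?_⟩)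
    exact congrArg Subtype.val (congrFun hz i)
  haveI : Module.Finite B R₀ := Module.Finite.of_restrictScalars_finite A B R₀
  have hR : EtOff B R₀ := fun b hb => etAway_of_isoAway' (hiso b hb) (hD b hb)
  refine ⟨htow, hfin, hR, fun h2 => ?_, κ, hκ, PuritySch.prop_rest R₀ hR, ?_⟩
  · obtain ⟨t', ht'⟩ := hk1 h2
    exact ⟨t', fun c hc => (ht' c hc).transfer φA hker hsurj⟩
  · obtain ⟨e'⟩ := PuritySch.nonempty_iso φ hiso (PuritySch.prop_rest D hD) (PuritySch.prop_rest R₀ hR)
    exact ⟨e' ≪≫ e⟩

end Groth.Agent.PurX
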