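import Groth.Agent.PurX.ThickModel

/-!
# Extension to a neighbourhood when the first local cohomology groups are killed only after multiplying by `f`
-/

set_option autoImplicit false
set_option linter.style.haveILetI false
set_option linter.unusedSectionVars false

universe u

open CategoryTheory CategoryTheory.Limits AlgebraicGeometry TensorProduct IsLocalRing
open Groth.Agent.Pi1Ext Groth.Agent.Pi1Ext.RegPurity

set_option backward.isDefEq.respectTransparency false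

noncomputable section

namespace Groth.Agent.PurX

variable {A : Type u} [CommRing A] [IsLocalRing A] [IsNoetherianRing A] {f : A}

/-- A finite algebra, étale near `V(f)`, that models the cover modulo `f` gives an extension to a neighbourhood. -/
theorem exists_extension_of_algebra [IsLocalRing (A ⧸ Ideal.span {f})] (C : Type u) [CommRing C] [Algebra A C]
    [Module.Finite A C] (het : ∀ Q : PrimeSpectrum C, f ∈ (PrimeSpectrum.comap (algebraMap A C) Q).asIdeal →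
      PrimeSpectrum.comap (algebraMap A C) Q ≠ closedPoint A → Algebra.IsEtaleAt A Q.asIdeal)
    (hC₀ : EtOff (A ⧸ Ideal.span {f}) ((A ⧸ Ideal.span {f}) ⊗[A] C))
    (V₀ : FEt.Cat (pullback (FEt.puncturedSpec A).ι (Spec.map (CommRingCat.ofHom (Ideal.Quotient.mk (Ideal.span {f}))))))
    (κ : (FEt.puncturedSpec (A ⧸ Ideal.span {f}) : Scheme.{u}) ≅
      pullback (FEt.puncturedSpec A).ι (Spec.map (CommRingCat.ofHom (Ideal.Quotient.mk (Ideal.span {f})))))
    (hκ : κ.hom ≫ pullback.snd _ _ = (FEt.puncturedSpec (A ⧸ Ideal.span {f})).ι)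
    (he : Nonempty (PuritySch.obj ((A ⧸ Ideal.span {f}) ⊗[A] C) (PuritySch.prop_rest _ hC₀) ≅
      (FEt.restrict κ.hom).obj V₀)) :
    ∃ (U' : (Spec (CommRingCat.of A)).Opens) (_ : U' ≤ FEt.puncturedSpec A)
      (u' : pullback (FEt.puncturedSpec A).ι (Spec.map (CommRingCat.ofHom (Ideal.Quotient.mk (Ideal.span {f})))) ⟶ (U' : Scheme.{u}))
      (_ : u' ≫ U'.ι = pullback.fst (FEt.puncturedSpec A).ι (Spec.map (CommRingCat.ofHom (Ideal.Quotient.mk (Ideal.span {f})))) ≫ (FEt.puncturedSpec A).ι)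
      (V' : FEt.Cat (U' : Scheme.{u})), Nonempty ((FEt.restrict u').obj V' ≅ V₀) := by
  classical
  let B := A ⧸ Ideal.span {f}
  let C₀ := B ⊗[A] C
  obtain ⟨e⟩ := he
  haveI : Algebra.FinitePresentation A C := Algebra.FinitePresentation.of_finiteType.mp inferInstance
  let bad : Set (PrimeSpectrum A) := PrimeSpectrum.comap (algebraMap A C) '' (Algebra.etaleLocus A C)ᶜ
  have hbad : IsClosed bad :=
    PrimeSpectrum.isClosedMap_comap_of_isIntegral (algebraMap A C) (Algebra.isIntegral_def.1 inferInstance ·)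
      _ Algebra.isOpen_etaleLocus.isClosed_compl
  let U' : (Spec (CommRingCat.of A)).Opens := FEt.puncturedSpec A ⊓ ⟨badᶜ, hbad.isOpen_compl⟩
  have hV' : FEt.prop (pullback.snd (PuritySch.sp A C) U'.ι) := prop_restrict_open fun Q hQ => by
    by_contra hQ'
    exact hQ.2 ⟨Q, hQ', rfl⟩
  let q := Spec.map (CommRingCat.ofHom (Ideal.Quotient.mk (Ideal.span {f})))
  let U₀ := pullback (FEt.puncturedSpec A).ι q
  let u₀ : U₀ ⟶ Spec (CommRingCat.of A) := pullback.fst _ _ ≫ (FEt.puncturedSpec A).ι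
  have hu₀ : u₀ = pullback.snd _ _ ≫ q := pullback.condition
  have hrange : Set.range u₀.base ⊆ Set.range U'.ι.base := by
    rw [Scheme.Opens.range_ι]
    rintro _ ⟨y, rfl⟩
    have hp : u₀.base y ∈ FEt.puncturedSpec A := (pullback.fst (FEt.puncturedSpec A).ι q y).2
    refine ⟨hp, ?_⟩
    rintro ⟨Q, hQ, hQy⟩
    refine hQ (het Q ?_ (hQy ▸ hp))
    rw [hQy]
    refine (mem_range_spec_quot f _).1 ⟨pullback.snd (FEt.puncturedSpec A).ι q y, ?_⟩
    exact (congrArg (fun t : U₀ ⟶ Spec (CommRingCat.of A) => t.base y) hu₀).symm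
  let u' : U₀ ⟶ (U' : Scheme.{u}) := IsOpenImmersion.lift U'.ι u₀ hrange
  have hu' : u' ≫ U'.ι = u₀ := IsOpenImmersion.lift_fac _ _ _
  let V' : FEt.Cat (U' : Scheme.{u}) := MorphismProperty.Over.mk ⊤ (pullback.snd (PuritySch.sp A C) U'.ι) hV'
  refine ⟨U', inf_le_left, u', hu', V', ?_⟩
  let ιB := (FEt.puncturedSpec B).ι
  have hpb : IsPullback (pullback.fst (PuritySch.sp B C₀) ιB ≫ Spec.map (CommRingCat.ofHom
      (Algebra.TensorProduct.includeRight : C →ₐ[A] C₀).toRingHom)) (PuritySch.rest B C₀) (PuritySch.sp A C)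
      ((κ.hom ≫ u') ≫ U'.ι) := by
    have hbase : IsPullback (Spec.map (CommRingCat.ofHom (Algebra.TensorProduct.includeRight : C →ₐ[A] C₀).toRingHom))
        (PuritySch.sp B C₀) (PuritySch.sp A C) (PuritySch.sp A B) :=
      (isPullback_SpecMap_of_isPushout _ _ _ _ (CommRingCat.isPushout_tensorProduct A B C).flip).flip.flip
    have := (IsPullback.of_hasPullback (PuritySch.sp B C₀) ιB).paste_horiz hbase
    rwa [show ιB ≫ PuritySch.sp A B = (κ.hom ≫ u') ≫ U'.ι by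
      have hκ' : κ.hom ≫ pullback.snd (FEt.puncturedSpec A).ι q = ιB := hκ
      rw [Category.assoc, hu', hu₀, reassoc_of% hκ']
      rfl] at this
  obtain ⟨e₀⟩ := nonempty_iso_restrict_of_isPullback (p := PuritySch.sp A C) (j := U'.ι) (w := κ.hom ≫ u')
    hpb (PuritySch.prop_rest _ hC₀) hV'
  haveI : (FEt.restrict κ.hom).IsEquivalence := S0238.result _
  exact ⟨(FEt.restrict κ.hom).preimageIso
    ((Spread.restrictComp κ.hom u' (κ.hom ≫ u') rfl V').symm ≪≫ e₀.symm ≪≫ e)⟩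

theorem exists_pow_killed_model_smul {ι : Type} [Fintype ι] {g : ι → A}
    (hg : Ideal.span (Set.range g) = maximalIdeal A) (I : Ideal A) [IsLocalRing (A ⧸ I)] (D : Type u) [CommRing D]
    [Algebra (A ⧸ I) D] [Module.Finite (A ⧸ I) D] (hD : EtOff (A ⧸ I) D) [Algebra A D] [IsScalarTower A (A ⧸ I) D]
    {T : ℕ} :
    ((∀ l, H0Killed g (A ⧸ I) (g l ^ T * f)) → ∃ t : ℕ, ∀ c ∈ Ideal.span (Set.range g) ^ t, H0Killed g D (c * f)) ∧
    ((∀ l, H1Killed g (A ⧸ I) (g l ^ T * f)) → ∃ t : ℕ, ∀ c ∈ Ideal.span (Set.range g) ^ t, H1Killed g D (c * f)) := by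
  let B := A ⧸ I
  haveI : IsLocalHom (algebraMap A B) := Function.Surjective.isLocalHom _ Ideal.Quotient.mk_surjective
  have hgm : ∀ i, (algebraMap A B ∘ g) i ∈ maximalIdeal B := fun i => by
    rw [Function.comp_apply, mem_maximalIdeal, mem_nonunits_iff]
    exact fun h => (show g i ∈ maximalIdeal A from hg ▸ Ideal.subset_span ⟨i, rfl⟩) (IsLocalHom.map_nonunit _ h)
  have hsplit := split_of_etOff D hD (algebraMap A B ∘ g) hgm
  have hrad : ∀ i, algebraMap A B (g i) ∈ (Ideal.span (Set.range (algebraMap A B ∘ g))).radical := fun i =>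
    Ideal.le_radical (Ideal.subset_span ⟨i, rfl⟩)
  refine ⟨fun h1 => ?_, fun h2 => ?_⟩
  · refine exists_pow_of_radical (P := fun c => H0Killed g D (c * f)) (by rw [zero_mul]; exact H0Killed.zero)
      (fun a b ha hb => by rw [add_mul]; exact H0Killed.add ha hb)
      (fun r a h => by rw [mul_assoc]; exact h.mul_left r) g fun l => ?_
    have h := (H0Killed.restrictScalars (S := B) (M := B)).1
      (h1 l)
    obtain ⟨t, ht⟩ := hsplit.h0Killed (hrad l) h
    refine ⟨t + T, H0Killed.restrictScalars (S := B).2 ?_⟩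
    rw [pow_add, mul_assoc, map_mul, map_pow]
    exact ht
  · refine exists_pow_of_radical (P := fun c => H1Killed g D (c * f)) (by rw [zero_mul]; exact H1Killed.zero)
      (fun a b ha hb => by rw [add_mul]; exact H1Killed.add ha hb)
      (fun r a h => by rw [mul_assoc]; exact h.mul_left r) g fun l => ?_
    have h := (H1Killed.restrictScalars (S := B) (M := B)).1
      (h2 l)
    obtain ⟨t, ht⟩ := hsplit.h1Killed (hrad l) h
    refine ⟨t + T, H1Killed.restrictScalars (S := B).2 ?_⟩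
    rw [pow_add, mul_assoc, map_mul, map_pow]
    exact ht

/-- A cover of the punctured hypersurface has, off the closed point, the functions of a finite `f`-regular
algebra, if `c * f` kills the first two Čech groups of `A ⧸ f³` for `c` in a power of the maximal ideal. -/
theorem exists_algebra_of_killed (hf : f ∈ maximalIdeal A) [IsAdicComplete (Ideal.span {f}) A]
    (hnz : f ∈ nonZeroDivisors A) {n : ℕ} {g : Fin n → A} (hg : Ideal.span (Set.range g) = maximalIdeal A) {T : ℕ}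
    (h1 : ∀ l, H0Killed g (A ⧸ Ideal.span {f ^ 3}) (g l ^ T * f))
    (h2 : ∀ l, H1Killed g (A ⧸ Ideal.span {f ^ 3}) (g l ^ T * f))
    [IsLocalRing (A ⧸ Ideal.span {f})] (D₀ : Type u) [CommRing D₀] [Algebra (A ⧸ Ideal.span {f}) D₀]
    [Module.Finite (A ⧸ Ideal.span {f}) D₀] (hD₀ : EtOff (A ⧸ Ideal.span {f}) D₀) :
    ∃ (C : Type u) (_ : CommRing C) (_ : Algebra A C) (_ : Module.Finite A C) (_ : ∀ c : C, f • c = 0 → c = 0)
      (_ : EtOff (A ⧸ Ideal.span {f}) ((A ⧸ Ideal.span {f}) ⊗[A] C))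
      (R' : Type u) (_ : CommRing R') (_ : Algebra (A ⧸ Ideal.span {f}) R') (_ : Module.Finite (A ⧸ Ideal.span {f}) R')
      (_ : EtOff (A ⧸ Ideal.span {f}) R') (φ : D₀ →ₐ[A ⧸ Ideal.span {f}] R')
      (ψ : (A ⧸ Ideal.span {f}) ⊗[A] C →ₐ[A ⧸ Ideal.span {f}] R'),
      (∀ b ∈ maximalIdeal (A ⧸ Ideal.span {f}), IsoAway φ b) ∧
      (∀ b ∈ maximalIdeal (A ⧸ Ideal.span {f}), IsoAway ψ b) := by
  classical
  obtain ⟨κ, hκ⟩ := exists_punctured_iso (Ideal.span {f})
  haveI : (FEt.restrict κ.hom).IsEquivalence := S0238.result _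
  let V₀ : FEt.Cat (thickU f 0) := (FEt.restrict κ.hom).objPreimage (PuritySch.obj D₀ (PuritySch.prop_rest D₀ hD₀))
  let S := thickSystem f V₀
  let hT := S.isTower hg hnz
  have hle : ∀ n, S.I n ≤ maximalIdeal A := fun n => by
    rw [S.hI, Ideal.span_singleton_le_iff_mem]
    exact Ideal.pow_mem_of_mem _ hf _ n.succ_pos
  haveI hloc : ∀ n, IsLocalRing (A ⧸ S.I n) := fun n =>
    haveI : Nontrivial (A ⧸ S.I n) := Ideal.Quotient.nontrivial_iff.2
      fun h => (maximalIdeal.isMaximal A).ne_top (top_le_iff.1 (h ▸ hle n))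
    IsLocalRing.of_surjective' _ Ideal.Quotient.mk_surjective
  letI algB : ∀ n, Algebra (A ⧸ S.I n) (S.R n) := fun n => (struct (S.s n)).hom.toAlgebra
  haveI : ∀ n, IsScalarTower A (A ⧸ S.I n) (S.R n) := fun n => IsScalarTower.of_algebraMap_eq fun a => by
    have h : struct (S.T n) = CommRingCat.ofHom (algebraMap A (A ⧸ S.I n)) ≫ struct (S.s n) := by
      rw [← struct_comp_spec]
      exact congrArg struct (S.fac n).symm
    rw [ThickSystem.algebraMap_eq, h]
    rfl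
  have hgm : ∀ n i, algebraMap A (A ⧸ S.I n) (g i) ∈ maximalIdeal (A ⧸ S.I n) := fun n i => by
    haveI : IsLocalHom (algebraMap A (A ⧸ S.I n)) := Function.Surjective.isLocalHom _ Ideal.Quotient.mk_surjective
    rw [mem_maximalIdeal, mem_nonunits_iff]
    exact fun h => (show g i ∈ maximalIdeal A from hg ▸ Ideal.subset_span ⟨i, rfl⟩) (IsLocalHom.map_nonunit _ h)
  -- the models
  haveI hl₂ : IsLocalRing (A ⧸ thickIdeal f 2) := hloc 2
  haveI hl₀ : IsLocalRing (A ⧸ thickIdeal f 0) := hloc 0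
  letI : Algebra (A ⧸ thickIdeal f 2) Γ((thickV f V₀ 2).left, ⊤) := algB 2
  letI : Algebra (A ⧸ thickIdeal f 0) Γ((thickV f V₀ 0).left, ⊤) := algB 0
  letI a₂ : Algebra (A ⧸ thickIdeal f 2) (S.R 2) := algB 2
  letI a₀ : Algebra (A ⧸ thickIdeal f 0) (S.R 0) := algB 0
  haveI : IsScalarTower A (A ⧸ thickIdeal f 2) (S.R 2) := ‹∀ n, IsScalarTower A (A ⧸ S.I n) (S.R n)› 2
  haveI : IsScalarTower A (A ⧸ thickIdeal f 0) (S.R 0) := ‹∀ n, IsScalarTower A (A ⧸ S.I n) (S.R n)› 0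
  obtain ⟨D₂, _, _, _, hD₂, φ₂, hφ₂⟩ :=
    exists_model (thickIdeal f 2) (thickV f V₀ 2) (halg := rfl)
  letI : Algebra (A ⧸ thickIdeal f 0) D₀ := (inferInstance : Algebra (A ⧸ Ideal.span {f}) D₀)
  haveI : Module.Finite (A ⧸ thickIdeal f 0) D₀ := (inferInstance : Module.Finite (A ⧸ Ideal.span {f}) D₀)
  obtain ⟨φ₀, hφ₀⟩ := exists_model_map (thickIdeal f 0) (thickV f V₀ 0) (halg := rfl) (hD := hD₀) κ hκ
    ⟨((FEt.restrict κ.hom).objObjPreimageIso (PuritySch.obj D₀ (PuritySch.prop_rest D₀ hD₀))).symm⟩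
  letI : Algebra A D₂ := Algebra.compHom D₂ (algebraMap A (A ⧸ thickIdeal f 2))
  haveI : IsScalarTower A (A ⧸ thickIdeal f 2) D₂ := IsScalarTower.of_algebraMap_eq fun _ => rfl
  letI : Algebra A D₀ := Algebra.compHom D₀ (algebraMap A (A ⧸ thickIdeal f 0))
  haveI : IsScalarTower A (A ⧸ thickIdeal f 0) D₀ := IsScalarTower.of_algebraMap_eq fun _ => rfl
  haveI : Module.Finite A D₂ := Module.Finite.trans (A ⧸ thickIdeal f 2) D₂
  haveI : Module.Finite A D₀ := Module.Finite.trans (A ⧸ thickIdeal f 0) D₀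
  let φ₂' : D₂ →ₐ[A ⧸ thickIdeal f 2] S.R 2 := φ₂
  let φ₀' : D₀ →ₐ[A ⧸ thickIdeal f 0] S.R 0 := φ₀
  have hφ₂' : ∀ b ∈ maximalIdeal (A ⧸ thickIdeal f 2), IsoAway φ₂' b := hφ₂
  have hφ₀' : ∀ b ∈ maximalIdeal (A ⧸ thickIdeal f 0), IsoAway φ₀' b := hφ₀
  let L₂ : D₂ →ₗ[A] S.R 2 := (φ₂'.restrictScalars A).toLinearMap
  let L₀ : D₀ →ₗ[A] S.R 0 := (φ₀'.restrictScalars A).toLinearMap
  have hker₂ : ∀ m, L₂ m = 0 → ∀ i, ∃ q : ℕ, g i ^ q • m = 0 := fun m hm i => by
    obtain ⟨k, hk⟩ := (hφ₂' _ (hgm 2 i)).2 m hm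
    exact ⟨k, by rw [← algebraMap_smul (A ⧸ thickIdeal f 2), map_pow]; exact hk⟩
  have hsurj₂ : ∀ (z : S.R 2) i, ∃ (q : ℕ) (m : D₂), g i ^ q • z = L₂ m := fun z i => by
    obtain ⟨k, m, hm⟩ := (hφ₂' _ (hgm 2 i)).1 z
    exact ⟨k, m, by rw [← algebraMap_smul (A ⧸ thickIdeal f 2), map_pow]; exact hm⟩
  have hker₀ : ∀ m, L₀ m = 0 → ∀ i, ∃ q : ℕ, g i ^ q • m = 0 := fun m hm i => by
    obtain ⟨k, hk⟩ := (hφ₀' _ (hgm 0 i)).2 m hm
    exact ⟨k, by rw [← algebraMap_smul (A ⧸ thickIdeal f 0), map_pow]; exact hk⟩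
  have hsurj₀ : ∀ (z : S.R 0) i, ∃ (q : ℕ) (m : D₀), g i ^ q • z = L₀ m := fun z i => by
    obtain ⟨k, m, hm⟩ := (hφ₀' _ (hgm 0 i)).1 z
    exact ⟨k, m, by rw [← algebraMap_smul (A ⧸ thickIdeal f 0), map_pow]; exact hm⟩
  obtain ⟨t₀, ht₀⟩ := (exists_pow_killed_model_smul (f := f) hg (thickIdeal f 2) D₂ hD₂ (T := T)).1 h1
  obtain ⟨t₁, ht₁⟩ := (exists_pow_killed_model_smul (f := f) hg (thickIdeal f 2) D₂ hD₂ (T := T)).2 h2
  haveI : Module.Finite A (LinearMap.range (LinearMap.lsmul A (S.R 2) f)) := by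
    have hmem : ∀ (y : LinearMap.range (LinearMap.lsmul A (S.R 2) f)) i, g i ^ t₀ • (y : S.R 2) ∈ LinearMap.range L₂ := by
      rintro ⟨_, z, rfl⟩ i
      obtain ⟨m, hm⟩ := (ht₀ (g i ^ t₀) (Ideal.pow_mem_pow (Ideal.subset_span (Set.mem_range_self i)) t₀)).smul_mem_range
        L₂ hker₂ hsurj₂ (hT.sep 2) z
      exact ⟨m, by rw [hm, mul_smul]; rfl⟩
    let L' : LinearMap.range (LinearMap.lsmul A (S.R 2) f) →ₗ[A] (Fin n → LinearMap.range L₂) :=
      LinearMap.pi fun i => ((g i ^ t₀ • LinearMap.id) ∘ₗ Submodule.subtype _).codRestrict _ fun y => hmem y i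
    refine Module.Finite.of_injective L' ((injective_iff_map_eq_zero _).2 fun y hy => Subtype.ext
      (hT.sep 2 _ fun i => ⟨t₀, ?_⟩))
    exact congrArg Subtype.val (congrFun hy i)
  obtain ⟨x, hx, hxreg⟩ := exists_regular_of_model L₀ hker₀ hsurj₀ (hT.sep 0) t₁
  obtain ⟨E, hE⟩ := hT.exists_pow_pr_two_le_range_ev₀ (fun c hc => (ht₁ c hc).transfer L₂ hker₂ hsurj₂) hx
    (hT.regular_two hxreg)
  haveI : Module.Finite A hT.lim := hT.lim_finite_of_smul_finite
  -- the limit modulo `f`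
  let B := A ⧸ Ideal.span {f}
  haveI : IsLocalRing B := hloc 0
  letI : Algebra B (S.R 0) := algB 0
  haveI : IsScalarTower A B (S.R 0) := ‹∀ n, IsScalarTower A (A ⧸ S.I n) (S.R n)› 0
  let C := hT.lim
  let C₀ := B ⊗[A] C
  let ψ : C₀ →ₐ[B] S.R 0 :=
    Algebra.TensorProduct.lift (Algebra.ofId B (S.R 0)) hT.ev₀ fun _ _ => Commute.all _ _
  have hψ : ∀ c : C, ψ (1 ⊗ₜ c) = hT.ev₀ c := fun c => by
    rw [Algebra.TensorProduct.lift_tmul, map_one, one_mul]
  have hψiso : ∀ b ∈ maximalIdeal B, IsoAway ψ b := by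
    intro b hb
    obtain ⟨a, rfl⟩ := Ideal.Quotient.mk_surjective b
    have ha : a ∈ maximalIdeal A := by
      rw [mem_maximalIdeal, mem_nonunits_iff] at hb ⊢
      exact fun h => hb (h.map _)
    refine ⟨fun z => ?_, fun x hx => ⟨0, ?_⟩⟩
    · have hz : ∀ i, ∃ N : ℕ, g i ^ N • z ∈ LinearMap.range ((S.π 0).toLinearMap ∘ₗ (S.π 1).toLinearMap) := fun i => by
        obtain ⟨k, y, hy⟩ := hT.surj 0 i z
        obtain ⟨k', y', hy'⟩ := hT.surj 1 i y
        refine ⟨k' + k, y', ?_⟩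
        show S.π 0 (S.π 1 y') = _
        rw [hy', map_smul, hy, smul_smul, pow_add]
      obtain ⟨N, hN⟩ := exists_pow_of_radical
        (P := fun c => c • z ∈ LinearMap.range ((S.π 0).toLinearMap ∘ₗ (S.π 1).toLinearMap))
        (by rw [zero_smul]; exact zero_mem _) (fun a b ha hb => by rw [add_smul]; exact add_mem ha hb)
        (fun r a h => by rw [mul_smul]; exact Submodule.smul_mem _ r h) g hz
      obtain ⟨y, hy⟩ := hN (a ^ N) (Ideal.pow_mem_pow (hg ▸ ha) N)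
      obtain ⟨s, hs⟩ := hE (a ^ E) (Ideal.pow_mem_pow (hg ▸ ha) E) y
      refine ⟨E + N, (1 : B) ⊗ₜ[A] s, ?_⟩
      rw [hψ, hs, ← map_pow, ← Ideal.Quotient.algebraMap_eq, algebraMap_smul, pow_add, mul_smul,
        show a ^ N • z = _ from hy.symm]
      rfl
    · obtain ⟨c, hc⟩ := TensorProduct.mk_surjective A C B Ideal.Quotient.mk_surjective x
      have hc' : hT.ev₀ c = 0 := by rw [← hψ, ← hx]; exact congrArg ψ hc
      obtain ⟨d, hd⟩ := hT.exists_smul_of_ev₀_eq_zero hc'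
      rw [pow_zero, one_smul, ← hc, ← hd, TensorProduct.mk_apply, TensorProduct.tmul_smul,
        ← algebraMap_smul B, Ideal.Quotient.algebraMap_eq,
        Ideal.Quotient.eq_zero_iff_mem.2 (Ideal.mem_span_singleton_self f), zero_smul]
  -- a finite algebra of functions containing both models
  let φB : D₀ →ₐ[B] S.R 0 := φ₀
  let R' : Subalgebra B (S.R 0) := φB.range ⊔ ψ.range
  haveI : Module.Finite B φB.range := Module.Finite.of_surjective φB.rangeRestrict.toLinearMap φB.rangeRestrict_surjective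
  haveI : Module.Finite B ψ.range := Module.Finite.of_surjective ψ.rangeRestrict.toLinearMap ψ.rangeRestrict_surjective
  haveI : Module.Finite B R' := Subalgebra.finite_sup _ _
  let φ' : D₀ →ₐ[B] R' := φB.codRestrict R' fun d => (le_sup_left : _ ≤ R') ⟨d, rfl⟩
  let ψ' : C₀ →ₐ[B] R' := ψ.codRestrict R' fun d => (le_sup_right : _ ≤ R') ⟨d, rfl⟩
  have hφ' : ∀ b ∈ maximalIdeal B, IsoAway φ' b := fun b hb =>
    ⟨fun z => let ⟨k, c, hc⟩ := (hφ₀ b hb).1 z.1; ⟨k, c, Subtype.ext hc⟩,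
      fun c hc => (hφ₀ b hb).2 c (congrArg Subtype.val hc)⟩
  have hψ' : ∀ b ∈ maximalIdeal B, IsoAway ψ' b := by
    intro b hb
    refine ⟨fun z => ?_, fun c hc => ?_⟩
    · obtain ⟨k, c, hc⟩ := (hψiso b hb).1 z.1
      exact ⟨k, c, Subtype.ext hc⟩
    · exact (hψiso b hb).2 c (congrArg Subtype.val hc)
  have hR' : EtOff B R' := fun b hb => etAway_of_isoAway' (hφ' b hb) (hD₀ b hb)
  have hC₀ : EtOff B C₀ := fun b hb => PuritySch.etAway_of_isoAway (hψ' b hb) (hR' b hb)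
  exact ⟨C, inferInstance, inferInstance, inferInstance, fun c hc => hT.regular hc, hC₀, R', inferInstance,
    inferInstance, inferInstance, hR', φ', ψ', hφ', hψ'⟩

end Groth.Agent.PurX
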