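import Groth.Agent.PurX.FFCriterion
import Groth.Agent.PurX.ThickBottom
import Groth.Agent.PurX.ThickPro

/-!
# Clopens separate near the punctured hypersurface when `H¹` of the hypersurface is finite
-/

set_option autoImplicit false
set_option linter.style.haveILetI false
set_option linter.unusedSectionVars false

universe u

open CategoryTheory CategoryTheory.Limits AlgebraicGeometry IsLocalRing TensorProduct
open Groth.Agent.Pi1Ext Groth.Agent.Pi1Ext.RegPurity

set_option backward.isDefEq.respectTransparency false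

noncomputable section

namespace Groth.Agent.PurX

variable {A : Type u} [CommRing A] [IsLocalRing A] [IsNoetherianRing A] {f : A}

/-- Clopens separate when `H¹` of the hypersurface is finite. -/
theorem sepNear_of_H1_finite (hf : f ∈ maximalIdeal A) [IsAdicComplete (Ideal.span {f}) A]
    (hnz : f ∈ nonZeroDivisors A) (h1 : Module.Finite A (LocCoh.H (maximalIdeal A) 1 (A ⧸ Ideal.span {f})))
    {U' : (Spec (CommRingCat.of A)).Opens} (hU' : U' ≤ FEt.puncturedSpec A)
    (hcov : ∀ p : PrimeSpectrum A, f ∈ p.asIdeal → p ≠ closedPoint A → p ∈ U')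
    (W : FEt.Cat (U' : Scheme.{u})) : SepNear f W := by
  obtain ⟨n, g, hg⟩ := exists_gens (maximalIdeal A)
  haveI : Nontrivial (A ⧸ Ideal.span {f}) := Ideal.Quotient.nontrivial_iff.2
    fun h => (maximalIdeal.isMaximal A).ne_top (top_le_iff.1 (h ▸ (Ideal.span_singleton_le_iff_mem _).2 hf))
  haveI : IsLocalRing (A ⧸ Ideal.span {f}) := IsLocalRing.of_surjective' _ Ideal.Quotient.mk_surjective
  let V₀ : FEt.Cat (thickU f 0) := (FEt.restrict (thickW f hcov 0)).obj W
  letI : Algebra (A ⧸ Ideal.span {f}) ((thickSystem f V₀).R 0) := (struct ((thickSystem f V₀).s 0)).hom.toAlgebra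
  obtain ⟨-, hfin, -⟩ := bottom_facts f hg hnz V₀ rfl h1
  let S := restrSystem f hcov W
  let hS := S.isTower hg hnz
  haveI : Module.Finite A (S.R 0) := hfin
  haveI : Module.Finite A hS.lim := hS.lim_finite
  exact sepNear_of_separates hU' (thickW f hcov 0) (thickW_ι f hcov 0) W (separates_of_finite f hcov W hg hU' hnz)

/-- Clopens separate when `c * f` kills the first Čech group of `A ⧸ f³` for `c` in a power of the maximal ideal. -/
theorem sepNear_of_H0Killed (hf : f ∈ maximalIdeal A) [IsAdicComplete (Ideal.span {f}) A]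
    (hnz : f ∈ nonZeroDivisors A) {m : ℕ} {g : Fin m → A} (hg : Ideal.span (Set.range g) = maximalIdeal A) {T : ℕ}
    (h1 : ∀ l, H0Killed g (A ⧸ Ideal.span {f ^ 3}) (g l ^ T * f))
    {U' : (Spec (CommRingCat.of A)).Opens} (hU' : U' ≤ FEt.puncturedSpec A)
    (hcov : ∀ p : PrimeSpectrum A, f ∈ p.asIdeal → p ≠ closedPoint A → p ∈ U')
    (W : FEt.Cat (U' : Scheme.{u})) : SepNear f W := by
  classical
  haveI hloc : IsLocalRing (A ⧸ thickIdeal f 2) := by
    haveI : Nontrivial (A ⧸ thickIdeal f 2) := Ideal.Quotient.nontrivial_iff.2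
      fun h => (maximalIdeal.isMaximal A).ne_top (top_le_iff.1 (h ▸ by
        rw [thickIdeal_eq, Ideal.span_singleton_le_iff_mem]
        exact Ideal.pow_mem_of_mem _ hf _ (Nat.succ_pos _)))
    exact IsLocalRing.of_surjective' _ Ideal.Quotient.mk_surjective
  let S := restrSystem f hcov W
  let hS := S.isTower hg hnz
  let B := A ⧸ thickIdeal f 2
  letI algB : Algebra B (S.R 2) := (struct (S.s 2)).hom.toAlgebra
  haveI : IsScalarTower A B (S.R 2) := IsScalarTower.of_algebraMap_eq fun a => by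
    have h : struct (S.T 2) = CommRingCat.ofHom (algebraMap A B) ≫ struct (S.s 2) := by
      rw [← struct_comp_spec]
      exact congrArg struct (S.fac 2).symm
    rw [ThickSystem.algebraMap_eq, h]
    rfl
  let V₂ : FEt.Cat (thickU f 2) := (FEt.restrict (thickW f hcov 2)).obj W
  letI : Algebra B Γ(V₂.left, ⊤) := algB
  obtain ⟨D₂, _, _, _, hD₂, φ₂, hφ₂⟩ := exists_model (thickIdeal f 2) V₂ (halg := rfl)
  letI : Algebra A D₂ := Algebra.compHom D₂ (algebraMap A B)
  haveI : IsScalarTower A B D₂ := IsScalarTower.of_algebraMap_eq fun _ => rfl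
  haveI : Module.Finite A D₂ := Module.Finite.trans B D₂
  let φ₂' : D₂ →ₐ[B] S.R 2 := φ₂
  have hφ₂' : ∀ b ∈ maximalIdeal B, IsoAway φ₂' b := hφ₂
  let L₂ : D₂ →ₗ[A] S.R 2 := (φ₂'.restrictScalars A).toLinearMap
  have hgm : ∀ i, algebraMap A B (g i) ∈ maximalIdeal B := fun i => by
    haveI : IsLocalHom (algebraMap A B) := Function.Surjective.isLocalHom _ Ideal.Quotient.mk_surjective
    rw [mem_maximalIdeal, mem_nonunits_iff]
    exact fun h => (show g i ∈ maximalIdeal A from hg ▸ Ideal.subset_span ⟨i, rfl⟩) (IsLocalHom.map_nonunit _ h)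
  have hker₂ : ∀ m, L₂ m = 0 → ∀ i, ∃ q : ℕ, g i ^ q • m = 0 := fun m hm i => by
    obtain ⟨k, hk⟩ := (hφ₂' _ (hgm i)).2 m hm
    exact ⟨k, by rw [← algebraMap_smul B, map_pow]; exact hk⟩
  have hsurj₂ : ∀ (z : S.R 2) i, ∃ (q : ℕ) (m : D₂), g i ^ q • z = L₂ m := fun z i => by
    obtain ⟨k, m, hm⟩ := (hφ₂' _ (hgm i)).1 z
    exact ⟨k, m, by rw [← algebraMap_smul B, map_pow]; exact hm⟩
  obtain ⟨t₀, ht₀⟩ := (exists_pow_killed_model_smul (f := f) hg (thickIdeal f 2) D₂ hD₂ (T := T)).1 h1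
  haveI : Module.Finite A (LinearMap.range (LinearMap.lsmul A (S.R 2) f)) := by
    have hmem : ∀ (y : LinearMap.range (LinearMap.lsmul A (S.R 2) f)) i, g i ^ t₀ • (y : S.R 2) ∈ LinearMap.range L₂ := by
      rintro ⟨_, z, rfl⟩ i
      obtain ⟨m, hm⟩ := (ht₀ (g i ^ t₀) (Ideal.pow_mem_pow (Ideal.subset_span (Set.mem_range_self i)) t₀)).smul_mem_range
        L₂ hker₂ hsurj₂ (hS.sep 2) z
      exact ⟨m, by rw [hm, mul_smul]; rfl⟩
    let L' : LinearMap.range (LinearMap.lsmul A (S.R 2) f) →ₗ[A] (Fin m → LinearMap.range L₂) :=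
      LinearMap.pi fun i => ((g i ^ t₀ • LinearMap.id) ∘ₗ Submodule.subtype _).codRestrict _ fun y => hmem y i
    refine Module.Finite.of_injective L' ((injective_iff_map_eq_zero _).2 fun y hy => Subtype.ext
      (hS.sep 2 _ fun i => ⟨t₀, ?_⟩))
    exact congrArg Subtype.val (congrFun hy i)
  haveI : Module.Finite A hS.lim := hS.lim_finite_of_smul_finite
  exact sepNear_of_separates hU' (thickW f hcov 0) (thickW_ι f hcov 0) W (separates_of_finite f hcov W hg hU' hnz)

/-- Separation over `V(f ^ P)` is separation over `V(f)`. -/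
theorem sepNear_pow_iff {P : ℕ} (hP : 0 < P) {U' : (Spec (CommRingCat.of A)).Opens} (W : FEt.Cat (U' : Scheme.{u})) :
    SepNear (f ^ P) W ↔ SepNear f W := by
  have e : ∀ p : PrimeSpectrum A, f ^ P ∈ p.asIdeal ↔ f ∈ p.asIdeal := fun p =>
    ⟨fun h => p.isPrime.mem_of_pow_mem P h, fun h => Ideal.pow_mem_of_mem _ h _ hP⟩
  simp only [SepNear, e]

end Groth.Agent.PurX
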