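import Groth.Agent.PurX.TowerH1
import Mathlib.Algebra.Algebra.Pi
import Mathlib.Algebra.Algebra.Subalgebra.Basic

/-!
# Formal systems of algebras off a closed set

The limit is a finite algebra; idempotents of the bottom lift to it.
-/

set_option autoImplicit false
set_option linter.unusedSectionVars false
set_option linter.style.haveILetI false

universe u

namespace Groth.Agent.PurX

variable {A : Type u} [CommRing A] {ι : Type} {g : ι → A} {f : A}
  {R : ℕ → Type u} [∀ n, CommRing (R n)] [∀ n, Algebra A (R n)] {π : ∀ n, R (n + 1) →ₐ[A] R n}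

/-- The axioms of a formal system of algebras off `V(g)`. -/
structure IsTower (g : ι → A) (f : A) (R : ℕ → Type u) [∀ n, CommRing (R n)] [∀ n, Algebra A (R n)]
    (π : ∀ n, R (n + 1) →ₐ[A] R n) : Prop where
  nil : ∀ n (x : R n), f ^ (n + 1) • x = 0
  sep : ∀ n (x : R n), (∀ i, ∃ k : ℕ, g i ^ k • x = 0) → x = 0
  glue : ∀ n, H0Killed g (R n) 1
  surj : ∀ n i (x : R n), ∃ (k : ℕ) (y : R (n + 1)), π n y = g i ^ k • x
  ker : ∀ n i (y : R (n + 1)), π n y = 0 → ∃ (k : ℕ) (z : R (n + 1)), g i ^ k • y = f ^ (n + 1) • z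
  ann : ∀ n i (y : R (n + 1)), f • y = 0 → ∃ (k : ℕ) (z : R (n + 1)), g i ^ k • y = f ^ (n + 1) • z

namespace IsTower

variable (h : IsTower g f R π)

/-- The underlying system of modules. -/
abbrev toTower : Tower g f where
  M := R
  π n := (π n).toLinearMap
  nil := h.nil
  sep := h.sep
  glue := h.glue
  surj := h.surj
  ker := h.ker
  ann := h.ann

/-- The limit algebra. -/
def lim (_ : IsTower g f R π) : Subalgebra A (∀ n, R n) where
  carrier := {s | ∀ n, π n (s (n + 1)) = s n}
  mul_mem' ha hb n := by simp [ha n, hb n]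
  one_mem' n := by simp
  add_mem' ha hb n := by simp [ha n, hb n]
  zero_mem' n := by simp
  algebraMap_mem' r n := by simp

/-- Evaluation at the bottom. -/
def ev₀ : h.lim →ₐ[A] R 0 := (Pi.evalAlgHom A R 0).comp h.lim.val

/-- The limit algebra and the limit module agree. -/
def limEquiv : h.toTower.Lim ≃ₗ[A] h.lim where
  toFun s := ⟨s.1, s.2⟩
  invFun s := ⟨s.1, s.2⟩
  map_add' _ _ := rfl
  map_smul' _ _ := rfl

variable [Fintype ι] [IsNoetherianRing A]

theorem lim_finite [IsPrecomplete (Ideal.span {f}) A] [Module.Finite A (R 0)] : Module.Finite A h.lim :=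
  haveI : Module.Finite A (h.toTower.M 0) := inferInstanceAs (Module.Finite A (R 0))
  haveI := h.toTower.lim_finite
  Module.Finite.equiv h.limEquiv

theorem regular {s : h.lim} (hs : f • s = 0) : s = 0 := by
  have h1 : f • h.limEquiv.symm s = 0 := by rw [← map_smul, hs, map_zero]
  simpa using congrArg h.limEquiv (h.toTower.lim_regular h1)

theorem exists_smul_of_ev₀_eq_zero {s : h.lim} (hs : h.ev₀ s = 0) : ∃ t : h.lim, f • t = s := by
  obtain ⟨t, ht⟩ := h.toTower.exists_smul_of_ev_eq_zero (s := h.limEquiv.symm s) hs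
  exact ⟨h.limEquiv t, by rw [← map_smul, ht, LinearEquiv.apply_symm_apply]⟩

theorem ev₀_f_smul (s : h.lim) : h.ev₀ (f • s) = 0 := by
  rw [map_smul]
  simpa using h.nil 0 (h.ev₀ s)

theorem exists_pow_le_range_ev₀ [Module.Finite A (R 0)] {t : ℕ}
    (hH1 : ∀ c ∈ Ideal.span (Set.range g) ^ t, H1Killed g (R 0) c) :
    ∃ E : ℕ, ∀ c ∈ Ideal.span (Set.range g) ^ E, ∀ z : R 0, ∃ s : h.lim, h.ev₀ s = c • z := by
  haveI : Module.Finite A (h.toTower.M 0) := inferInstanceAs (Module.Finite A (R 0))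
  obtain ⟨E, hE⟩ := h.toTower.exists_pow_le_range_ev hH1
  refine ⟨E, fun c hc z => ?_⟩
  obtain ⟨s, hs⟩ := hE c hc z
  exact ⟨h.limEquiv s, hs⟩

include h in
/-- Idempotents lift one step. -/
theorem exists_idem_lift (n : ℕ) (e : R n) (he : e * e = e) : ∃ ε, π n ε = e ∧ ε * ε = ε := by
  classical
  choose k y hy using fun i => h.surj n i e
  let K := ∑ i, k i
  let G : ι → R (n + 1) := fun i => algebraMap A _ (g i ^ K)
  let Y : ι → R (n + 1) := fun i => algebraMap A _ (g i ^ (K - k i)) * y i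
  have hY : ∀ i, π n (Y i) = algebraMap A _ (g i ^ K) * e := fun i => by
    simp only [Y]
    rw [map_mul, AlgHom.commutes, hy, Algebra.smul_def, ← mul_assoc, ← map_mul, ← pow_add,
      Nat.sub_add_cancel (Finset.single_le_sum (f := k) (fun _ _ => Nat.zero_le _) (Finset.mem_univ i))]
  have hsq : ∀ z, π n z = 0 → z * z = 0 := fun z hz => h.sep _ _ fun i => by
    obtain ⟨p, w, hw⟩ := h.ker n i z hz
    refine ⟨p + p, ?_⟩
    rw [pow_add, ← smul_mul_smul_comm, hw, smul_mul_smul_comm, ← pow_add,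
      show n + 1 + (n + 1) = n + (n + 1 + 1) by omega, pow_add, mul_smul, h.nil, smul_zero]
  clear_value Y
  -- numerators of the local idempotents
  let Z : ι → R (n + 1) := fun i => 3 * G i * Y i ^ 2 - 2 * Y i ^ 3
  have hGπ : ∀ i, π n (G i) = algebraMap A _ (g i ^ K) := fun i => AlgHom.commutes _ _
  have hZπ : ∀ i, π n (Z i) = algebraMap A _ (g i ^ (3 * K)) * e := fun i => by
    have e2 : e ^ 2 = e := by rw [sq, he]
    simp only [Z, map_sub, map_mul, map_pow, map_ofNat, hGπ, hY, mul_pow, pow_succ e 2, e2, he,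
      show g i ^ (3 * K) = (g i ^ K) ^ 3 by rw [← pow_mul, mul_comm]]
    ring
  have hZidem : ∀ i, Z i * Z i = G i ^ 3 * Z i := fun i => by
    have hu : (Y i * Y i - G i * Y i) * (Y i * Y i - G i * Y i) = 0 := hsq _ (by
      rw [map_sub, map_mul, map_mul, hY, hGπ]
      linear_combination (algebraMap A (R n) (g i ^ K)) ^ 2 * he)
    simp only [Z]
    linear_combination (4 * Y i ^ 2 - 4 * G i * Y i - 3 * G i ^ 2) * hu
  let c : ι → ι → R (n + 1) := fun i j => G j ^ 3 * Z i - G i ^ 3 * Z j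
  have hc : ∀ i j, (G i ^ 3 * G j ^ 3) ^ 2 * c i j = 0 := fun i j => by
    have h2 : c i j * c i j = 0 := hsq _ (by
      simp only [c, map_sub, map_mul, map_pow, hGπ, hZπ, show ∀ l, g l ^ (3 * K) = (g l ^ K) ^ 3 from fun l => by
        rw [← pow_mul, mul_comm]]
      ring)
    have hi := hZidem i
    have hj := hZidem j
    have h3 : c i j ^ 3 = (G i ^ 3 * G j ^ 3) ^ 2 * c i j := by
      simp only [c]
      linear_combination (G j ^ 9 * Z i + G i ^ 3 * G j ^ 9 - 3 * G j ^ 6 * G i ^ 3 * Z j) * hi +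
        (-G i ^ 9 * Z j - G j ^ 3 * G i ^ 9 + 3 * G i ^ 6 * G j ^ 3 * Z i) * hj
    rw [← h3, pow_succ, sq, h2, zero_mul]
  obtain ⟨ε, p, hε⟩ := h.glue (n + 1) (9 * K) (fun i => algebraMap A _ (g i ^ (6 * K)) * Z i) fun i j => by
    simp only [Algebra.smul_def]
    have := hc i j
    simp only [c, G] at this
    rw [← sub_eq_zero, ← this]
    simp only [map_pow]
    ring
  simp only [one_smul] at hε
  refine ⟨ε, ?_, ?_⟩
  · rw [← sub_eq_zero]
    refine h.sep n _ fun i => ⟨9 * K + p, ?_⟩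
    have := congrArg (π n) (hε i)
    simp only [map_smul, map_mul, AlgHom.commutes, hZπ, Algebra.smul_def, map_pow] at this
    rw [smul_sub, sub_eq_zero, Algebra.smul_def, Algebra.smul_def, map_pow, ← this]
    ring
  · rw [← sub_eq_zero]
    refine h.sep _ _ fun i => ⟨9 * K + p + (9 * K + p), ?_⟩
    have hh := hε i
    simp only [Algebra.smul_def, map_pow] at hh
    have hz := hZidem i
    simp only [G, map_pow] at hz
    rw [smul_sub, sub_eq_zero, Algebra.smul_def, Algebra.smul_def, map_pow]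
    linear_combination (-(algebraMap A (R (n + 1)) (g i) ^ (9 * K + p) * ε) -
        algebraMap A (R (n + 1)) (g i) ^ p * (algebraMap A (R (n + 1)) (g i) ^ (6 * K) * Z i) +
        algebraMap A (R (n + 1)) (g i) ^ (9 * K + p)) * hh +
      algebraMap A (R (n + 1)) (g i) ^ (2 * p + 12 * K) * hz

/-- Idempotents of the bottom lift to the limit. -/
theorem exists_idem_lim (e : R 0) (he : e * e = e) : ∃ ε : h.lim, h.ev₀ ε = e ∧ ε * ε = ε := by
  choose lift hlift hidem using fun n e he => h.exists_idem_lift n e he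
  let s : ∀ n, {x : R n // x * x = x} := fun n =>
    Nat.rec (motive := fun n => {x : R n // x * x = x}) ⟨e, he⟩ (fun m x => ⟨lift m x.1 x.2, hidem m x.1 x.2⟩) n
  exact ⟨⟨fun n => (s n).1, fun n => hlift n _ _⟩, rfl, Subtype.ext (funext fun n => (s n).2)⟩

end IsTower

end Groth.Agent.PurX
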