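import Groth.Agent.PurX.TowerPro
import Groth.Agent.PurX.TowerRing

/-!
# Formal systems of algebras when the bottom may be infinite
-/

set_option autoImplicit false
set_option linter.unusedSectionVars false
set_option linter.style.haveILetI false

universe u

namespace Groth.Agent.PurX

variable {A : Type u} [CommRing A] {ι : Type} {g : ι → A} {f : A} [Fintype ι]

theorem Tower.lim_finite_of_smul_finite [IsNoetherianRing A] [IsPrecomplete (Ideal.span {f}) A] (T : Tower g f)
    [Module.Finite A (LinearMap.range (LinearMap.lsmul A (T.M 2) f))] : Module.Finite A T.Lim := by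
  refine T.lim_finite_of_fg ?_
  have hmem : ∀ y : LinearMap.range (T.ev 0), T.ν 2 y ∈ LinearMap.range (LinearMap.lsmul A (T.M 2) f) := by
    rintro ⟨_, s, rfl⟩
    refine ⟨f • T.ev 2 s, ?_⟩
    show f • f • T.ev 2 s = T.ν 2 (T.ev 0 s)
    rw [smul_smul, ← sq, T.pow_smul, T.pr_ev]
  exact Module.Finite.iff_fg.1 (Module.Finite.of_injective
    ((T.ν 2 ∘ₗ (LinearMap.range (T.ev 0)).subtype).codRestrict _ hmem)
    fun y y' h => Subtype.ext (T.ν_injective 2 (congrArg Subtype.val h)))

namespace IsTower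

variable {R : ℕ → Type u} [∀ n, CommRing (R n)] [∀ n, Algebra A (R n)] {π : ∀ n, R (n + 1) →ₐ[A] R n}
  (h : IsTower g f R π) [IsNoetherianRing A] [Module.Finite A (LinearMap.range (LinearMap.lsmul A (R 2) f))]

theorem lim_finite_of_smul_finite [IsPrecomplete (Ideal.span {f}) A] : Module.Finite A h.lim :=
  haveI : Module.Finite A (LinearMap.range (LinearMap.lsmul A (h.toTower.M 2) f)) := ‹_›
  haveI := h.toTower.lim_finite_of_smul_finite
  Module.Finite.equiv h.limEquiv

theorem exists_pow_pr_two_le_range_ev₀ {t : ℕ}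
    (hH1 : ∀ c ∈ Ideal.span (Set.range g) ^ t, H1Killed g (R 2) (c * f))
    {x : A} (hx : x ∈ Ideal.span (Set.range g) ^ t) (hreg : ∀ z : R 2, x • z = 0 → z = 0) :
    ∃ E : ℕ, ∀ c ∈ Ideal.span (Set.range g) ^ E, ∀ z : R 2, ∃ s : h.lim, h.ev₀ s = c • π 0 (π 1 z) := by
  haveI : Module.Finite A (LinearMap.range (LinearMap.lsmul A (h.toTower.M 2) f)) := ‹_›
  obtain ⟨E, hE⟩ := h.toTower.exists_pow_pr_two_le_range_ev hH1 hx hreg
  refine ⟨E, fun c hc z => ?_⟩
  obtain ⟨s, hs⟩ := hE c hc z
  exact ⟨h.limEquiv s, hs⟩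

include h in
/-- An element acting injectively on the bottom acts injectively at level two. -/
theorem regular_two {x : A} (hreg : ∀ z : R 0, x • z = 0 → z = 0) (z : R 2) (hz : x • z = 0) : z = 0 := by
  have key : ∀ (n : ℕ) (z : h.toTower.M n), x • z = 0 → z = 0 := by
    intro n
    induction n with
    | zero => exact hreg
    | succ n ih =>
      intro z hz
      obtain ⟨w, rfl⟩ := h.toTower.exists_μ_of_pr_eq_zero n z
        (hreg _ (by rw [← map_smul, hz, map_zero]))
      rw [ih w (h.toTower.μ_injective n (by rw [map_smul, hz, map_zero])), map_zero]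
  exact key 2 z hz

end IsTower

end Groth.Agent.PurX
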