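import Groth.Agent.PurX.ThickCover
import Groth.Agent.PurX.TowerRingPro
import Groth.Agent.HensCouple7.Gamma

/-!
# Clopen subsets of covers near the punctured hypersurface extend to a neighbourhood
-/

set_option autoImplicit false
set_option linter.style.haveILetI false
set_option linter.unusedSectionVars false

universe u

open CategoryTheory CategoryTheory.Limits AlgebraicGeometry TensorProduct IsLocalRing

set_option backward.isDefEq.respectTransparency false

noncomputable section

namespace Groth.Agent.PurX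

/-- A finite module with `N = f N` locally at a prime containing `f` vanishes near that prime. -/
theorem exists_notMem_smul_eq_zero {A : Type u} [CommRing A] {f : A} (q : Ideal A) [q.IsPrime] (hf : f ∈ q)
    (N : Type u) [AddCommGroup N] [Module A N] [Module.Finite A N]
    (h : ∀ x : N, ∃ s, s ∉ q ∧ ∃ y, s • x = f • y) : ∃ s, s ∉ q ∧ ∀ x : N, s • x = 0 := by
  classical
  choose s hs y hy using h
  obtain ⟨G, hG⟩ := (Module.Finite.fg_top : (⊤ : Submodule A N).FG)
  let s₀ := ∏ x ∈ G, s x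
  have hs₀ : s₀ ∉ q := fun hmem => by
    obtain ⟨x, -, hx⟩ := Ideal.IsPrime.prod_mem_iff.1 hmem
    exact hs x hx
  obtain ⟨p, hmonic, -, hpc, hp⟩ := LinearMap.exists_monic_and_natDegree_eq_and_coeff_mem_pow_and_aeval_eq_zero
    A (LinearMap.lsmul A N s₀) (I := Ideal.span {f}) (by
      rintro _ ⟨x, rfl⟩
      have hx : x ∈ Submodule.span A (G : Set N) := hG.ge trivial
      show s₀ • x ∈ _
      induction hx using Submodule.span_induction with
      | mem x hx =>
        obtain ⟨r, hr⟩ : s x ∣ s₀ := Finset.dvd_prod_of_mem s hx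
        rw [hr, mul_comm, mul_smul, hy]
        exact Submodule.smul_mem _ _ (Submodule.smul_mem_smul (Ideal.mem_span_singleton_self f) trivial)
      | zero => rw [smul_zero]; exact zero_mem _
      | add x y _ _ hx hy => rw [smul_add]; exact add_mem hx hy
      | smul r x _ hx => rw [smul_comm]; exact Submodule.smul_mem _ r hx)
  refine ⟨p.eval s₀, fun hmem => hs₀ ?_, fun x => ?_⟩
  · rw [Polynomial.eval_eq_sum_range, Finset.sum_range_succ] at hmem
    have hlow : ∑ i ∈ Finset.range p.natDegree, p.coeff i * s₀ ^ i ∈ q := by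
      refine Ideal.sum_mem _ fun i hi => Ideal.mul_mem_right _ _ ?_
      obtain ⟨c, hc⟩ := Ideal.mem_span_singleton'.1 (Ideal.pow_le_self (Nat.sub_pos_of_lt (Finset.mem_range.1 hi)).ne' (hpc i))
      exact hc ▸ Ideal.mul_mem_left _ _ hf
    have := (Ideal.add_mem_iff_right _ hlow).1 hmem
    rw [hmonic.coeff_natDegree, one_mul] at this
    exact Ideal.IsPrime.mem_of_pow_mem inferInstance _ this
  · have := LinearMap.congr_fun hp x
    rw [show LinearMap.lsmul A N s₀ = algebraMap A (Module.End A N) s₀ from rfl,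
      Polynomial.aeval_algebraMap_apply_eq_algebraMap_eval] at this
    simpa using this

/-- Functions vanishing on the preimage of a principal closed subscheme of an affine piece are multiples. -/
theorem exists_of_appLE_eq_zero' {A : Type u} [CommRing A] (f : A) {X Y : Scheme.{u}} {j : Y ⟶ X}
    {s : Y ⟶ Spec (CommRingCat.of (A ⧸ Ideal.span {f}))} {T : X ⟶ Spec (CommRingCat.of A)}
    (H : IsPullback j s T (Spec.map (CommRingCat.ofHom (Ideal.Quotient.mk (Ideal.span {f})))))
    {P : X.Opens} (hP : IsAffineOpen P) (w : Γ(X, P)) (hw : j.appLE P (j ⁻¹ᵁ P) le_rfl w = 0) :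
    ∃ d, w = X.presheaf.map (homOfLE (le_top : P ≤ ⊤)).op (struct T f) * d := by
  let I := Ideal.span {f}
  let Q := Γ(X, P)
  let q := Spec.map (CommRingCat.ofHom (Ideal.Quotient.mk I))
  have hUY : j ⁻¹ᵁ P = j ⁻¹ᵁ P ⊓ s ⁻¹ᵁ ⊤ := by simp
  have hpo := (isIso_pushoutSection_iff H (US := ⊤) (UT := ⊤) (UX := P) (UY := j ⁻¹ᵁ P)
    le_top le_top hUY).1 (isIso_pushoutSection_of_isAffineOpen H _ _ hUY
      (isAffineOpen_top _) (isAffineOpen_top _) hP)
  let φ : A →+* Q := ((X.presheaf.map (homOfLE (le_top : P ≤ ⊤)).op).hom).comp (struct T).hom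
  let K : Ideal Q := Ideal.span {φ f}
  let ψ : A ⧸ I →+* Q ⧸ K := Ideal.Quotient.lift I ((Ideal.Quotient.mk K).comp φ) (by
    intro x hx
    obtain ⟨b, rfl⟩ := Ideal.mem_span_singleton'.1 hx
    rw [RingHom.comp_apply, Ideal.Quotient.eq_zero_iff_mem, map_mul]
    exact Ideal.mul_mem_left _ _ (Ideal.mem_span_singleton_self _))
  have hφ : T.appLE ⊤ P le_top = (Scheme.ΓSpecIso (CommRingCat.of A)).hom ≫ CommRingCat.ofHom φ := by
    rw [← cancel_epi (Scheme.ΓSpecIso (CommRingCat.of A)).inv, Iso.inv_hom_id_assoc]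
    rfl
  have hq : q.appLE ⊤ ⊤ le_top = (Scheme.ΓSpecIso (CommRingCat.of A)).hom ≫
      CommRingCat.ofHom (Ideal.Quotient.mk I) ≫ (Scheme.ΓSpecIso (CommRingCat.of (A ⧸ I))).inv := by
    rw [← Scheme.ΓSpecIso_naturality_assoc, Iso.hom_inv_id, Category.comp_id, Scheme.Hom.appTop,
      Scheme.Hom.app_eq_appLE]
    rfl
  have hw' : T.appLE ⊤ P le_top ≫ CommRingCat.ofHom (Ideal.Quotient.mk K) =
      q.appLE ⊤ ⊤ le_top ≫ (Scheme.ΓSpecIso (CommRingCat.of (A ⧸ I))).hom ≫ CommRingCat.ofHom ψ := by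
    rw [hφ, hq]
    simp only [Category.assoc, Iso.inv_hom_id_assoc]
    congr 1
  have hd := congr($(hpo.inl_desc (CommRingCat.ofHom (Ideal.Quotient.mk K))
    ((Scheme.ΓSpecIso (CommRingCat.of (A ⧸ I))).hom ≫ CommRingCat.ofHom ψ) hw') w)
  rw [CommRingCat.comp_apply, hw, map_zero] at hd
  have hmem : w ∈ K := Ideal.Quotient.eq_zero_iff_mem.1 hd.symm
  rw [Ideal.mem_span_singleton] at hmem
  exact hmem

/-- A clopen subset of the restriction extends to two disjoint open sets. -/
def Separates {X S : Scheme.{u}} (i : X ⟶ S) (W : FEt.Cat S) : Prop :=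
  ∀ C : Set ↥(pullback W.hom i), IsClopen C → ∃ G H : Set W.left, IsOpen G ∧ IsOpen H ∧ Disjoint G H ∧
    (pullback.fst W.hom i).base ⁻¹' G = C ∧ (pullback.fst W.hom i).base ⁻¹' H = Cᶜ

variable {A : Type u} [CommRing A] [IsLocalRing A]

/-- A thickened punctured hypersurface lies in every open containing the punctured hypersurface. -/
theorem range_thickU_subset {f : A} {U' : (Spec (CommRingCat.of A)).Opens}
    (hcov : ∀ p : PrimeSpectrum A, f ∈ p.asIdeal → p ≠ closedPoint A → p ∈ U') (n : ℕ) :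
    Set.range (pullback.fst (FEt.puncturedSpec A).ι (thickSpec f n) ≫ (FEt.puncturedSpec A).ι).base ⊆
      Set.range U'.ι.base := by
  rw [Scheme.Opens.range_ι]
  rintro _ ⟨x, rfl⟩
  refine hcov _ ?_ (pullback.fst (FEt.puncturedSpec A).ι (thickSpec f n) x).2
  have h : (pullback.fst (FEt.puncturedSpec A).ι (thickSpec f n) ≫ (FEt.puncturedSpec A).ι) x ∈
      Set.range (thickSpec f n).base :=
    ⟨pullback.snd (FEt.puncturedSpec A).ι (thickSpec f n) x, congrArg
      (fun t : thickU f n ⟶ Spec (CommRingCat.of A) => t.base x) pullback.condition.symm⟩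
  have h' : (thickIdeal f n : Set A) ⊆
      ((pullback.fst (FEt.puncturedSpec A).ι (thickSpec f n) ≫ (FEt.puncturedSpec A).ι) x : PrimeSpectrum A).asIdeal := by
    have := range_comap_of_surjective _ _ (Ideal.Quotient.mk_surjective (I := thickIdeal f n)) ▸
      (h : _ ∈ Set.range (PrimeSpectrum.comap (Ideal.Quotient.mk (thickIdeal f n))))
    rwa [Ideal.mk_ker, PrimeSpectrum.mem_zeroLocus] at this
  exact Ideal.IsPrime.mem_of_pow_mem inferInstance (n + 1)
    (h' (by rw [thickIdeal_eq]; exact Ideal.mem_span_singleton_self _))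

variable (f : A) {U' : (Spec (CommRingCat.of A)).Opens}
  (hcov : ∀ p : PrimeSpectrum A, f ∈ p.asIdeal → p ≠ closedPoint A → p ∈ U')

/-- The thickenings in the neighbourhood. -/
def thickW (n : ℕ) : thickU f n ⟶ (U' : Scheme.{u}) :=
  IsOpenImmersion.lift U'.ι _ (range_thickU_subset hcov n)

theorem thickW_ι (n : ℕ) : thickW f hcov n ≫ U'.ι = pullback.fst _ _ ≫ (FEt.puncturedSpec A).ι :=
  IsOpenImmersion.lift_fac _ _ _

theorem thickT_thickW (n : ℕ) : thickT f n ≫ thickW f hcov (n + 1) = thickW f hcov n := by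
  rw [← cancel_mono U'.ι, Category.assoc, thickW_ι, thickW_ι, ← Category.assoc, thickT_fst]

variable (W : FEt.Cat (U' : Scheme.{u}))

/-- The thickenings of a cover of a neighbourhood. -/
def restrSystem : ThickSystem A f where
  I := thickIdeal f
  hI := thickIdeal_eq f
  X n := pullback W.hom (thickW f hcov n)
  v n := pullback.snd _ _ ≫ pullback.fst _ _
  affine n := by
    haveI : IsFinite W.hom := W.prop.1
    infer_instance
  s n := pullback.snd _ _ ≫ pullback.snd _ _
  fac n := by rw [Category.assoc, Category.assoc, pullback.condition]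
  flat n := by
    haveI : Etale W.hom := W.prop.2
    infer_instance
  c n := pullback.lift (pullback.fst _ _) (pullback.snd _ _ ≫ thickT f n)
    (by rw [Category.assoc, thickT_thickW, pullback.condition])
  isPullback n := by
    have h1 : IsPullback (pullback.lift (pullback.fst W.hom (thickW f hcov n)) (pullback.snd _ _ ≫ thickT f n)
        (by rw [Category.assoc, thickT_thickW, pullback.condition]) : pullback W.hom (thickW f hcov n) ⟶
          pullback W.hom (thickW f hcov (n + 1)))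
        (pullback.snd _ _) (pullback.snd W.hom (thickW f hcov (n + 1))) (thickT f n) := by
      refine IsPullback.of_right (h₁₂ := pullback.fst W.hom (thickW f hcov (n + 1))) ?_ (pullback.lift_snd _ _ _)
        (IsPullback.of_hasPullback W.hom (thickW f hcov (n + 1)))
      rw [pullback.lift_fst, thickT_thickW]
      exact IsPullback.of_hasPullback _ _
    simpa only [Category.assoc] using h1.paste_vert (thickT_isPullback f n)

/-- Functions of a cover restrict to the limit. -/
theorem exists_hom_lim [IsNoetherianRing A] {ι : Type} [Fintype ι] {g : ι → A}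
    (hg : Ideal.span (Set.range g) = maximalIdeal A) (hnz : f ∈ nonZeroDivisors A)
    [Algebra A Γ(W.left, ⊤)] (hT : CommRingCat.ofHom (algebraMap A Γ(W.left, ⊤)) = struct (W.hom ≫ U'.ι)) :
    ∃ ρ : Γ(W.left, ⊤) →ₐ[A] ((restrSystem f hcov W).isTower hg hnz).lim,
      ∀ w, ((restrSystem f hcov W).isTower hg hnz).ev₀ (ρ w) = (pullback.fst W.hom (thickW f hcov 0)).appTop w := by
  let S := restrSystem f hcov W
  have hTn : ∀ n, pullback.fst W.hom (thickW f hcov n) ≫ W.hom ≫ U'.ι = S.T n := fun n => by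
    show _ = (pullback.snd W.hom (thickW f hcov n) ≫ pullback.fst _ _) ≫ (FEt.puncturedSpec A).ι
    rw [Category.assoc, ← thickW_ι f hcov n, ← Category.assoc, ← Category.assoc, pullback.condition]
  let ρn : ∀ n, Γ(W.left, ⊤) →ₐ[A] S.R n := fun n =>
    { toRingHom := (pullback.fst W.hom (thickW f hcov n)).appTop.hom
      commutes' := fun a => by
        have h : struct (W.hom ≫ U'.ι) ≫ (pullback.fst W.hom (thickW f hcov n)).appTop = struct (S.T n) := by
          rw [← struct_comp, hTn]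
        rw [← hT] at h
        exact congr($h a) }
  have hπ : ∀ n w, S.π n (ρn (n + 1) w) = ρn n w := fun n w => by
    have h : (pullback.fst W.hom (thickW f hcov (n + 1))).appTop ≫ (S.c n).appTop =
        (pullback.fst W.hom (thickW f hcov n)).appTop := by
      rw [← Scheme.Hom.comp_appTop]
      exact congrArg (fun t : pullback W.hom (thickW f hcov n) ⟶ W.left => t.appTop) (pullback.lift_fst _ _ _)
    exact congr($h w)
  exact ⟨(AlgHom.pi ρn).codRestrict _ (fun w n => hπ n w), fun w => rfl⟩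

variable [IsNoetherianRing A]

set_option maxHeartbeats 800000 in
set_option synthInstance.maxHeartbeats 100000 in
/-- Clopens extend when the limit of the formal system is finite. -/
theorem separates_of_finite {ι : Type} [Fintype ι] {g : ι → A} (hg : Ideal.span (Set.range g) = maximalIdeal A)
    (hU' : U' ≤ FEt.puncturedSpec A) (hnz : f ∈ nonZeroDivisors A)
    [Module.Finite A ((restrSystem f hcov W).isTower hg hnz).lim] : Separates (thickW f hcov 0) W := by
  classical
  intro C hC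
  let S := restrSystem f hcov W
  let hS := S.isTower hg hnz
  let L := hS.lim
  obtain ⟨e, he, heC⟩ := HensCouple7.exists_idempotent_of_isClopen (Y := S.X 0) (U := C) hC
  obtain ⟨ε, hε, hε2⟩ := hS.exists_idem_lim e he
  let X := W.left
  let T : X ⟶ Spec (CommRingCat.of A) := W.hom ≫ U'.ι
  letI : Algebra A Γ(X, ⊤) := (struct T).hom.toAlgebra
  obtain ⟨ρ', hρ'⟩ := exists_hom_lim f hcov W hg hnz rfl
  let ρ : Γ(X, ⊤) →ₐ[A] L := ρ'
  haveI : IsFinite W.hom := W.prop.1
  haveI : CompactSpace (U' : Scheme.{u}) := isCompact_iff_compactSpace.1 (TopologicalSpace.NoetherianSpace.isCompact _)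
  let Wh : X ⟶ (U' : Scheme.{u}) := W.hom
  haveI : IsFinite Wh := W.prop.1
  haveI : CompactSpace X := QuasiCompact.compactSpace_of_compactSpace Wh
  haveI : QuasiSeparatedSpace X := quasiSeparatedSpace_of_quasiSeparated (W.hom ≫ U'.ι)
  let P : A → X.Opens := fun a => X.basicOpen (algebraMap A Γ(X, ⊤) a)
  have hP : ∀ a, P a = T ⁻¹ᵁ (Spec (CommRingCat.of A)).basicOpen ((Scheme.ΓSpecIso (CommRingCat.of A)).inv a) :=
    fun a => (Scheme.preimage_basicOpen_top T _).symm
  have hmem : ∀ (a : A) (x : X), x ∈ P a ↔ a ∉ (T x : PrimeSpectrum A).asIdeal := fun a x => by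
    rw [hP, Scheme.Hom.mem_preimage, basicOpen_eq_of_affine', Iso.inv_hom_id_apply]
    exact Iff.rfl
  let j : S.X 0 ⟶ X := pullback.fst W.hom (thickW f hcov 0)
  haveI : IsClosedImmersion (thickW f hcov 0) := by
    haveI : IsClosedImmersion (thickW f hcov 0 ≫ (Spec (CommRingCat.of A)).homOfLE hU') := by
      rw [show thickW f hcov 0 ≫ (Spec (CommRingCat.of A)).homOfLE hU' = pullback.fst _ _ by
        rw [← cancel_mono (FEt.puncturedSpec A).ι, Category.assoc, Scheme.homOfLE_ι, thickW_ι]]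
      infer_instance
    exact IsClosedImmersion.of_comp _ ((Spec (CommRingCat.of A)).homOfLE hU')
  haveI : IsClosedImmersion j := MorphismProperty.pullback_fst _ _ inferInstance
  have hρ : ∀ w, hS.ev₀ (ρ w) = j.appTop w := hρ'
  have hjT : ∀ x, T (j x) = S.T 0 x := fun x => by
    have h : j ≫ T = S.T 0 := by
      show j ≫ W.hom ≫ U'.ι = (pullback.snd W.hom (thickW f hcov 0) ≫ pullback.fst _ _) ≫ (FEt.puncturedSpec A).ι
      rw [pullback.condition_assoc, thickW_ι, Category.assoc]
    exact congrArg (fun t : S.X 0 ⟶ Spec (CommRingCat.of A) => t.base x) h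
  have hpb : IsPullback j (S.s 0) T (Spec.map (CommRingCat.ofHom (Ideal.Quotient.mk (Ideal.span {f})))) := by
    have hw0 : thickW f hcov 0 ≫ (Spec (CommRingCat.of A)).homOfLE hU' = pullback.fst _ _ := by
      rw [← cancel_mono (FEt.puncturedSpec A).ι, Category.assoc, Scheme.homOfLE_ι, thickW_ι]
    have h0 : IsPullback (thickW f hcov 0) (pullback.snd (FEt.puncturedSpec A).ι (thickSpec f 0)) U'.ι (thickSpec f 0) :=
      ⟨⟨by rw [thickW_ι]; exact pullback.condition⟩, ⟨PullbackCone.IsLimit.mk _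
        (fun c => pullback.lift (c.fst ≫ (Spec (CommRingCat.of A)).homOfLE hU') c.snd
          (by rw [Category.assoc, Scheme.homOfLE_ι]; exact c.condition))
        (fun c => by
          rw [← cancel_mono U'.ι, Category.assoc, thickW_ι, pullback.lift_fst_assoc, Category.assoc, Scheme.homOfLE_ι])
        (fun c => pullback.lift_snd _ _ _)
        fun c m h₁ h₂ => pullback.hom_ext
          (by rw [pullback.lift_fst, ← h₁, Category.assoc, hw0]) (by rw [pullback.lift_snd, h₂])⟩⟩
    exact (IsPullback.of_hasPullback W.hom (thickW f hcov 0)).paste_vert h0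
  -- data near a point of the hypersurface
  have key : ∀ x : S.X 0, ∃ (a : A) (w : Γ(X, ⊤)), j x ∈ P a ∧ ρ w = a • ε ∧
      ∀ z, ρ z = 0 → ∃ N : ℕ, a ^ N • z = 0 := by
    intro x
    let q : Ideal A := (T (j x) : PrimeSpectrum A).asIdeal
    have hfq : f ∈ q := by
      have h : T (j x) ∈ Set.range (Spec.map (CommRingCat.ofHom (Ideal.Quotient.mk (Ideal.span {f})))).base :=
        ⟨S.s 0 x, congrArg (fun t : S.X 0 ⟶ Spec (CommRingCat.of A) => t.base x) hpb.w.symm⟩
      exact (mem_range_spec_quot f _).1 h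
    obtain ⟨a₀, ha₀q, ha₀U⟩ : ∃ a₀ : A, T (j x) ∈ (PrimeSpectrum.basicOpen a₀ : Set (PrimeSpectrum A)) ∧
        (PrimeSpectrum.basicOpen a₀ : Set (PrimeSpectrum A)) ⊆ (U' : Set (Spec (CommRingCat.of A))) := by
      obtain ⟨_, ⟨_, ⟨a₀, rfl⟩, rfl⟩, h₁, h₂⟩ := PrimeSpectrum.isBasis_basic_opens.exists_subset_of_mem_open
        (show T (j x) ∈ (U' : Set _) from (W.hom (j x)).2) U'.2
      exact ⟨a₀, h₁, h₂⟩
    have ha₀ : a₀ ∉ q := ha₀q
    let D₀ := (Spec (CommRingCat.of A)).basicOpen ((Scheme.ΓSpecIso (CommRingCat.of A)).inv a₀)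
    have hD₀ : D₀ ≤ U'.ι.opensRange := by
      intro p hp
      rw [Scheme.Opens.opensRange_ι]
      refine ha₀U ?_
      change p ∈ (Spec (CommRingCat.of A)).basicOpen _ at hp
      rw [basicOpen_eq_of_affine', Iso.inv_hom_id_apply] at hp
      exact hp
    have hPaff : IsAffineOpen (P a₀) := by
      rw [hP, Scheme.Hom.comp_preimage]
      refine IsAffineOpen.preimage ?_ W.hom
      exact ((isAffineOpen_top _).basicOpen _).preimage_of_isOpenImmersion _ hD₀
    let res : Γ(X, ⊤) →+* Γ(X, P a₀) := (X.presheaf.map (homOfLE (le_top : P a₀ ≤ ⊤)).op).hom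
    haveI hloc : IsLocalization.Away (algebraMap A Γ(X, ⊤) a₀) Γ(X, P a₀) :=
      isLocalization_basicOpen_of_qcqs isCompact_univ isQuasiSeparated_univ _
    have hres : ∀ {z z' : Γ(X, ⊤)}, res z = res z' → ∃ k : ℕ, a₀ ^ k • z = a₀ ^ k • z' := fun {z z'} h => by
      obtain ⟨⟨_, k, rfl⟩, hk⟩ := IsLocalization.exists_of_eq (M := Submonoid.powers (algebraMap A Γ(X, ⊤) a₀))
        (S := Γ(X, P a₀)) h
      exact ⟨k, by rw [Algebra.smul_def, Algebra.smul_def, map_pow]; exact hk⟩
    have hnum : ∀ v : Γ(X, P a₀), ∃ (k : ℕ) (z : Γ(X, ⊤)), res z = res (algebraMap A _ a₀) ^ k * v := fun v => by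
      obtain ⟨⟨z, ⟨_, k, rfl⟩⟩, hz⟩ := IsLocalization.surj (Submonoid.powers (algebraMap A Γ(X, ⊤) a₀)) v
      refine ⟨k, z, hz.symm.trans ?_⟩
      rw [mul_comm, ← map_pow]
      rfl
    -- a finite module of numerators
    have hfinP : RingHom.Finite (T.app D₀).hom := by
      haveI : IsIso (U'.ι.app D₀) := U'.ι.isIso_app D₀ hD₀
      rw [Scheme.Hom.comp_app, CommRingCat.hom_comp]
      refine RingHom.Finite.comp ?_ (RingHom.Finite.of_surjective _
        (ConcreteCategory.bijective_of_isIso (U'.ι.app D₀)).2)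
      exact W.hom.finite_app _ (((isAffineOpen_top _).basicOpen _).preimage_of_isOpenImmersion _ hD₀)
    letI := (T.app D₀).hom.toAlgebra
    haveI : Module.Finite Γ(Spec (CommRingCat.of A), D₀) Γ(X, T ⁻¹ᵁ D₀) := hfinP
    obtain ⟨G, hG⟩ := (Module.Finite.fg_top : (⊤ : Submodule Γ(Spec (CommRingCat.of A), D₀) Γ(X, T ⁻¹ᵁ D₀)).FG)
    let eP : Γ(X, T ⁻¹ᵁ D₀) →+* Γ(X, P a₀) := (X.presheaf.map (homOfLE (hP a₀).le).op).hom
    choose kG zG hzG using fun v : Γ(X, T ⁻¹ᵁ D₀) => hnum (eP v)
    let M : Submodule A Γ(X, ⊤) := Submodule.span A (G.image zG : Set Γ(X, ⊤))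
    have hMfin : Module.Finite A M := Module.Finite.span_of_finite A (Finset.finite_toSet _)
    have hMgen : ∀ v : Γ(X, T ⁻¹ᵁ D₀), ∃ (l : ℕ), ∃ m ∈ M, res m = res (algebraMap A _ a₀) ^ l * eP v := by
      intro v
      have hv : v ∈ Submodule.span Γ(Spec (CommRingCat.of A), D₀) (G : Set Γ(X, T ⁻¹ᵁ D₀)) := hG.ge trivial
      induction hv using Submodule.span_induction with
      | mem v hv => exact ⟨kG v, zG v, Submodule.subset_span (Finset.mem_coe.2 (Finset.mem_image_of_mem zG hv)), hzG v⟩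
      | zero => exact ⟨0, 0, zero_mem _, by simp⟩
      | add v v' _ _ hv hv' =>
        obtain ⟨l, m, hm, e⟩ := hv
        obtain ⟨l', m', hm', e'⟩ := hv'
        refine ⟨l + l', a₀ ^ l' • m + a₀ ^ l • m', add_mem (M.smul_mem _ hm) (M.smul_mem _ hm'), ?_⟩
        simp only [Algebra.smul_def, map_add, map_mul, map_pow, e, e']
        ring
      | smul c v _ hv =>
        obtain ⟨l, m, hm, e⟩ := hv
        letI : Algebra A Γ(Spec (CommRingCat.of A), D₀) :=
          (((Scheme.ΓSpecIso (CommRingCat.of A)).inv ≫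
            (Spec (CommRingCat.of A)).presheaf.map (homOfLE (le_top : D₀ ≤ ⊤)).op)).hom.toAlgebra
        obtain ⟨r, k, hr⟩ : ∃ (r : A) (k : ℕ), c * algebraMap A Γ(Spec (CommRingCat.of A), D₀) a₀ ^ k =
            algebraMap A Γ(Spec (CommRingCat.of A), D₀) r := by
          haveI := (isAffineOpen_top (Spec (CommRingCat.of A))).isLocalization_basicOpen
            ((Scheme.ΓSpecIso (CommRingCat.of A)).inv a₀)
          obtain ⟨⟨G', ⟨_, k, rfl⟩⟩, hG'⟩ := IsLocalization.surj
            (Submonoid.powers ((Scheme.ΓSpecIso (CommRingCat.of A)).inv a₀)) c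
          refine ⟨(Scheme.ΓSpecIso (CommRingCat.of A)).hom G', k, ?_⟩
          rw [← map_pow]
          refine (Eq.trans ?_ hG').trans ?_
          · congr 1
            show (Spec (CommRingCat.of A)).presheaf.map _ ((Scheme.ΓSpecIso (CommRingCat.of A)).inv (a₀ ^ k)) = _
            rw [map_pow]
            rfl
          · show (Spec (CommRingCat.of A)).presheaf.map _ G' = (Spec (CommRingCat.of A)).presheaf.map _
              ((Scheme.ΓSpecIso (CommRingCat.of A)).inv ((Scheme.ΓSpecIso (CommRingCat.of A)).hom G'))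
            rw [Iso.hom_inv_id_apply]
        have hc : ∀ r' : A, eP (algebraMap Γ(Spec (CommRingCat.of A), D₀) Γ(X, T ⁻¹ᵁ D₀)
            (algebraMap A _ r')) = res (algebraMap A _ r') := fun r' => by
          have h : ((Spec (CommRingCat.of A)).presheaf.map (homOfLE (le_top : D₀ ≤ ⊤)).op ≫ T.app D₀) ≫
              X.presheaf.map (homOfLE (hP a₀).le).op =
              T.appTop ≫ X.presheaf.map (homOfLE (le_top : P a₀ ≤ ⊤)).op := by
            rw [T.naturality, Category.assoc, Scheme.Hom.appTop]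
            congr 1
            exact (X.presheaf.map_comp _ _).symm
          exact congr($h ((Scheme.ΓSpecIso (CommRingCat.of A)).inv r'))
        refine ⟨k + l, r • m, M.smul_mem _ hm, ?_⟩
        have e1 := congrArg (fun z => eP (algebraMap Γ(Spec (CommRingCat.of A), D₀) Γ(X, T ⁻¹ᵁ D₀) z)) hr
        beta_reduce at e1
        rw [map_mul, map_pow, map_mul, map_pow, hc, hc] at e1
        rw [Algebra.smul_def, Algebra.smul_def, map_mul, map_mul, e, ← e1, pow_add]
        ring
    have hMsat : ∀ z : Γ(X, ⊤), ∃ l : ℕ, a₀ ^ l • z ∈ M := fun z => by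
      obtain ⟨l, m, hm, e⟩ := hMgen ((X.presheaf.map (homOfLE (le_top : T ⁻¹ᵁ D₀ ≤ ⊤)).op) z)
      have e' : eP ((X.presheaf.map (homOfLE (le_top : T ⁻¹ᵁ D₀ ≤ ⊤)).op) z) = res z := by
        show (X.presheaf.map _ ≫ X.presheaf.map _) z = _
        rw [← Functor.map_comp]; rfl
      rw [e', ← map_pow, ← map_mul] at e
      obtain ⟨k, hk⟩ := hres e
      refine ⟨k + l, ?_⟩
      rw [pow_add, mul_smul, Algebra.smul_def (a₀ ^ l) z, map_pow, ← hk]
      exact M.smul_mem _ hm
    -- the kernel near the point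
    have hker : ∀ z, ρ z = 0 → ∃ (l : ℕ) (z' : Γ(X, ⊤)), a₀ ^ l • z = f • z' ∧ ρ z' = 0 := by
      intro z hz
      have hz0 : j.appTop z = 0 := by rw [← hρ, hz, map_zero]
      obtain ⟨d, hd⟩ := exists_of_appLE_eq_zero' f hpb hPaff (res z) (by
        have h : X.presheaf.map (homOfLE (le_top : P a₀ ≤ ⊤)).op ≫ j.appLE (P a₀) (j ⁻¹ᵁ P a₀) le_rfl =
            j.appTop ≫ (S.X 0).presheaf.map (homOfLE (le_top : j ⁻¹ᵁ P a₀ ≤ ⊤)).op := by
          rw [Scheme.Hom.map_appLE, Scheme.Hom.appLE, Scheme.Hom.appTop]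
        exact (congr($h z)).trans (by rw [CommRingCat.comp_apply, hz0, map_zero]))
      obtain ⟨k, z', hz'⟩ := hnum d
      obtain ⟨k', hk'⟩ := hres (z := a₀ ^ k • z) (z' := f • z') (by
        rw [Algebra.smul_def, Algebra.smul_def, map_mul, map_mul, map_pow (algebraMap A _), map_pow, hz', hd]
        show res (algebraMap A Γ(X, ⊤) a₀) ^ k * (res (algebraMap A Γ(X, ⊤) f) * d) = _
        ring)
      refine ⟨k' + k, a₀ ^ k' • z', by rw [pow_add, mul_smul, hk', smul_comm], ?_⟩
      refine hS.regular ?_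
      rw [← map_smul, smul_comm, ← hk', map_smul, map_smul, hz, smul_zero, smul_zero]
    haveI := hMfin
    let N : Submodule A Γ(X, ⊤) := LinearMap.ker ρ.toLinearMap ⊓ M
    haveI : Module.Finite A N := Module.Finite.of_injective (Submodule.inclusion (inf_le_right : N ≤ M)) (Submodule.inclusion_injective _)
    obtain ⟨s₁, hs₁, hN⟩ := exists_notMem_smul_eq_zero q hfq N (by
      rintro ⟨z, hz, -⟩
      obtain ⟨l, z', hzl, hz'⟩ := hker z hz
      obtain ⟨l', hl'⟩ := hMsat z'
      have hz'' : ρ (a₀ ^ l' • z') = 0 := by rw [map_smul, hz', smul_zero]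
      refine ⟨a₀ ^ (l + l'), fun h => ha₀ (Ideal.IsPrime.mem_of_pow_mem inferInstance _ h), ⟨_, hz'', hl'⟩, Subtype.ext ?_⟩
      show a₀ ^ (l + l') • z = f • a₀ ^ l' • z'
      rw [add_comm, pow_add, mul_smul, hzl, smul_comm])
    -- surjectivity near the point
    let Q := L ⧸ LinearMap.range ρ.toLinearMap
    obtain ⟨s₂, hs₂, hQ⟩ := exists_notMem_smul_eq_zero q hfq Q (by
      intro c
      obtain ⟨c, rfl⟩ := Submodule.Quotient.mk_surjective _ c
      obtain ⟨d, hd⟩ : ∃ d, j.app (P a₀) d = (S.X 0).presheaf.map (homOfLE (le_top : j ⁻¹ᵁ P a₀ ≤ ⊤)).op (hS.ev₀ c) :=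
        j.app_surjective _ hPaff _
      obtain ⟨k, z, hz⟩ := hnum d
      haveI : IsLocalization.Away (algebraMap A (S.R 0) a₀) Γ(S.X 0, S.P 0 a₀) := inferInstance
      have hPj : j ⁻¹ᵁ P a₀ = S.P 0 a₀ := by
        ext y
        simp only [TopologicalSpace.Opens.map_coe, Set.mem_preimage, SetLike.mem_coe]
        rw [hmem, hjT, S.mem_P]
      have hev : S.res 0 a₀ (a₀ ^ k • hS.ev₀ c) = S.res 0 a₀ (j.appTop z) := by
        have h : X.presheaf.map (homOfLE (le_top : P a₀ ≤ ⊤)).op ≫ j.app (P a₀) ≫ (S.X 0).presheaf.map (eqToHom hPj.symm).op =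
            j.appTop ≫ (S.X 0).presheaf.map (homOfLE (le_top : S.P 0 a₀ ≤ ⊤)).op := by
          rw [j.naturality_assoc, ← Functor.map_comp]
          rfl
        have h1 := congr($h z)
        have h2 := congr($h (algebraMap A Γ(X, ⊤) a₀))
        simp only [CommRingCat.comp_apply] at h1 h2
        change _ = S.res 0 a₀ (j.appTop z) at h1
        rw [← h1, show X.presheaf.map (homOfLE (le_top : P a₀ ≤ ⊤)).op z = _ from hz, map_mul, map_pow, map_mul,
          map_pow, hd, show (S.X 0).presheaf.map (eqToHom hPj.symm).op (j.app (P a₀) (res (algebraMap A _ a₀))) = _ from h2,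
          Algebra.smul_def, map_mul, map_pow, map_pow]
        congr 1
        · congr 1
          rw [← hρ, AlgHom.commutes, AlgHom.commutes]
        · show _ = ((S.X 0).presheaf.map _ ≫ (S.X 0).presheaf.map _) (hS.ev₀ c)
          rw [← Functor.map_comp]
          rfl
      obtain ⟨k', hk'⟩ := S.exists_pow_of_res_eq 0 a₀ hev
      have h0 : hS.ev₀ (a₀ ^ (k' + k) • c - ρ (a₀ ^ k' • z)) = 0 := by
        rw [map_sub, map_smul, hρ, sub_eq_zero, pow_add, mul_smul, hk', ← hρ, ← hρ, ← map_smul, ← map_smul]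
      obtain ⟨c', hc'⟩ := hS.exists_smul_of_ev₀_eq_zero h0
      refine ⟨a₀ ^ (k' + k), fun h => ha₀ (Ideal.IsPrime.mem_of_pow_mem inferInstance _ h), Submodule.Quotient.mk c', ?_⟩
      rw [← Submodule.Quotient.mk_smul, ← Submodule.Quotient.mk_smul, Submodule.Quotient.eq, hc', sub_sub_cancel]
      exact ⟨_, rfl⟩)
    have h2 := hQ (Submodule.Quotient.mk ε)
    rw [← Submodule.Quotient.mk_smul, Submodule.Quotient.mk_eq_zero] at h2
    obtain ⟨w, hw⟩ := h2
    refine ⟨a₀ * s₁ * s₂, (a₀ * s₁) • w, (hmem _ _).2 ?_, ?_, fun z hz => ?_⟩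
    · exact fun h => ((Ideal.IsPrime.mem_or_mem inferInstance h).elim
        (fun h => (Ideal.IsPrime.mem_or_mem inferInstance h).elim ha₀ hs₁) hs₂)
    · rw [map_smul, show ρ w = s₂ • ε from hw, smul_smul]
    · obtain ⟨l, hl⟩ := hMsat z
      have h1 : s₁ • a₀ ^ l • z = 0 := congrArg Subtype.val
        (hN ⟨a₀ ^ l • z, (by show ρ (a₀ ^ l • z) = 0; rw [map_smul, hz, smul_zero]), hl⟩)
      refine ⟨l + 1, ?_⟩
      rw [show (a₀ * s₁ * s₂) ^ (l + 1) = (a₀ * s₁ ^ l * s₂ ^ (l + 1)) * (s₁ * a₀ ^ l) by ring, mul_smul,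
        mul_smul s₁, h1, smul_zero]
  choose a w ha hw hker using key
  let G : Set X := ⋃ x, (P (a x) : Set X) ∩ X.basicOpen (w x)
  let H : Set X := ⋃ x, (P (a x) : Set X) ∩ X.basicOpen (algebraMap A _ (a x) - w x)
  have hidem : ∀ x, ∃ N : ℕ, a x ^ N • (w x * (algebraMap A _ (a x) - w x)) = 0 := fun x => hker x _ (by
    rw [map_mul, map_sub, AlgHom.commutes, hw, Algebra.smul_def, mul_sub]
    linear_combination (algebraMap A L (a x)) ^ 2 * -hε2)
  have hcross : ∀ x x', ∃ N : ℕ, a x ^ N • (a x' • w x - a x • w x') = 0 := fun x x' => hker x _ (by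
    rw [map_sub, map_smul, map_smul, hw, hw, smul_comm, sub_self])
  have hval : ∀ (x₁ : X) (z : Γ(X, ⊤)), x₁ ∈ X.basicOpen z ↔ X.Γevaluation x₁ z ≠ 0 := fun x₁ z =>
    (Scheme.evaluation_ne_zero_iff_mem_basicOpen (X := X) (U := ⊤) x₁ trivial z).symm
  have hPval : ∀ (x₁ : X) (r : A), x₁ ∈ P r ↔ X.Γevaluation x₁ (algebraMap A _ r) ≠ 0 := fun x₁ r => hval x₁ _
  refine ⟨G, H, isOpen_iUnion fun x => (P _).2.inter (X.basicOpen _).2,
    isOpen_iUnion fun x => (P _).2.inter (X.basicOpen _).2, ?_, ?_, ?_⟩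
  · rw [Set.disjoint_left]
    rintro y hy hy'
    obtain ⟨x, hax, hwx⟩ := Set.mem_iUnion.1 hy
    obtain ⟨x', hax', hwx'⟩ := Set.mem_iUnion.1 hy'
    rw [SetLike.mem_coe, hPval] at hax hax'
    rw [SetLike.mem_coe, hval] at hwx hwx'
    obtain ⟨N, hN⟩ := hcross x x'
    obtain ⟨N', hN'⟩ := hidem x'
    have e1 := congrArg (X.Γevaluation y) hN
    have e2 := congrArg (X.Γevaluation y) hN'
    simp only [Algebra.smul_def, map_mul, map_sub, map_zero, map_pow, mul_eq_zero, pow_eq_zero_iff', ne_eq, hax, hax',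
      false_and, false_or, sub_eq_zero] at e1 e2
    rw [map_sub, sub_ne_zero] at hwx'
    rw [e2.resolve_right hwx', mul_zero] at e1
    exact hwx ((mul_eq_zero.1 e1).resolve_left hax')
  all_goals
    ext y
    have hXy : ∀ z : Γ(X, ⊤), y ∈ j.base ⁻¹' (X.basicOpen z : Set X) ↔ (S.X 0).Γevaluation y (j.appTop z) ≠ 0 := fun z => by
      rw [Set.mem_preimage, SetLike.mem_coe, hval, ← Scheme.Γevaluation_naturality_apply j y z]
      exact (map_ne_zero_iff _ (j.residueFieldMap y).hom.injective).symm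
    have hyC : y ∈ C ↔ (S.X 0).Γevaluation y e ≠ 0 := by
      rw [← heC, SetLike.mem_coe, ← Scheme.evaluation_ne_zero_iff_mem_basicOpen (X := S.X 0) (U := ⊤) y trivial e]
    have hjw : ∀ x, j.appTop (w x) = algebraMap A (S.R 0) (a x) * e := fun x => by
      rw [← hρ, hw, map_smul, hε, Algebra.smul_def]
    have hja : ∀ r : A, j.appTop (algebraMap A Γ(X, ⊤) r) = algebraMap A (S.R 0) r := fun r => by
      rw [← hρ, AlgHom.commutes, AlgHom.commutes]
    constructor
  · intro hy
    obtain ⟨x, hax, hwx⟩ := Set.mem_iUnion.1 hy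
    rw [hyC]
    have := (hXy _).1 hwx
    rw [hjw, map_mul] at this
    exact right_ne_zero_of_mul this
  · intro hy
    refine Set.mem_iUnion.2 ⟨y, ha y, (hXy _).2 ?_⟩
    rw [hjw, map_mul]
    refine mul_ne_zero ?_ (hyC.1 hy)
    have := (hXy _).1 (ha y)
    rwa [hja] at this
  · intro hy hyC'
    obtain ⟨x, hax, hwx⟩ := Set.mem_iUnion.1 hy
    have := (hXy _).1 hwx
    rw [map_sub, hja, hjw, ← mul_one_sub, map_mul] at this
    have h0 : (S.X 0).Γevaluation y e * (1 - (S.X 0).Γevaluation y e) = 0 := by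
      rw [mul_one_sub, ← map_mul, he, sub_self]
    rw [map_sub, map_one] at this
    exact right_ne_zero_of_mul this ((mul_eq_zero.1 h0).resolve_left (hyC.1 hyC'))
  · intro hy
    refine Set.mem_iUnion.2 ⟨y, ha y, (hXy _).2 ?_⟩
    rw [map_sub, hja, hjw, ← mul_one_sub, map_mul]
    refine mul_ne_zero ?_ ?_
    · have := (hXy _).1 (ha y)
      rwa [hja] at this
    · have h0 : (S.X 0).Γevaluation y e = 0 := by
        by_contra h
        exact hy (hyC.2 h)
      rw [map_sub, map_one, h0, sub_zero]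
      exact one_ne_zero

end Groth.Agent.PurX
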