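import Groth.Agent.PurX.RegHomPurity
import Groth.Agent.RegFS6.GBase
import Groth.Agent.CplFib6.GRingStable

/-!
# Purity of formally smooth local algebras over a base of depth two
-/

universe u

open CategoryTheory CategoryTheory.Limits AlgebraicGeometry IsLocalRing

set_option linter.style.haveILetI false
set_option maxHeartbeats 1000000

noncomputable section

namespace Groth.Agent.PurX

variable (A B : Type u) [CommRing A] [CommRing B] [IsLocalRing A] [IsLocalRing B] [IsNoetherianRing A]
  [IsNoetherianRing B] [Algebra A B] [IsLocalHom (algebraMap A B)]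

/-- The local rings of a formally smooth algebra over the closed point off the generic point of the closed
fibre have depth at least two and are pure. -/
theorem purityHolds_atPrime_of_fs (hfs : CAlgX.IsAdicFormallySmooth A B (maximalIdeal B))
    (hA : (2 : ℕ∞) ≤ LocCoh.depth A A) (x : Ideal B) [x.IsPrime]
    (hx : x.comap (algebraMap A B) = maximalIdeal A) (hne : x ≠ (maximalIdeal A).map (algebraMap A B)) :
    (2 : ℕ∞) ≤ LocCoh.depth (Localization.AtPrime x) (Localization.AtPrime x) ∧
      FEt.PurityHolds (Localization.AtPrime x) := by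
  haveI := RegFS6.flat_of_fs hfs
  let Bx := Localization.AtPrime x
  haveI : Module.Flat A Bx := Module.Flat.trans A B Bx
  haveI : IsLocalHom (algebraMap A Bx) := ⟨fun a ha => by
    by_contra hu
    rw [IsScalarTower.algebraMap_apply A B Bx] at ha
    exact (IsLocalization.AtPrime.isUnit_to_map_iff Bx x _).1 ha (hx.ge ((mem_maximalIdeal a).2 hu))⟩
  have hdep : (2 : ℕ∞) ≤ LocCoh.depth Bx Bx := ParaF2.le_depth_of_flat A Bx (n := 2) hA
  refine ⟨hdep, ?_⟩
  -- completions
  haveI := FlatLoc6.isLocalRing_cpl A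
  haveI := FlatLoc6.isLocalRing_cpl B
  haveI := FlatLoc6.isNoetherianRing_cpl A
  haveI := FlatLoc6.isNoetherianRing_cpl B
  haveI := CplFib6.isAdicComplete_cpl A
  let A' := EGA4.Cpl A
  let C := EGA4.Cpl B
  obtain ⟨_, hst, hff⟩ := FlatLoc6.exists_cplHom A B
  haveI := hst
  have hmA : maximalIdeal A' = (maximalIdeal A).map (algebraMap A A') :=
    AdicCompletion.maximalIdeal_eq_map_of_fg (IsNoetherian.noetherian _)
  have hmC : (maximalIdeal A').map (algebraMap A' C) =
      ((maximalIdeal A).map (algebraMap A B)).map (algebraMap B C) := by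
    rw [hmA, Ideal.map_map, ← IsScalarTower.algebraMap_eq, IsScalarTower.algebraMap_eq A B C, ← Ideal.map_map]
  haveI : IsLocalHom (algebraMap A' C) := by
    refine ((local_hom_TFAE _).out 0 2).mpr ?_
    rw [hmC, AdicCompletion.maximalIdeal_eq_map_of_fg (R := B) (IsNoetherian.noetherian _)]
    exact Ideal.map_mono (((local_hom_TFAE (algebraMap A B)).out 0 2).mp (inferInstance : IsLocalHom (algebraMap A B)))
  haveI : Module.Flat A A' := AdicCompletion.flat_of_isNoetherian _
  haveI : IsLocalHom (algebraMap A A') := ((local_hom_TFAE _).out 0 2).mpr hmA.ge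
  have hA' : (2 : ℕ∞) ≤ LocCoh.depth A' A' := ParaF2.le_depth_of_flat A A' (n := 2) hA
  have hreg : CAlg.IsRegularHom A' C := RegFS6.isRegularHom_of_fs_of_complete (RegFS6.fs_cpl hfs)
  haveI := FlatLoc6.faithfullyFlat_cpl B
  -- a minimal prime over the point
  obtain ⟨Q₀, hQ₀⟩ : ∃ Q : PrimeSpectrum C, Q.asIdeal.comap (algebraMap B C) = x := by
    obtain ⟨Q, hQ⟩ := PrimeSpectrum.comap_surjective_of_faithfullyFlat (A := B) (B := C) ⟨x, inferInstance⟩
    exact ⟨Q, congrArg PrimeSpectrum.asIdeal hQ⟩
  obtain ⟨Q, hQ, hQle⟩ := Ideal.exists_minimalPrimes_le (I := x.map (algebraMap B C)) (J := Q₀.asIdeal)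
    (Ideal.map_le_iff_le_comap.2 hQ₀.ge)
  haveI : Q.IsPrime := hQ.1.1
  have hQx : Q.comap (algebraMap B C) = x :=
    le_antisymm ((Ideal.comap_mono hQle).trans hQ₀.le) (Ideal.map_le_iff_le_comap.1 hQ.1.2)
  haveI : Q.LiesOver x := ⟨hQx.symm⟩
  letI : Algebra Bx (Localization.AtPrime Q) := Localization.AtPrime.algebraOfLiesOver x Q
  haveI := FlatLoc6.isLocalHom_atPrime x Q
  let CQ := Localization.AtPrime Q
  haveI : Module.Flat B CQ := Module.Flat.trans B C CQ
  haveI : Module.Flat Bx CQ := (Module.flat_iff_of_isLocalization Bx x.primeCompl CQ).2 inferInstance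
  refine purityHolds_of_faithfullyFlat Bx CQ hdep (fun P hP hle => ?_) ?_
  · let Q' := P.comap (algebraMap C CQ)
    haveI : Q'.IsPrime := Ideal.comap_isPrime _ _
    have h1 : Q' ≤ Q := fun y hy => by
      by_contra hyQ
      exact hP.ne_top (Ideal.eq_top_of_isUnit_mem _ hy (IsLocalization.map_units CQ (⟨y, hyQ⟩ : Q.primeCompl)))
    have h2 : x.map (algebraMap B C) ≤ Q' := by
      rw [Ideal.map_le_iff_le_comap, Ideal.comap_comap, ← IsScalarTower.algebraMap_eq B C CQ,
        IsScalarTower.algebraMap_eq B Bx CQ, ← Ideal.comap_comap]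
      intro b hb
      exact Ideal.map_le_iff_le_comap.1 hle ((IsLocalization.AtPrime.to_map_mem_maximal_iff Bx x b).2 hb)
    rw [← IsLocalization.map_comap Q.primeCompl CQ P, show Ideal.under C P = Q from
      le_antisymm h1 (hQ.2 ⟨inferInstance, h2⟩ h1), ← Localization.AtPrime.map_eq_maximalIdeal]
  -- the base change
  have hQA : Q.comap (algebraMap A' C) = maximalIdeal A' := by
    refine ((maximalIdeal.isMaximal A').eq_of_le (Ideal.IsPrime.ne_top inferInstance) ?_).symm
    rw [← Ideal.map_le_iff_le_comap, hmC, Ideal.map_le_iff_le_comap, hQx, Ideal.map_le_iff_le_comap]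
    exact hx.ge
  haveI : IsLocalHom (algebraMap A' CQ) := ⟨fun a ha => by
    by_contra hu
    rw [IsScalarTower.algebraMap_apply A' C CQ] at ha
    exact (IsLocalization.AtPrime.isUnit_to_map_iff CQ Q _).1 ha (hQA.ge ((mem_maximalIdeal a).2 hu))⟩
  refine purityHolds_of_regularHom A' CQ
    (FlatLoc6.isRegularHom_comp A' C CQ hreg (CplFib6.isRegularHom_of_isLocalization C CQ Q.primeCompl)) ?_ hA'
  -- positive fibre dimension
  let J₀ := (maximalIdeal A').map (algebraMap A' C)
  haveI hJ₀ : J₀.IsPrime := by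
    haveI := AnLocal.regular_fibLocRing hreg (maximalIdeal C)
    haveI := RegLoc6.isDomain_of_isRegularLocalRing (EGA4.FibLocRing A' C (maximalIdeal C))
    let σ : C ≃ₐ[C] Localization.AtPrime (maximalIdeal C) :=
      IsLocalization.atUnits C (maximalIdeal C).primeCompl fun y hy => by
        by_contra h
        exact hy ((mem_maximalIdeal y).2 h)
    have he : ((maximalIdeal C).comap (algebraMap A' C)).map (algebraMap A' (Localization.AtPrime (maximalIdeal C))) =
        J₀.map σ.toRingEquiv := by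
      rw [IsLocalRing.maximalIdeal_comap (algebraMap A' C), IsScalarTower.algebraMap_eq A' C (Localization.AtPrime (maximalIdeal C)),
        ← Ideal.map_map]
      congr 1
    let e : C ⧸ J₀ ≃+* EGA4.FibLocRing A' C (maximalIdeal C) := Ideal.quotientEquiv _ _ σ.toRingEquiv he
    exact (Ideal.Quotient.isDomain_iff_prime J₀).1 (MulEquiv.isDomain _ e.toMulEquiv)
  have hJQ : J₀ ≤ Q := Ideal.map_le_iff_le_comap.2 hQA.ge
  have hJne : J₀ ≠ Q := fun h => hne (by
    rw [← hQx, ← h]
    show ((maximalIdeal A').map (algebraMap A' C)).comap (algebraMap B C) = _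
    rw [hmC, Ideal.comap_map_eq_self_of_faithfullyFlat])
  have hdisj : Disjoint (Q.primeCompl : Set C) J₀ := Set.disjoint_left.2 fun y hy hyJ => hy (hJQ hyJ)
  have hJeq : (maximalIdeal A').map (algebraMap A' CQ) = J₀.map (algebraMap C CQ) := by
    rw [IsScalarTower.algebraMap_eq A' C CQ, ← Ideal.map_map]
  let J := (maximalIdeal A').map (algebraMap A' CQ)
  haveI : J.IsPrime := by
    show ((maximalIdeal A').map (algebraMap A' CQ)).IsPrime
    rw [hJeq]
    exact IsLocalization.isPrime_of_isPrime_disjoint Q.primeCompl CQ J₀ hJ₀ hdisj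
  have hJm : J ≠ maximalIdeal CQ := fun h => hJne (by
    have h2 := congrArg (Ideal.comap (algebraMap C CQ)) (hJeq.symm.trans h)
    exact (IsLocalization.under_map_of_isPrime_disjoint Q.primeCompl CQ hJ₀ hdisj).symm.trans
      (h2.trans (IsLocalization.AtPrime.under_maximalIdeal CQ Q)))
  rw [ringKrullDim_quotient]
  have hlt : (⟨J, inferInstance⟩ : PrimeSpectrum CQ) < closedPoint CQ :=
    lt_of_le_of_ne (IsLocalRing.map_maximalIdeal_le _) fun e => hJm (congrArg PrimeSpectrum.asIdeal e)
  let x₀ : PrimeSpectrum.zeroLocus (J : Set CQ) := ⟨⟨J, inferInstance⟩, le_refl J⟩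
  let x₁ : PrimeSpectrum.zeroLocus (J : Set CQ) := ⟨closedPoint CQ, IsLocalRing.map_maximalIdeal_le _⟩
  exact_mod_cast Order.LTSeries.length_le_krullDim ((RelSeries.singleton _ x₁).cons x₀ (show x₀ < x₁ from hlt))

end Groth.Agent.PurX
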