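import Groth.Agent.PurX.RegLift
import Groth.Agent.FlatLoc6.Depth
import Mathlib.RingTheory.Flat.FaithfullyFlat.Algebra

/-!
# Purity of the closed fibre gives purity of a flat local algebra
-/

set_option autoImplicit false
set_option linter.style.haveILetI false
set_option linter.unusedSectionVars false

universe u

open CategoryTheory CategoryTheory.Limits AlgebraicGeometry IsLocalRing TensorProduct
open Groth.Agent.Pi1Ext

set_option backward.isDefEq.respectTransparency false

noncomputable section

namespace Groth.Agent.PurX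

/-- Purity passes from a quotient by a nil ideal. -/
theorem purityHolds_of_nil_quot {R : Type u} [CommRing R] [IsLocalRing R] (J : Ideal R) [IsLocalRing (R ⧸ J)]
    (hJ : J ≤ nilradical R) (h : FEt.PurityHolds (R ⧸ J)) : FEt.PurityHolds R := by
  let P := (FEt.puncturedSpec R).ι
  let P' := (FEt.puncturedSpec (R ⧸ J)).ι
  let q := Spec.map (CommRingCat.ofHom (Ideal.Quotient.mk J))
  haveI : IsClosedImmersion q := IsClosedImmersion.spec_of_surjective _ Ideal.Quotient.mk_surjective
  haveI : IsLocalHom (Ideal.Quotient.mk J) := Function.Surjective.isLocalHom _ Ideal.Quotient.mk_surjective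
  haveI : Surjective q := ⟨fun p => by
    show p ∈ Set.range (PrimeSpectrum.comap (Ideal.Quotient.mk J))
    rw [range_comap_of_surjective _ _ Ideal.Quotient.mk_surjective, Ideal.mk_ker, PrimeSpectrum.mem_zeroLocus,
      SetLike.coe_subset_coe]
    exact hJ.trans (nilradical_le_prime _)⟩
  let j := pullback.fst P q
  let jj := pullback.snd P q
  haveI : IsOpenImmersion jj := MorphismProperty.pullback_snd _ _ inferInstance
  haveI : IsClosedImmersion j := MorphismProperty.pullback_fst _ _ inferInstance
  haveI : Surjective j := MorphismProperty.pullback_fst _ _ inferInstance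
  haveI : (FEt.restrict j).IsEquivalence := S0238.result _
  haveI : (FEt.restrict q).IsEquivalence := S0238.result _
  have hrange : Set.range jj.base = Set.range P'.base := by
    rw [show Set.range jj.base = _ from Scheme.Pullback.range_snd _ _, Scheme.Opens.range_ι, Scheme.Opens.range_ι]
    ext x
    show PrimeSpectrum.comap (Ideal.Quotient.mk J) x ≠ closedPoint R ↔ x ≠ closedPoint (R ⧸ J)
    rw [← IsLocalRing.comap_closedPoint (f := Ideal.Quotient.mk J)]
    exact (PrimeSpectrum.comap_injective_of_surjective _ Ideal.Quotient.mk_surjective).ne_iff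
  let κ := IsOpenImmersion.isoOfRangeEq jj P' hrange
  haveI : (FEt.restrict κ.hom).IsEquivalence := isEquivalence_of_iso _
  haveI : (FEt.restrict P').EssSurj := h
  refine ⟨fun E => ?_⟩
  let T := (FEt.restrict κ.hom).objPreimage ((FEt.restrict j).obj E)
  let Y₀ := (FEt.restrict P').objPreimage T
  let Y := (FEt.restrict q).objPreimage Y₀
  refine ⟨Y, ⟨(FEt.restrict j).preimageIso ?_⟩⟩
  exact Spread.restrictSquare j P jj q pullback.condition Y ≪≫
    (FEt.restrict jj).mapIso ((FEt.restrict q).objObjPreimageIso Y₀) ≪≫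
    Spread.restrictComp κ.hom P' jj (IsOpenImmersion.isoOfRangeEq_hom_fac _ _ _).symm Y₀ ≪≫
    (FEt.restrict κ.hom).mapIso ((FEt.restrict P').objObjPreimageIso T) ≪≫
    (FEt.restrict κ.hom).objObjPreimageIso _

variable {A B : Type u} [CommRing A] [CommRing B] [IsLocalRing A] [IsLocalRing B] [IsNoetherianRing A]
  [IsNoetherianRing B] [Algebra A B] [IsLocalHom (algebraMap A B)] [Module.Flat A B]

/-- The depth of the reduction is at least the depth of the closed fibre. -/
theorem le_depth_quot_map {n : ℕ∞} (hn : n ≤ LocCoh.depth (B ⧸ (maximalIdeal A).map (algebraMap A B))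
      (B ⧸ (maximalIdeal A).map (algebraMap A B))) {I : Ideal A} (hI : I ≤ maximalIdeal A)
    [IsLocalRing (B ⧸ I.map (algebraMap A B))] :
    n ≤ LocCoh.depth (B ⧸ I.map (algebraMap A B)) (B ⧸ I.map (algebraMap A B)) := by
  haveI : Nontrivial (A ⧸ I) := Ideal.Quotient.nontrivial_iff.2
    fun h => (maximalIdeal.isMaximal A).ne_top (top_le_iff.1 (h ▸ hI))
  have hm : (maximalIdeal A).map (algebraMap A B) ≤ maximalIdeal B := IsLocalRing.map_maximalIdeal_le _
  haveI : Nontrivial (B ⧸ (maximalIdeal A).map (algebraMap A B)) := Ideal.Quotient.nontrivial_iff.2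
    fun h => (maximalIdeal.isMaximal B).ne_top (top_le_iff.1 (h ▸ hm))
  haveI : IsLocalRing (B ⧸ (maximalIdeal A).map (algebraMap A B)) :=
    IsLocalRing.of_surjective' _ Ideal.Quotient.mk_surjective
  have h1 := FlatLoc6.depth_tensor (A := A) (B := B) (N := B) (A ⧸ I)
  rw [FlatLoc6.depth_fibMod B, Hensel.depth_congr
    (Algebra.TensorProduct.quotIdealMapEquivTensorQuot B I).symm.toLinearEquiv,
    Alg6.depth_eq_of_semilinear (Ideal.Quotient.mk (I.map (algebraMap A B))) Ideal.Quotient.mk_surjective
      (AddEquiv.refl _) (fun r x => rfl)] at h1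
  rw [h1]
  refine hn.trans (le_trans (le_of_eq ?_) le_add_self)
  have hmN : FlatLoc6.mN A B B = (maximalIdeal A).map (algebraMap A B) := by
    show (maximalIdeal A).map (algebraMap A B) • (⊤ : Submodule B B) = _
    simp
  rw [Hensel.depth_congr (Submodule.quotEquivOfEq _ _ hmN)]
  exact (Alg6.depth_eq_of_semilinear (Ideal.Quotient.mk ((maximalIdeal A).map (algebraMap A B)))
    Ideal.Quotient.mk_surjective (AddEquiv.refl _) fun r x => rfl).symm

/-- Purity of the reductions modulo all ideals of the base. -/
theorem purityHolds_quot_map [IsLocalRing (B ⧸ (maximalIdeal A).map (algebraMap A B))]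
    (hd : (2 : ℕ∞) ≤ LocCoh.depth (B ⧸ (maximalIdeal A).map (algebraMap A B)) (B ⧸ (maximalIdeal A).map (algebraMap A B)))
    (h0 : FEt.PurityHolds (B ⧸ (maximalIdeal A).map (algebraMap A B))) :
    ∀ I : Ideal A, I ≤ maximalIdeal A → ∀ [IsLocalRing (B ⧸ I.map (algebraMap A B))],
      FEt.PurityHolds (B ⧸ I.map (algebraMap A B)) := by
  intro I
  induction I using WellFoundedGT.induction with
  | _ I ih =>
    intro hI _
    let π := algebraMap A B
    have hloc : ∀ J : Ideal A, J ≤ maximalIdeal A → IsLocalRing (B ⧸ J.map π) := fun J hJ => by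
      haveI : Nontrivial (B ⧸ J.map π) := Ideal.Quotient.nontrivial_iff.2 fun h =>
        (maximalIdeal.isMaximal B).ne_top (top_le_iff.1 (h ▸ (Ideal.map_mono hJ).trans (IsLocalRing.map_maximalIdeal_le π)))
      exact IsLocalRing.of_surjective' _ Ideal.Quotient.mk_surjective
    -- a larger ideal with the same radical
    have step : ∀ J : Ideal A, I ≤ J → J ≤ maximalIdeal A → J ≤ I.radical →
        (∀ [IsLocalRing (B ⧸ J.map π)], FEt.PurityHolds (B ⧸ J.map π)) → FEt.PurityHolds (B ⧸ I.map π) := by
      intro J hIJ hJ hrad hp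
      haveI := hloc J hJ
      let J' := (J.map π).map (Ideal.Quotient.mk (I.map π))
      let e : (B ⧸ I.map π) ⧸ J' ≃+* B ⧸ J.map π := DoubleQuot.quotQuotEquivQuotOfLE (Ideal.map_mono hIJ)
      haveI : Nontrivial ((B ⧸ I.map π) ⧸ J') := e.toEquiv.nontrivial
      haveI : IsLocalRing ((B ⧸ I.map π) ⧸ J') := IsLocalRing.of_surjective' _ Ideal.Quotient.mk_surjective
      refine purityHolds_of_nil_quot J' ?_ (purityHolds_of_ringEquiv e.symm hp)
      refine Ideal.map_le_iff_le_comap.2 (Ideal.map_le_iff_le_comap.2 fun a ha => ?_)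
      obtain ⟨k, hk⟩ := hrad ha
      refine ⟨k, ?_⟩
      rw [← map_pow, ← map_pow, Ideal.zero_eq_bot, Ideal.mem_bot, Ideal.Quotient.eq_zero_iff_mem]
      exact Ideal.mem_map_of_mem π hk
    by_cases hart : maximalIdeal A ≤ I.radical
    · exact step _ hI le_rfl hart h0
    by_cases hass : ∃ x, x ∉ I ∧ ∀ a ∈ maximalIdeal A, a * x ∈ I
    · obtain ⟨x, hxI, hx⟩ := hass
      have hxm : x ∈ maximalIdeal A := by
        rw [mem_maximalIdeal]
        intro hu
        exact hart fun a ha => Ideal.le_radical ((Ideal.mul_unit_mem_iff_mem I hu).1 (hx a ha))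
      refine step (I ⊔ Ideal.span {x}) le_sup_left (sup_le hI ((Ideal.span_singleton_le_iff_mem _).2 hxm))
        (sup_le Ideal.le_radical ((Ideal.span_singleton_le_iff_mem _).2 ⟨2, by rw [sq]; exact hx x hxm⟩)) ?_
      intro _
      exact ih _ (left_lt_sup.2 fun h => hxI (h (Ideal.mem_span_singleton_self x)))
        (sup_le hI ((Ideal.span_singleton_le_iff_mem _).2 hxm))
    · haveI : Nontrivial (A ⧸ I) := Ideal.Quotient.nontrivial_iff.2
        fun h => (maximalIdeal.isMaximal A).ne_top (top_le_iff.1 (h ▸ hI))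
      obtain ⟨t, htm, htreg⟩ := (Alg6.exists_isSMulRegular_mem_iff (M := A ⧸ I) (maximalIdeal A)).2 fun p hp hle => by
        obtain rfl := (maximalIdeal.isMaximal A).eq_of_le (IsAssociatedPrime.isPrime hp).ne_top hle
        obtain ⟨-, z, hz⟩ := Alg6.mem_ass_iff.1 hp
        obtain ⟨x, rfl⟩ := Ideal.Quotient.mk_surjective z
        refine hass ⟨x, fun hxI => (maximalIdeal.isMaximal A).ne_top ((Ideal.eq_top_iff_one _).2 ((hz 1).2 ?_)), fun a ha => ?_⟩
        · rw [one_smul]
          exact Ideal.Quotient.eq_zero_iff_mem.2 hxI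
        · exact Ideal.Quotient.eq_zero_iff_mem.1 ((hz a).1 ha)
      have htI : t ∉ I := fun h => by
        have h1 := htreg (show t • (1 : A ⧸ I) = t • 0 by
          rw [smul_zero, Algebra.smul_def, mul_one]
          exact Ideal.Quotient.eq_zero_iff_mem.2 h)
        exact one_ne_zero h1
      let J := I ⊔ Ideal.span {t}
      have hJ : J ≤ maximalIdeal A := sup_le hI ((Ideal.span_singleton_le_iff_mem _).2 htm)
      haveI := hloc J hJ
      let R := B ⧸ I.map π
      let τ : R := Ideal.Quotient.mk (I.map π) (π t)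
      have hτ : τ ∈ maximalIdeal R := by
        haveI : IsLocalHom (Ideal.Quotient.mk (I.map π)) := Function.Surjective.isLocalHom _ Ideal.Quotient.mk_surjective
        exact map_nonunit _ _ (map_nonunit π t htm)
      have hreg : IsSMulRegular R τ := by
        let e := Algebra.TensorProduct.quotIdealMapEquivTensorQuot B I
        intro a b hab
        apply e.injective
        have h : Function.Injective ((LinearMap.lsmul A (A ⧸ I) t).lTensor B) :=
          Module.Flat.lTensor_preserves_injective_linearMap _ htreg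
        apply h
        rw [show (LinearMap.lsmul A (A ⧸ I) t).lTensor B = LinearMap.lsmul A (B ⊗[A] (A ⧸ I)) t from
          TensorProduct.ext' fun s m => by simp [TensorProduct.smul_tmul']]
        show t • e a = t • e b
        rw [← algebraMap_smul B t (e a), ← algebraMap_smul B t (e b), ← map_smul, ← map_smul]
        exact congrArg e hab
      have hs : Ideal.span {τ} = (J.map π).map (Ideal.Quotient.mk (I.map π)) := by
        show _ = ((I ⊔ Ideal.span {t}).map π).map _
        rw [Ideal.map_sup, Ideal.map_sup, Ideal.map_quotient_self, bot_sup_eq, Ideal.map_span, Set.image_singleton,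
          Ideal.map_span, Set.image_singleton]
      let e : R ⧸ Ideal.span {τ} ≃+* B ⧸ J.map π :=
        (Ideal.quotEquivOfEq hs).trans (DoubleQuot.quotQuotEquivQuotOfLE (Ideal.map_mono le_sup_left))
      haveI : Nontrivial (R ⧸ Ideal.span {τ}) := e.toEquiv.nontrivial
      haveI : IsLocalRing (R ⧸ Ideal.span {τ}) := IsLocalRing.of_surjective' _ Ideal.Quotient.mk_surjective
      refine purityHolds_of_quot_regular hτ hreg ?_
        (purityHolds_of_ringEquiv e.symm (ih J (left_lt_sup.2 fun h => htI (h (Ideal.mem_span_singleton_self t))) hJ))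
      rw [Alg6.depth_eq_of_semilinear e.toRingHom e.surjective e.toAddEquiv fun r z => map_mul e r z]
      exact le_depth_quot_map hd hJ

/-- Purity of the closed fibre gives purity. -/
theorem purityHolds_of_flat [IsLocalRing (B ⧸ (maximalIdeal A).map (algebraMap A B))]
    (hd : (2 : ℕ∞) ≤ LocCoh.depth (B ⧸ (maximalIdeal A).map (algebraMap A B)) (B ⧸ (maximalIdeal A).map (algebraMap A B)))
    (h0 : FEt.PurityHolds (B ⧸ (maximalIdeal A).map (algebraMap A B))) : FEt.PurityHolds B := by
  let e : B ⧸ (⊥ : Ideal A).map (algebraMap A B) ≃+* B :=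
    (Ideal.quotEquivOfEq Ideal.map_bot).trans (RingEquiv.quotientBot B)
  haveI : Nontrivial (B ⧸ (⊥ : Ideal A).map (algebraMap A B)) := e.toEquiv.nontrivial
  haveI : IsLocalRing (B ⧸ (⊥ : Ideal A).map (algebraMap A B)) := IsLocalRing.of_surjective' _ Ideal.Quotient.mk_surjective
  exact purityHolds_of_ringEquiv e (purityHolds_quot_map hd h0 ⊥ bot_le)

end Groth.Agent.PurX
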