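import Groth.Agent.HensCouple7.Gamma
import Mathlib.Algebra.Category.Ring.Constructions
import Mathlib.RingTheory.TensorProduct.Basic

/-!
# Global functions after flat base change of the ground ring
-/

set_option autoImplicit false
set_option linter.style.haveILetI false

universe u

open CategoryTheory CategoryTheory.Limits AlgebraicGeometry TensorProduct

noncomputable section

namespace Groth.Agent.PurX

/-- The ring map of a scheme over an affine scheme. -/
abbrev struct {X : Scheme.{u}} {R : CommRingCat.{u}} (T : X ⟶ Spec R) : R ⟶ Γ(X, ⊤) :=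
  (Scheme.ΓSpecIso R).inv ≫ T.appTop

theorem struct_eq {X : Scheme.{u}} {R : CommRingCat.{u}} (T : X ⟶ Spec R) :
    X.toSpecΓ ≫ Spec.map (struct T) = T := by
  rw [Spec.map_comp, ← Scheme.toSpecΓ_naturality_assoc, toSpecΓ_SpecMap_ΓSpecIso_inv, Category.comp_id]

theorem struct_comp {X Y : Scheme.{u}} {R : CommRingCat.{u}} (f : X ⟶ Y) (T : Y ⟶ Spec R) :
    struct (f ≫ T) = struct T ≫ f.appTop := by
  simp [struct]

theorem struct_comp_spec {X : Scheme.{u}} {R S : CommRingCat.{u}} (T : X ⟶ Spec S) (φ : R ⟶ S) :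
    struct (T ≫ Spec.map φ) = φ ≫ struct T := by
  simp [struct]

/-- Flat base change of global functions. -/
theorem exists_gamma_baseChange {A A' : Type u} [CommRing A] [CommRing A'] [Algebra A A'] [Module.Flat A A']
    {X X' : Scheme.{u}} [CompactSpace X] [QuasiSeparatedSpace X] {T : X ⟶ Spec (CommRingCat.of A)}
    {p₁ : X' ⟶ X} {p₂ : X' ⟶ Spec (CommRingCat.of A')}
    (H : IsPullback p₁ p₂ T (Spec.map (CommRingCat.ofHom (algebraMap A A'))))
    [Algebra A Γ(X, ⊤)] (hT : CommRingCat.ofHom (algebraMap A Γ(X, ⊤)) = struct T) :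
    ∃ θ : A' ⊗[A] Γ(X, ⊤) ≃+* Γ(X', ⊤),
      (∀ a : A', θ (a ⊗ₜ 1) = struct p₂ a) ∧ ∀ x : Γ(X, ⊤), θ (1 ⊗ₜ x) = p₁.appTop x := by
  let c := Spec.map (CommRingCat.ofHom (algebraMap A A'))
  haveI : Flat c := (HasRingHomProperty.Spec_iff (P := @Flat)).2 (RingHom.flat_algebraMap_iff.2 inferInstance)
  have h1 := (HensCouple7.isPushout_appTop H).flip
  have hnat : (Scheme.ΓSpecIso (CommRingCat.of A)).inv ≫ c.appTop =
      CommRingCat.ofHom (algebraMap A A') ≫ (Scheme.ΓSpecIso (CommRingCat.of A')).inv :=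
    (Scheme.ΓSpecIso_inv_naturality _).symm
  have h2 : IsPushout (CommRingCat.ofHom (algebraMap A A')) (struct T) (struct p₂) p₁.appTop := by
    refine h1.of_iso (Scheme.ΓSpecIso _) (Scheme.ΓSpecIso _) (Iso.refl _) (Iso.refl _) ?_ ?_ ?_ ?_
    · rw [← cancel_epi (Scheme.ΓSpecIso (CommRingCat.of A)).inv, Iso.inv_hom_id_assoc, reassoc_of% hnat,
        Iso.inv_hom_id, Category.comp_id]
    · simp [struct]
    · simp [struct]
    · simp
  rw [← hT] at h2
  let e := (CommRingCat.isPushout_tensorProduct A A' Γ(X, ⊤)).isoPushout ≪≫ h2.isoPushout.symm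
  refine ⟨e.commRingCatIsoToRingEquiv, fun a => ?_, fun x => ?_⟩
  · have := (CommRingCat.isPushout_tensorProduct A A' Γ(X, ⊤)).inl_isoPushout_hom
    have he : (CommRingCat.ofHom Algebra.TensorProduct.includeLeftRingHom :
        CommRingCat.of A' ⟶ CommRingCat.of (A' ⊗[A] Γ(X, ⊤))) ≫ e.hom = struct p₂ := by
      simp [e, reassoc_of% this]
    exact congr($he a)
  · have := (CommRingCat.isPushout_tensorProduct A A' Γ(X, ⊤)).inr_isoPushout_hom
    have he : (CommRingCat.ofHom Algebra.TensorProduct.includeRight.toRingHom :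
        CommRingCat.of Γ(X, ⊤) ⟶ CommRingCat.of (A' ⊗[A] Γ(X, ⊤))) ≫ e.hom = p₁.appTop := by
      simp [e, reassoc_of% this]
    exact congr($he x)

end Groth.Agent.PurX
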