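import Groth.Agent.PurX.GlueCompletion
import Groth.Agent.PurX.TorsionOff
import Groth.Agent.PurX.GammaBC
import Groth.Agent.PurX.Completion
import Groth.Agent.PurX.Bridge
import Mathlib.RingTheory.Finiteness.Descent
import Mathlib.RingTheory.Etale.Descent
import Mathlib.AlgebraicGeometry.Morphisms.FlatDescent

/-!
# A cover of the punctured spectrum which extends over the completion extends
-/

set_option autoImplicit false
set_option linter.style.haveILetI false

universe u

open CategoryTheory CategoryTheory.Limits AlgebraicGeometry TensorProduct IsLocalRing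
open Groth.Agent.Pi1Ext Groth.Agent.Pi1Ext.RegPurity

set_option backward.isDefEq.respectTransparency false

noncomputable section

namespace Groth.Agent.PurX

variable (A : Type u) [CommRing A] [IsLocalRing A] [IsNoetherianRing A]

section Model

variable {A}
variable {A' : Type u} [CommRing A'] [Algebra A A'] [Module.FaithfullyFlat A A']
  {V : FEt.Cat (FEt.puncturedSpec A : Scheme.{u})}

/-- A finite étale algebra whose base change models the pullback of `V` models `V`. -/
theorem nonempty_iso_of_model {X' : Scheme.{u}} {p₁ : X' ⟶ V.left} {sv : X' ⟶ pullback (FEt.puncturedSpec A).ι (PuritySch.sp A A')}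
    {Hv : IsPullback p₁ sv V.hom (pullback.fst (FEt.puncturedSpec A).ι (PuritySch.sp A A'))}
    (_HX : IsPullback p₁ (sv ≫ pullback.snd _ _) (V.hom ≫ (FEt.puncturedSpec A).ι) (PuritySch.sp A A'))
    [Algebra A Γ(V.left, ⊤)] (hT : CommRingCat.ofHom (algebraMap A Γ(V.left, ⊤)) = struct (V.hom ≫ (FEt.puncturedSpec A).ι))
    (θ : A' ⊗[A] Γ(V.left, ⊤) ≃+* Γ(X', ⊤)) (hθl : ∀ a : A', θ (a ⊗ₜ 1) = struct (sv ≫ pullback.snd _ _) a)
    (hθr : ∀ x : Γ(V.left, ⊤), θ (1 ⊗ₜ x) = p₁.appTop x)
    {Y₁ : Scheme.{u}} [IsAffine Y₁] {y : Y₁ ⟶ Spec (CommRingCat.of A')} [Algebra A' Γ(Y₁, ⊤)]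
    (hy : Y₁.isoSpec.hom ≫ PuritySch.sp A' Γ(Y₁, ⊤) = y)
    (m : X' ⟶ Y₁) (HY : IsPullback m sv y (pullback.snd (FEt.puncturedSpec A).ι (PuritySch.sp A A')))
    {P : Type u} [CommRing P] [Algebra A P] (hP : FEt.prop (PuritySch.sp A P))
    (π : P →ₐ[A] Γ(V.left, ⊤)) (Φ : A' ⊗[A] P ≃ₐ[A'] Γ(Y₁, ⊤))
    (hΦ : ∀ x, m.appTop (Φ x) = θ (Algebra.TensorProduct.map (AlgHom.id A' A') π x)) :
    Nonempty ((FEt.restrict (FEt.puncturedSpec A).ι).obj (MorphismProperty.Over.mk ⊤ (PuritySch.sp A P) hP) ≅ V) := by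
  let Uι := (FEt.puncturedSpec A).ι
  let c := PuritySch.sp A A'
  let u₁ := pullback.fst Uι c
  let u₂ := pullback.snd Uι c
  let v : V.left ⟶ (FEt.puncturedSpec A : Scheme.{u}) := V.hom
  let T : V.left ⟶ Spec (CommRingCat.of A) := v ≫ Uι
  let t : V.left ⟶ Spec (CommRingCat.of P) := V.left.toSpecΓ ≫ Spec.map (CommRingCat.ofHom π.toRingHom)
  have ht : t ≫ PuritySch.sp A P = T := by
    rw [Category.assoc, ← Spec.map_comp]
    refine Eq.trans ?_ (struct_eq T)
    rw [← hT]
    congr 2
    ext a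
    exact π.commutes a
  let q : V.left ⟶ pullback (PuritySch.sp A P) Uι := pullback.lift t v ht
  let R := PuritySch.rest A P
  have hq : q ≫ R = v := pullback.lift_snd _ _ _
  let Z := pullback R u₁
  let k : X' ⟶ Z := pullback.lift (p₁ ≫ q) sv (by
    rw [Category.assoc, hq]
    exact Hv.w)
  have Hk : IsPullback p₁ k q (pullback.fst R u₁) :=
    IsPullback.of_bot (v₂₁ := pullback.snd R u₁) (v₂₂ := R)
      (by rw [show k ≫ pullback.snd R u₁ = sv from pullback.lift_snd _ _ _, hq]; exact Hv)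
      (pullback.lift_fst _ _ _).symm (IsPullback.of_hasPullback R u₁)
  -- `k` is an isomorphism
  let l : Z ⟶ pullback c (PuritySch.sp A P) := pullback.lift (pullback.snd R u₁ ≫ u₂)
    (pullback.fst R u₁ ≫ pullback.fst _ _) (by
      rw [Category.assoc, Category.assoc, show u₂ ≫ c = u₁ ≫ Uι from pullback.condition.symm,
        ← reassoc_of% (pullback.condition (f := R) (g := u₁)), pullback.condition (f := PuritySch.sp A P)])
  have Hl : IsPullback l (pullback.snd R u₁) (pullback.fst c (PuritySch.sp A P)) u₂ := by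
    refine IsPullback.of_right (h₁₂ := pullback.snd c (PuritySch.sp A P)) ?_ (pullback.lift_fst _ _ _)
      (IsPullback.of_hasPullback c (PuritySch.sp A P)).flip
    rw [show l ≫ pullback.snd c (PuritySch.sp A P) = _ from pullback.lift_snd _ _ _,
      show u₂ ≫ c = u₁ ≫ Uι from pullback.condition.symm]
    exact (IsPullback.of_hasPullback R u₁).paste_horiz (IsPullback.of_hasPullback _ Uι)
  let ε : pullback c (PuritySch.sp A P) ≅ Y₁ :=
    pullbackSpecIso A A' P ≪≫ Scheme.Spec.mapIso Φ.symm.toRingEquiv.toCommRingCatIso.op ≪≫ Y₁.isoSpec.symm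
  have hε : ε.hom ≫ y = pullback.fst c (PuritySch.sp A P) := by
    rw [← hy]
    simp only [ε, Iso.trans_hom, Category.assoc, Iso.symm_hom, Iso.inv_hom_id_assoc]
    show (pullbackSpecIso A A' P).hom ≫ Spec.map _ ≫ Spec.map _ = _
    rw [← Spec.map_comp, ← pullbackSpecIso_hom_fst' A A' P]
    congr 2
    ext a
    exact Φ.symm.commutes a
  have Hε : IsPullback (l ≫ ε.hom) (pullback.snd R u₁) y u₂ :=
    Hl.of_iso (Iso.refl _) ε (Iso.refl _) (Iso.refl _) (by simp) (by simp) (by simpa using hε.symm) (by simp)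
  have hk2 : k ≫ pullback.snd R u₁ = sv := pullback.lift_snd _ _ _
  have hkm : k ≫ l ≫ ε.hom = m := by
    let κ : A' ⊗[A] P →+* Γ(X', ⊤) := θ.toRingHom.comp (Algebra.TensorProduct.map (AlgHom.id A' A') π).toRingHom
    have hκ : CommRingCat.ofHom κ = CommRingCat.ofHom Φ.toRingEquiv.toRingHom ≫ m.appTop :=
      CommRingCat.hom_ext (RingHom.ext fun x => (hΦ x).symm)
    have hl1 : l ≫ pullback.fst c (PuritySch.sp A P) = pullback.snd R u₁ ≫ u₂ := pullback.lift_fst _ _ _
    have hl2 : l ≫ pullback.snd c (PuritySch.sp A P) = pullback.fst R u₁ ≫ pullback.fst _ _ := pullback.lift_snd _ _ _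
    have hk1 : k ≫ pullback.fst R u₁ = p₁ ≫ q := pullback.lift_fst _ _ _
    have hq1 : q ≫ pullback.fst (PuritySch.sp A P) Uι = t := pullback.lift_fst _ _ _
    have h1 : k ≫ l ≫ (pullbackSpecIso A A' P).hom = X'.toSpecΓ ≫ Spec.map (CommRingCat.ofHom κ) := by
      rw [← cancel_mono (pullbackSpecIso A A' P).inv]
      simp only [Category.assoc, Iso.hom_inv_id, Category.comp_id]
      refine pullback.hom_ext ?_ ?_
      · rw [Category.assoc, hl1, reassoc_of% hk2, Category.assoc, Category.assoc, pullbackSpecIso_inv_fst,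
          ← struct_eq (sv ≫ u₂), ← Spec.map_comp]
        congr 2
        ext a
        refine (hθl a).symm.trans ?_
        show θ _ = θ (Algebra.TensorProduct.map (AlgHom.id A' A') π (a ⊗ₜ[A] 1))
        rw [Algebra.TensorProduct.map_tmul, map_one]
        rfl
      · rw [Category.assoc, hl2, reassoc_of% hk1, hq1, Category.assoc, Category.assoc, pullbackSpecIso_inv_snd]
        show p₁ ≫ V.left.toSpecΓ ≫ _ = _
        rw [Scheme.toSpecΓ_naturality_assoc, ← Spec.map_comp, ← Spec.map_comp]
        congr 2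
        ext a
        refine (hθr (π a)).symm.trans ?_
        show θ _ = θ (Algebra.TensorProduct.map (AlgHom.id A' A') π ((1 : A') ⊗ₜ[A] a))
        rw [Algebra.TensorProduct.map_tmul, map_one]
    simp only [ε, Iso.trans_hom, Iso.symm_hom]
    rw [reassoc_of% h1, hκ, Spec.map_comp, Category.assoc, ← Scheme.toSpecΓ_naturality_assoc]
    have hcancel : Spec.map (CommRingCat.ofHom Φ.toRingEquiv.toRingHom) ≫
        (Scheme.Spec.mapIso Φ.symm.toRingEquiv.toCommRingCatIso.op).hom = 𝟙 _ := by
      show Spec.map _ ≫ Spec.map _ = _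
      rw [← Spec.map_comp, ← Spec.map_id]
      congr 1
      ext b
      exact Φ.apply_symm_apply b
    rw [reassoc_of% hcancel]
    show m ≫ Y₁.isoSpec.hom ≫ Y₁.isoSpec.inv = m
    rw [Iso.hom_inv_id, Category.comp_id]
  haveI : IsIso k := by
    let k' : Z ⟶ X' := HY.lift (l ≫ ε.hom) (pullback.snd R u₁) Hε.w
    refine ⟨k', HY.hom_ext ?_ ?_, Hε.hom_ext ?_ ?_⟩
    · rw [Category.assoc, HY.lift_fst, hkm, Category.id_comp]
    · rw [Category.assoc, HY.lift_snd, hk2, Category.id_comp]
    · rw [Category.assoc, hkm, HY.lift_fst, Category.id_comp]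
    · rw [Category.assoc, hk2, HY.lift_snd, Category.id_comp]
  haveI : IsIso q := by
    haveI : Flat c := (HasRingHomProperty.Spec_iff (P := @Flat)).2 (RingHom.flat_algebraMap_iff.2 inferInstance)
    haveI : Surjective c := ⟨PrimeSpectrum.comap_surjective_of_faithfullyFlat⟩
    haveI : QuasiCompact c := inferInstance
    have ha : (@Surjective ⊓ @Flat ⊓ @QuasiCompact : MorphismProperty Scheme.{u}) (pullback.fst R u₁) :=
      ⟨⟨MorphismProperty.pullback_fst _ _ (MorphismProperty.pullback_fst _ _ ‹_›),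
        MorphismProperty.pullback_fst _ _ (MorphismProperty.pullback_fst _ _ ‹_›)⟩,
        MorphismProperty.pullback_fst _ _ (MorphismProperty.pullback_fst _ _ ‹_›)⟩
    exact MorphismProperty.of_isPullback_of_descendsAlong (P := MorphismProperty.isomorphisms Scheme.{u})
      (Q := @Surjective ⊓ @Flat ⊓ @QuasiCompact) Hk.flip ha ‹IsIso k›
  refine ⟨(MorphismProperty.Over.isoMk (asIso q) ?_).symm⟩
  exact hq

end Model

set_option maxHeartbeats 1000000 in
/-- A cover extends if its pullback to the completion extends. -/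
theorem exists_extension_of_completion (V : FEt.Cat (FEt.puncturedSpec A : Scheme.{u}))
    (Y' : FEt.Cat (Spec (CommRingCat.of (Cpl A))))
    (e : (FEt.restrict (pullback.snd (FEt.puncturedSpec A).ι (PuritySch.sp A (Cpl A)))).obj Y' ≅
      (FEt.restrict (pullback.fst (FEt.puncturedSpec A).ι (PuritySch.sp A (Cpl A)))).obj V) :
    ∃ Y : FEt.Cat (Spec (CommRingCat.of A)), Nonempty ((FEt.restrict (FEt.puncturedSpec A).ι).obj Y ≅ V) := by
  obtain ⟨N₀, g, hg⟩ : ∃ (n : ℕ) (g : Fin n → A), Ideal.span (Set.range g) = maximalIdeal A :=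
    Submodule.fg_iff_exists_fin_generating_family.1 (IsNoetherian.noetherian _)
  let Uι := (FEt.puncturedSpec A).ι
  let c := PuritySch.sp A (Cpl A)
  let u₁ := pullback.fst Uι c
  let u₂ := pullback.snd Uι c
  let v : V.left ⟶ (FEt.puncturedSpec A : Scheme.{u}) := V.hom
  haveI : IsFinite v := V.prop.1
  haveI : CompactSpace V.left := QuasiCompact.compactSpace_of_compactSpace v
  haveI : QuasiCompact Uι := inferInstance
  let T : V.left ⟶ Spec (CommRingCat.of A) := v ≫ Uι
  haveI : QuasiSeparatedSpace V.left := by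
    haveI : QuasiSeparated T := inferInstance
    exact quasiSeparatedSpace_of_quasiSeparated T
  let X' := pullback v u₁
  let p₁ : X' ⟶ V.left := pullback.fst v u₁
  let p₂ : X' ⟶ Spec (CommRingCat.of (Cpl A)) := pullback.snd v u₁ ≫ u₂
  have HX : IsPullback p₁ p₂ T c :=
    (IsPullback.of_hasPullback v u₁).paste_vert (IsPullback.of_hasPullback Uι c)
  letI : Algebra A Γ(V.left, ⊤) := (struct T).hom.toAlgebra
  obtain ⟨θ, hθl, hθr⟩ := exists_gamma_baseChange HX rfl
  -- the algebra over the completion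
  let y : Y'.left ⟶ Spec (CommRingCat.of (Cpl A)) := Y'.hom
  haveI : IsFinite y := Y'.prop.1
  haveI : IsAffine Y'.left := isAffine_of_isAffineHom y
  let B' := Γ(Y'.left, ⊤)
  letI : Algebra (Cpl A) B' := (struct y).hom.toAlgebra
  letI : Algebra A B' := ((algebraMap (Cpl A) B').comp (algebraMap A (Cpl A))).toAlgebra
  haveI : IsScalarTower A (Cpl A) B' := IsScalarTower.of_algebraMap_eq fun _ => rfl
  have hy : Y'.left.isoSpec.hom ≫ PuritySch.sp (Cpl A) B' = y := struct_eq y
  have hB : Module.Finite (Cpl A) B' ∧ Algebra.Etale (Cpl A) B' := by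
    refine PuritySch.fet_sp_iff.1 ?_
    rw [← MorphismProperty.cancel_left_of_respectsIso (P := FEt.prop) Y'.left.isoSpec.hom, hy]
    exact Y'.prop
  haveI := hB.1
  haveI := hB.2
  -- the comparison map
  let r₀ : X' ⟶ pullback y u₂ := e.inv.left
  have hr₀ : r₀ ≫ pullback.snd y u₂ = pullback.snd v u₁ := MorphismProperty.Over.w e.inv
  haveI : IsIso r₀ := ⟨e.hom.left, congrArg (fun t => t.left) e.inv_hom_id, congrArg (fun t => t.left) e.hom_inv_id⟩
  haveI : IsOpenImmersion u₂ := MorphismProperty.pullback_snd _ _ inferInstance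
  haveI : IsOpenImmersion (pullback.fst y u₂) := MorphismProperty.pullback_fst _ _ inferInstance
  let m : X' ⟶ Y'.left := r₀ ≫ pullback.fst y u₂
  haveI : IsOpenImmersion m := inferInstance
  have hm : m ≫ y = p₂ := by
    rw [Category.assoc, pullback.condition, reassoc_of% hr₀]
  have HY : IsPullback m (pullback.snd v u₁) y u₂ :=
    (IsPullback.of_hasPullback y u₂).of_iso (asIso r₀).symm (Iso.refl _) (Iso.refl _) (Iso.refl _)
      (by simp [m]) (by simp [← hr₀]) (by simp) (by simp)
  -- the torsion conditions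
  haveI : QuasiCompact u₂ := MorphismProperty.pullback_snd _ _ inferInstance
  haveI : CompactSpace X' := by
    haveI : CompactSpace ↥(pullback Uι c) := QuasiCompact.compactSpace_of_compactSpace u₂
    haveI : IsFinite (pullback.snd v u₁) := MorphismProperty.pullback_snd _ _ inferInstance
    exact QuasiCompact.compactSpace_of_compactSpace (pullback.snd v u₁)
  haveI : QuasiSeparatedSpace X' := by
    haveI : QuasiSeparated p₂ := inferInstance
    exact quasiSeparatedSpace_of_quasiSeparated p₂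
  let ψ₀ : B' →+* Γ(X', ⊤) := m.appTop.hom
  have hψ₀ : ∀ a : Cpl A, ψ₀ (algebraMap (Cpl A) B' a) = struct p₂ a := fun a => by
    rw [← hm, struct_comp]
    rfl
  let ψ : B' →ₐ[Cpl A] Cpl A ⊗[A] Γ(V.left, ⊤) :=
    { θ.symm.toRingHom.comp ψ₀ with
      commutes' := fun a => by
        show θ.symm (ψ₀ (algebraMap (Cpl A) B' a)) = _
        rw [hψ₀, ← hθl, RingEquiv.symm_apply_apply]
        rfl }
  have hopen : ∀ i, Y'.left.basicOpen (algebraMap A B' (g i)) ≤ m.opensRange := by
    intro i z hz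
    have hu : y.base z ∈ Set.range u₂.base := by
      rw [show Set.range u₂.base = _ from Scheme.Pullback.range_snd _ _, Set.mem_preimage]
      refine (mem_range_punctured hg _).2 ⟨i, fun hmem => ?_⟩
      have hz' : Y'.left.isoSpec.hom.base z ∈ PrimeSpectrum.basicOpen (algebraMap A B' (g i)) := by
        have := Scheme.toSpecΓ_preimage_basicOpen Y'.left (algebraMap A B' (g i))
        exact (SetLike.ext_iff.1 this z).2 hz
      rw [← hy] at hmem
      exact hz' hmem
    obtain ⟨w, hw⟩ := hu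
    obtain ⟨q, hq, -⟩ := Scheme.exists_preimage_of_isPullback HY z w hw.symm
    exact ⟨q, hq⟩
  have htor := fun i => torsion_of_isOpenImmersion m (algebraMap A B' (g i)) (hopen i)
  have hψsmul : ∀ (a : A) (b : B'), ψ (a • b) = a • ψ b := fun a b => (ψ.restrictScalars A).toLinearMap.map_smul a b
  have hJ : ∀ I : Ideal A, (∀ i, g i ∈ I.radical) → ∃ n : ℕ, ∀ j ∈ maximalIdeal A ^ n, j ∈ I := by
    intro I hI
    obtain ⟨n, hn⟩ := Ideal.exists_pow_le_of_le_radical_of_fg (I := maximalIdeal A) (J := I)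
      (by rw [← hg, Ideal.span_le]; rintro _ ⟨i, rfl⟩; exact hI i) (IsNoetherian.noetherian _)
    exact ⟨n, fun j hj => hn hj⟩
  have hker : ∀ b, ψ b = 0 → ∃ n : ℕ, ∀ j ∈ maximalIdeal A ^ n, j • b = 0 := by
    intro b hb
    have hb' : m.appTop b = 0 := θ.symm.injective (hb.trans (map_zero θ.symm).symm)
    refine (hJ (LinearMap.ker (LinearMap.toSpanSingleton A B' b)) fun i => ?_).imp fun n hn j hj => hn j hj
    obtain ⟨n, hn⟩ := (htor i).2 b hb'
    exact ⟨n, by rw [LinearMap.mem_ker, LinearMap.toSpanSingleton_apply, Algebra.smul_def, map_pow]; exact hn⟩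
  have hcok : ∀ z, ∃ n : ℕ, ∀ j ∈ maximalIdeal A ^ n, j • z ∈ Set.range ψ := by
    intro z
    refine (hJ ((LinearMap.range (ψ.restrictScalars A).toLinearMap).comap (LinearMap.toSpanSingleton A _ z))
      fun i => ?_).imp fun n hn j hj => hn j hj
    obtain ⟨n, b, hb⟩ := (htor i).1 (θ z)
    refine ⟨n, b, ?_⟩
    show ψ b = g i ^ n • z
    have hw : m.appTop (algebraMap A B' (g i)) = θ (algebraMap A (Cpl A ⊗[A] Γ(V.left, ⊤)) (g i)) := by
      show ψ₀ _ = _
      rw [IsScalarTower.algebraMap_apply A (Cpl A) B', hψ₀, ← hθl]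
      rfl
    show θ.symm (m.appTop b) = _
    rw [← hb, hw, map_mul θ.symm, map_pow θ.symm, RingEquiv.symm_apply_apply, RingEquiv.symm_apply_apply,
      ← map_pow]
    exact (Algebra.smul_def (g i ^ n) z).symm
  -- the glued algebra
  let P := glue ψ
  let Φ := AlgEquiv.ofBijective (glueHom ψ)
    (glueHom_bijective ψ (J := maximalIdeal A) (exists_cpl_approx A) hker hcok)
  haveI : Module.Finite (Cpl A) (Cpl A ⊗[A] P) := Module.Finite.equiv Φ.symm.toLinearEquiv
  haveI : Algebra.Etale (Cpl A) (Cpl A ⊗[A] P) := Algebra.Etale.of_equiv Φ.symm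
  haveI : Module.Finite A P := Module.Finite.of_finite_tensorProduct_of_faithfullyFlat (Cpl A)
  haveI : Algebra.Etale A P := Algebra.Etale.of_etale_tensorProduct_of_faithfullyFlat (Cpl A)
  let Y : FEt.Cat (Spec (CommRingCat.of A)) :=
    MorphismProperty.Over.mk ⊤ (PuritySch.sp A P) (PuritySch.fet_sp_iff.2 ⟨inferInstance, inferInstance⟩)
  refine ⟨Y, ⟨(nonempty_iso_of_model (Hv := IsPullback.of_hasPullback v u₁) HX rfl θ hθl hθr hy m HY _
    ((AlgHom.fst A Γ(V.left, ⊤) B').comp P.val) Φ ?_).some⟩⟩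
  intro x
  show ψ₀ (glueHom ψ x) = _
  exact (θ.apply_symm_apply _).symm.trans (congrArg θ (psi_glueHom ψ x))

end Groth.Agent.PurX
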