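import Mathlib.RingTheory.Flat.FaithfullyFlat.Algebra
import Mathlib.RingTheory.TensorProduct.Basic
import Mathlib.Algebra.Algebra.Subalgebra.Basic
import Mathlib.RingTheory.Finiteness.Basic

/-!
# Formal glueing along a dense flat extension

An algebra over `A` and an algebra over `A'` which agree, over `A'`, up to `J`-power torsion come
from one algebra over `A`.
-/

set_option autoImplicit false

universe u

open TensorProduct

namespace Groth.Agent.PurX

variable {A : Type u} [CommRing A] {A' : Type u} [CommRing A'] [Algebra A A']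
  {C : Type u} [CommRing C] [Algebra A C] {B' : Type u} [CommRing B'] [Algebra A B'] [Algebra A' B']
  [IsScalarTower A A' B'] (ψ : B' →ₐ[A'] A' ⊗[A] C)

/-- The glued algebra. -/
def glue : Subalgebra A (C × B') :=
  AlgHom.equalizer
    ((Algebra.TensorProduct.includeRight : C →ₐ[A] A' ⊗[A] C).comp (AlgHom.fst A C B'))
    ((ψ.restrictScalars A).comp (AlgHom.snd A C B'))

theorem mem_glue {p : C × B'} : p ∈ glue ψ ↔ (1 : A') ⊗ₜ[A] p.1 = ψ p.2 := Iff.rfl

/-- The comparison of the glued algebra with the algebra over `A'`. -/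
noncomputable def glueHom : A' ⊗[A] glue ψ →ₐ[A'] B' :=
  Algebra.TensorProduct.lift (Algebra.ofId A' B') ((AlgHom.snd A C B').comp (glue ψ).val)
    fun _ _ => Commute.all _ _

theorem glueHom_tmul (a : A') (p : glue ψ) : glueHom ψ (a ⊗ₜ[A] p) = a • p.1.2 := by
  rw [glueHom, Algebra.TensorProduct.lift_tmul, Algebra.smul_def]
  rfl

theorem psi_glueHom (x : A' ⊗[A] glue ψ) :
    ψ (glueHom ψ x) = Algebra.TensorProduct.map (AlgHom.id A' A') ((AlgHom.fst A C B').comp (glue ψ).val) x := by
  induction x using TensorProduct.induction_on with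
  | zero => simp
  | tmul a p =>
    rw [glueHom_tmul, map_smul, ← (mem_glue ψ).1 p.2, Algebra.TensorProduct.map_tmul, TensorProduct.smul_tmul']
    simp
  | add x y hx hy => rw [map_add, map_add, map_add, hx, hy]

variable [Module.Flat A A'] {J : Ideal A}
  (happrox : ∀ (n : ℕ) (x : A'), ∃ a : A, x - algebraMap A A' a ∈ (J ^ n).map (algebraMap A A'))

include happrox in
/-- Torsion elements come from the base. -/
theorem exists_eq_tmul_one {M : Type u} [AddCommGroup M] [Module A M] (hM : ∀ m : M, ∃ n : ℕ, ∀ j ∈ J ^ n, j • m = 0)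
    (x : A' ⊗[A] M) : ∃ m : M, x = 1 ⊗ₜ[A] m := by
  induction x using TensorProduct.induction_on with
  | zero => exact ⟨0, (TensorProduct.tmul_zero _ _).symm⟩
  | tmul a m =>
    obtain ⟨n, hn⟩ := hM m
    obtain ⟨a₀, ha⟩ := happrox n a
    refine ⟨a₀ • m, ?_⟩
    have h0 : ∀ z ∈ (J ^ n).map (algebraMap A A'), z ⊗ₜ[A] m = (0 : A' ⊗[A] M) := by
      intro z hz
      induction hz using Submodule.span_induction with
      | mem z hz =>
        obtain ⟨j, hj, rfl⟩ := hz
        rw [Algebra.algebraMap_eq_smul_one, TensorProduct.smul_tmul, hn j hj, TensorProduct.tmul_zero]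
      | zero => exact TensorProduct.zero_tmul _ _
      | add z z' _ _ hz hz' => rw [TensorProduct.add_tmul, hz, hz', add_zero]
      | smul b z _ hz =>
        have := congrArg (fun t => b • t) hz
        simpa [TensorProduct.smul_tmul'] using this
    rw [← TensorProduct.smul_tmul, ← Algebra.algebraMap_eq_smul_one, eq_comm, ← sub_eq_zero, ← TensorProduct.sub_tmul,
      ← neg_sub, TensorProduct.neg_tmul, h0 _ ha, neg_zero]
  | add x y hx hy =>
    obtain ⟨m, rfl⟩ := hx
    obtain ⟨m', rfl⟩ := hy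
    exact ⟨m + m', (TensorProduct.tmul_add _ _ _).symm⟩

include happrox in
/-- Formal glueing. -/
theorem glueHom_bijective (hker : ∀ y, ψ y = 0 → ∃ n : ℕ, ∀ j ∈ J ^ n, j • y = 0)
    (hcok : ∀ z, ∃ n : ℕ, ∀ j ∈ J ^ n, j • z ∈ Set.range ψ) : Function.Bijective (glueHom ψ) := by
  let π : glue ψ →ₗ[A] C := ((AlgHom.fst A C B').comp (glue ψ).val).toLinearMap
  constructor
  · rw [injective_iff_map_eq_zero]
    intro x hx
    have hπ : π.lTensor A' x = 0 := by
      have := psi_glueHom ψ x
      rw [hx, map_zero] at this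
      exact this.symm
    have hex := LinearMap.exact_subtype_ker_map π
    obtain ⟨k, rfl⟩ := (@Module.Flat.lTensor_exact A A' _ _ _ _ (LinearMap.ker π) (glue ψ) C _ _ _ _ _ _ (LinearMap.ker π).subtype π hex x).1 hπ
    have hK : ∀ m : LinearMap.ker π, ∃ n : ℕ, ∀ j ∈ J ^ n, j • m = 0 := by
      rintro ⟨⟨⟨c, y⟩, hp⟩, hc⟩
      have hc' : c = 0 := hc
      subst hc'
      have hy : ψ y = 0 := by
        have := (mem_glue ψ).1 hp
        rw [TensorProduct.tmul_zero] at this
        exact this.symm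
      obtain ⟨n, hn⟩ := hker y hy
      exact ⟨n, fun j hj => Subtype.ext (Subtype.ext (Prod.ext (smul_zero j) (hn j hj)))⟩
    obtain ⟨m, rfl⟩ := exists_eq_tmul_one (M := LinearMap.ker π) happrox hK k
    rw [LinearMap.lTensor_tmul, glueHom_tmul, one_smul] at hx
    have hm : m = 0 := Subtype.ext (Subtype.ext (Prod.ext m.2 hx))
    rw [hm, TensorProduct.tmul_zero, map_zero]
  · intro y
    suffices key : ∀ (x : A' ⊗[A] C) (y : B'), ψ y = x → y ∈ (glueHom ψ).range from key _ y rfl
    have hkerR : ∀ y, ψ y = 0 → y ∈ (glueHom ψ).range := fun y hy =>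
      ⟨1 ⊗ₜ ⟨(0, y), by rw [mem_glue, TensorProduct.tmul_zero, hy]⟩, by
        show glueHom ψ (1 ⊗ₜ _) = _
        rw [glueHom_tmul, one_smul]⟩
    -- every element is congruent to one from `C` modulo the image of the glued algebra
    suffices dec : ∀ x : A' ⊗[A] C, ∃ c : C, x - 1 ⊗ₜ c ∈ ((glueHom ψ).range.map ψ) by
      intro x y hy
      obtain ⟨c, y₁, hy₁, he⟩ := dec x
      have hp : (c, y - y₁) ∈ glue ψ := by
        rw [mem_glue, map_sub, hy]
        rw [show ψ y₁ = x - 1 ⊗ₜ c from he]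
        abel
      have h1 : y - y₁ ∈ (glueHom ψ).range := ⟨1 ⊗ₜ ⟨(c, y - y₁), hp⟩, by
        show glueHom ψ (1 ⊗ₜ _) = _
        rw [glueHom_tmul, one_smul]⟩
      simpa using add_mem h1 hy₁
    intro x
    induction x using TensorProduct.induction_on with
    | zero => exact ⟨0, by simp⟩
    | add x x' hx hx' =>
      obtain ⟨c, hc⟩ := hx
      obtain ⟨c', hc'⟩ := hx'
      refine ⟨c + c', ?_⟩
      rw [show x + x' - 1 ⊗ₜ (c + c') = (x - 1 ⊗ₜ c) + (x' - 1 ⊗ₜ c') by rw [TensorProduct.tmul_add]; abel]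
      exact add_mem hc hc'
    | tmul a c =>
      obtain ⟨n, hn⟩ := hcok (1 ⊗ₜ c)
      obtain ⟨a₀, ha⟩ := happrox n a
      refine ⟨a₀ • c, ?_⟩
      rw [← TensorProduct.smul_tmul, ← Algebra.algebraMap_eq_smul_one, ← TensorProduct.sub_tmul]
      generalize a - algebraMap A A' a₀ = w at ha ⊢
      induction ha using Submodule.span_induction with
      | mem z hz =>
        obtain ⟨j, hj, rfl⟩ := hz
        obtain ⟨y', hy'⟩ := hn j hj
        have hp : (j • c, y') ∈ glue ψ := by
          rw [mem_glue, hy', TensorProduct.tmul_smul]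
        refine ⟨glueHom ψ (1 ⊗ₜ ⟨(j • c, y'), hp⟩), ⟨_, rfl⟩, ?_⟩
        show ψ _ = _
        rw [glueHom_tmul, one_smul, hy', Algebra.algebraMap_eq_smul_one, ← TensorProduct.smul_tmul']
      | zero => rw [TensorProduct.zero_tmul]; exact zero_mem _
      | add z z' _ _ hz hz' => rw [TensorProduct.add_tmul]; exact add_mem hz hz'
      | smul b z _ hz =>
        have := Subalgebra.smul_mem _ hz b
        rwa [TensorProduct.smul_tmul'] at this

end Groth.Agent.PurX
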