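import Groth.Agent.Pi1X.FEtGlobal
import Groth.Agent.Pi1X.FEtFull
import Mathlib.RingTheory.Regular.Flat

/-!
# Hartogs for opens whose complement is cut out locally by two-element regular sequences
-/

set_option autoImplicit false
set_option linter.style.haveILetI false

universe u

open CategoryTheory CategoryTheory.Limits AlgebraicGeometry TopologicalSpace Opposite
open Groth.Agent.Pi1X

set_option backward.isDefEq.respectTransparency false

noncomputable section

namespace Groth.Agent.PurX.Good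

/-- A weakly regular pair. -/
def Reg2 {R : Type*} [CommRing R] (a b : R) : Prop :=
  (∀ z, a * z = 0 → z = 0) ∧ ∀ z, a ∣ b * z → a ∣ z

theorem reg2_iff {R : Type u} [CommRing R] (a b : R) :
    Reg2 a b ↔ RingTheory.Sequence.IsWeaklyRegular R [a, b] := by
  rw [RingTheory.Sequence.isWeaklyRegular_cons_iff, RingTheory.Sequence.isWeaklyRegular_cons_iff,
    isSMulRegular_iff_right_eq_zero_of_smul, isSMulRegular_iff_right_eq_zero_of_smul]
  have hmem : ∀ z : R, z ∈ (Ideal.span {a} • (⊤ : Submodule R R)) ↔ a ∣ z := fun z => by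
    rw [smul_eq_mul, Ideal.mul_top, Ideal.mem_span_singleton]
  have hq : ∀ z : R, (Submodule.Quotient.mk z : QuotSMulTop a R) = 0 ↔ a ∣ z := fun z => by
    rw [Submodule.Quotient.mk_eq_zero, ← Submodule.ideal_span_singleton_smul]
    exact hmem z
  refine and_congr Iff.rfl ?_
  simp only [RingTheory.Sequence.IsWeaklyRegular.nil, and_true]
  constructor
  · intro h z
    obtain ⟨z, rfl⟩ := Submodule.Quotient.mk_surjective _ z
    rw [← Submodule.Quotient.mk_smul, hq, hq]
    exact h z
  · intro h z hz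
    exact (hq z).1 (h _ (by rw [← Submodule.Quotient.mk_smul, hq]; exact hz))

theorem Reg2.map {R S : Type u} [CommRing R] [CommRing S] [Algebra R S] [Module.Flat R S] {a b : R}
    (h : Reg2 a b) : Reg2 (algebraMap R S a) (algebraMap R S b) :=
  (reg2_iff _ _).2 (((reg2_iff a b).1 h).of_flat)

theorem Reg2.pow_dvd {R : Type*} [CommRing R] {a b : R} (h : Reg2 a b) (n m : ℕ) {z : R}
    (hz : a ^ n ∣ b ^ m * z) : a ^ n ∣ z := by
  induction n generalizing z with
  | zero => simp
  | succ n ih =>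
    have h1 : a ∣ z := by
      have h0 : a ∣ b ^ m * z := (dvd_pow_self a n.succ_ne_zero).trans hz
      clear hz ih
      induction m with
      | zero => simpa using h0
      | succ m ihm => exact ihm (h.2 _ (by rwa [pow_succ', mul_assoc] at h0))
    obtain ⟨t, rfl⟩ := h1
    obtain ⟨c, hc⟩ := hz
    rw [pow_succ']
    refine mul_dvd_mul_left a (ih ⟨c, ?_⟩)
    refine sub_eq_zero.1 (h.1 _ ?_)
    rw [mul_sub, sub_eq_zero, ← mul_assoc a (a ^ n), ← pow_succ', ← hc]
    ring

variable {X : Scheme.{u}}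

/-- An affine open on which a regular pair cuts out a set containing the complement of `U`. -/
def GoodOpen (U W : X.Opens) : Prop :=
  IsAffineOpen W ∧ ∃ a b : Γ(X, W), X.basicOpen a ≤ U ∧ X.basicOpen b ≤ U ∧ Reg2 a b

/-- The points outside `U` have good neighbourhoods. -/
def GoodPair (U : X.Opens) : Prop := ∀ x : X, x ∉ U → ∃ W : X.Opens, x ∈ W ∧ GoodOpen U W

/-- Restriction of sections. -/
abbrev res {V W : X.Opens} (h : V ≤ W) (s : Γ(X, W)) : Γ(X, V) := X.presheaf.map (homOfLE h).op s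

theorem res_res {V W T : X.Opens} (h : V ≤ W) (h' : W ≤ T) (s : Γ(X, T)) :
    res h (res h' s) = res (h.trans h') s := by
  rw [res, res, ← ConcreteCategory.comp_apply, ← X.presheaf.map_comp]
  rfl

theorem reg2_res {W V : X.Opens} (hW : IsAffineOpen W) (hV : IsAffineOpen V) (h : V ≤ W) {a b : Γ(X, W)}
    (hab : Reg2 a b) : Reg2 (res h a) (res h b) := by
  letI : Algebra Γ(X, W) Γ(X, V) := (X.presheaf.map (homOfLE h).op).hom.toAlgebra
  haveI : Module.Flat Γ(X, W) Γ(X, V) := by
    have h1 := (𝟙 X : X ⟶ X).flat_appLE hW hV (by simpa using h)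
    rw [Scheme.Hom.appLE] at h1
    simpa [RingHom.Flat, RingHom.algebraMap_toAlgebra] using h1
  exact hab.map

theorem GoodOpen.mono {U W V : X.Opens} (hW : GoodOpen U W) (hV : IsAffineOpen V) (h : V ≤ W) :
    GoodOpen U V := by
  obtain ⟨hWa, a, b, ha, hb, hab⟩ := hW
  refine ⟨hV, res h a, res h b, le_trans ?_ ha, le_trans ?_ hb, reg2_res hWa hV h hab⟩ <;>
    exact (X.basicOpen_res _ _).le.trans inf_le_right

theorem GoodPair.exists_le {U : X.Opens} (hU : GoodPair U) {x : X} (hx : x ∉ U) {O : X.Opens} (hxO : x ∈ O) :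
    ∃ W ≤ O, x ∈ W ∧ GoodOpen U W := by
  obtain ⟨W, hxW, hW⟩ := hU x hx
  obtain ⟨V, hV, hxV, hle⟩ := exists_isAffineOpen_mem_and_subset (U := W ⊓ O) (x := x) ⟨hxW, hxO⟩
  exact ⟨V, fun z hz => (hle hz).2, hxV, hW.mono hV fun z hz => (hle hz).1⟩

/-- A section vanishing on a regular basic open vanishes. -/
theorem eq_of_res_basicOpen {W : X.Opens} (hW : IsAffineOpen W) {a b : Γ(X, W)} (hab : Reg2 a b)
    {O : X.Opens} (hO : O ≤ W) (s t : Γ(X, O))
    (h : res (inf_le_left : O ⊓ X.basicOpen a ≤ O) s = res (inf_le_left : O ⊓ X.basicOpen a ≤ O) t) : s = t := by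
  refine X.sheaf.eq_of_locally_eq' (fun V : {V : X.affineOpens // (V : X.Opens) ≤ O} => (V.1 : X.Opens)) O
    (fun V => homOfLE V.2) (fun x hx => ?_) s t fun V => ?_
  · obtain ⟨V, hV, hxV, hVO⟩ := exists_isAffineOpen_mem_and_subset hx
    exact Opens.mem_iSup.2 ⟨⟨⟨V, hV⟩, hVO⟩, hxV⟩
  show res V.2 s = res V.2 t
  let a' := res (V.2.trans hO) a
  have hreg := reg2_res hW V.1.2 (V.2.trans hO) hab
  letI : Algebra Γ(X, V.1) Γ(X, X.basicOpen a') := (X.presheaf.map (homOfLE (X.basicOpen_le a')).op).hom.toAlgebra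
  haveI : IsLocalization.Away a' Γ(X, X.basicOpen a') := V.1.2.isLocalization_basicOpen a'
  have hle : X.basicOpen a' ≤ O ⊓ X.basicOpen a :=
    le_inf ((X.basicOpen_le a').trans V.2) ((X.basicOpen_res _ _).le.trans inf_le_right)
  have e : algebraMap Γ(X, V.1) Γ(X, X.basicOpen a') (res V.2 s) = algebraMap _ _ (res V.2 t) := by
    show res (X.basicOpen_le a') (res V.2 s) = res (X.basicOpen_le a') (res V.2 t)
    rw [res_res, res_res, ← res_res hle inf_le_left, ← res_res hle inf_le_left, h]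
  obtain ⟨⟨_, n, rfl⟩, hc⟩ := (IsLocalization.eq_iff_exists (Submonoid.powers a') _).1 e
  have hc' : a' ^ n * (res V.2 s - res V.2 t) = 0 := by rw [mul_sub, sub_eq_zero]; exact hc
  have key : ∀ n z, a' ^ n * z = 0 → z = 0 := by
    intro n
    induction n with
    | zero => simp
    | succ n ih => intro z hz; exact ih z (hreg.1 _ (by rw [← mul_assoc, ← pow_succ']; exact hz))
  exact sub_eq_zero.1 (key n _ hc')

/-- Sections extend across a regular pair. -/
theorem exists_res_eq {U W : X.Opens} (hW : GoodOpen U W) (s : Γ(X, W ⊓ U)) :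
    ∃ r : Γ(X, W), res (inf_le_left : W ⊓ U ≤ W) r = s := by
  obtain ⟨hWa, a, b, ha, hb, hab⟩ := hW
  have hA : X.basicOpen a ≤ W ⊓ U := le_inf (X.basicOpen_le a) ha
  have hB : X.basicOpen b ≤ W ⊓ U := le_inf (X.basicOpen_le b) hb
  letI := (X.presheaf.map (homOfLE (X.basicOpen_le a)).op).hom.toAlgebra
  haveI : IsLocalization.Away a Γ(X, X.basicOpen a) := hWa.isLocalization_basicOpen a
  letI := (X.presheaf.map (homOfLE (X.basicOpen_le b)).op).hom.toAlgebra
  haveI : IsLocalization.Away b Γ(X, X.basicOpen b) := hWa.isLocalization_basicOpen b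
  obtain ⟨n, r₀, hr⟩ := IsLocalization.Away.surj a (res hA s)
  obtain ⟨m, q₀, hq⟩ := IsLocalization.Away.surj b (res hB s)
  replace hr : res hA s * res (X.basicOpen_le a) a ^ n = res (X.basicOpen_le a) r₀ := hr
  replace hq : res hB s * res (X.basicOpen_le b) b ^ m = res (X.basicOpen_le b) q₀ := hq
  -- agreement on the intersection
  let C := X.basicOpen (a * b)
  have hC : C ≤ X.basicOpen a ⊓ X.basicOpen b := (X.basicOpen_mul a b).le
  letI := (X.presheaf.map (homOfLE (X.basicOpen_le (a * b))).op).hom.toAlgebra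
  haveI : IsLocalization.Away (a * b) Γ(X, C) := hWa.isLocalization_basicOpen (a * b)
  have hrC := congrArg (res (hC.trans inf_le_left)) hr
  have hqC := congrArg (res (hC.trans inf_le_right)) hq
  simp only [res, map_mul, map_pow] at hrC hqC
  rw [← res, ← res, ← res] at hrC hqC
  simp only [← res.eq_def, res_res] at hrC hqC
  have e : algebraMap Γ(X, W) Γ(X, C) (b ^ m * r₀) = algebraMap _ _ (a ^ n * q₀) := by
    show res (X.basicOpen_le (a * b)) (b ^ m * r₀) = res (X.basicOpen_le (a * b)) (a ^ n * q₀)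
    simp only [res, map_mul, map_pow] at hrC hqC ⊢
    rw [← hrC, ← hqC]
    ring
  obtain ⟨⟨_, N, rfl⟩, hN⟩ := (IsLocalization.eq_iff_exists (Submonoid.powers (a * b)) _).1 e
  have e1 : b ^ (N + m) * r₀ = a ^ n * (b ^ N * q₀) := by
    have h0 : a ^ N * (b ^ (N + m) * r₀ - a ^ n * (b ^ N * q₀)) = 0 := by
      rw [mul_sub, sub_eq_zero]
      calc a ^ N * (b ^ (N + m) * r₀) = (a * b) ^ N * (b ^ m * r₀) := by ring
        _ = (a * b) ^ N * (a ^ n * q₀) := hN
        _ = _ := by ring
    have key : ∀ k z, a ^ k * z = 0 → z = 0 := by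
      intro k
      induction k with
      | zero => simp
      | succ k ih => intro z hz; exact ih z (hab.1 _ (by rw [← mul_assoc, ← pow_succ']; exact hz))
    exact sub_eq_zero.1 (key N _ h0)
  obtain ⟨t, rfl⟩ := hab.pow_dvd n (N + m) ⟨_, e1⟩
  refine ⟨t, eq_of_res_basicOpen hWa hab inf_le_left _ _ ?_⟩
  rw [res_res]
  have ht : res (X.basicOpen_le a) t = res hA s := by
    refine ((IsLocalization.Away.algebraMap_isUnit (S := Γ(X, X.basicOpen a)) a).pow n).mul_right_cancel ?_
    show res (X.basicOpen_le a) t * res (X.basicOpen_le a) a ^ n = res hA s * res (X.basicOpen_le a) a ^ n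
    rw [hr]
    simp only [res, map_mul, map_pow]
    ring
  have hle : W ⊓ U ⊓ X.basicOpen a ≤ X.basicOpen a := inf_le_right
  calc res _ t = res hle (res (X.basicOpen_le a) t) := by rw [res_res]
    _ = res hle (res hA s) := by rw [ht]
    _ = _ := by rw [res_res]

/-- Hartogs for a good pair. -/
theorem restrict_bijective {U : X.Opens} (hU : GoodPair U) (O : X.Opens) :
    Function.Bijective (X.presheaf.map (homOfLE (inf_le_left : O ⊓ U ≤ O)).op) := by
  let ι := {V : X.Opens // V ≤ O ∧ (V ≤ U ∨ GoodOpen U V)}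
  have hcov : O ≤ ⨆ V : ι, V.1 := fun x hx => by
    by_cases hxU : x ∈ U
    · exact Opens.mem_iSup.2 ⟨⟨O ⊓ U, inf_le_left, Or.inl inf_le_right⟩, hx, hxU⟩
    · obtain ⟨W, hWO, hxW, hW⟩ := hU.exists_le hxU hx
      exact Opens.mem_iSup.2 ⟨⟨W, hWO, Or.inr hW⟩, hxW⟩
  have hinj : ∀ (V : ι) (T : X.Opens) (_hT : T ≤ V.1) (s t : Γ(X, T)),
      res (inf_le_left : T ⊓ U ≤ T) s = res (inf_le_left : T ⊓ U ≤ T) t → s = t := by
    intro V₀ T hT s t h
    obtain ⟨V, _hVO, hV | ⟨hVa, a, b, ha, _hb, hab⟩⟩ := V₀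
    · have hle : T ≤ T ⊓ U := le_inf le_rfl (hT.trans hV)
      have h' := congrArg (res hle) h
      rw [res_res, res_res] at h'
      simpa [res] using h'
    · refine eq_of_res_basicOpen hVa hab hT s t ?_
      have h' := congrArg (res (inf_le_inf_left T ha)) h
      rwa [res_res, res_res] at h'
  refine ⟨fun s t h => ?_, fun s => ?_⟩
  · refine X.sheaf.eq_of_locally_eq' (fun V : ι => V.1) O (fun V => homOfLE V.2.1) hcov s t fun V => ?_
    refine hinj V V.1 le_rfl _ _ ?_
    show res _ (res V.2.1 s) = res _ (res V.2.1 t)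
    have h' := congrArg (res (inf_le_inf_right U V.2.1)) (show res inf_le_left s = res inf_le_left t from h)
    rw [res_res, res_res] at h'
    rwa [res_res, res_res]
  · have hloc : ∀ V : ι, ∃ r : Γ(X, V.1), res (inf_le_left : V.1 ⊓ U ≤ V.1) r = res (inf_le_inf_right U V.2.1) s := by
      rintro ⟨V, hVO, hV | hV⟩
      · exact ⟨res (le_inf hVO hV) s, by rw [res_res]⟩
      · exact exists_res_eq hV _
    choose r hr using hloc
    have hc : TopCat.Presheaf.IsCompatible X.sheaf.presheaf (fun V : ι => V.1) r := by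
      intro V V'
      refine hinj V _ inf_le_left _ _ ?_
      show res _ (res (inf_le_left : V.1 ⊓ V'.1 ≤ _) (r V)) = res _ (res (inf_le_right : V.1 ⊓ V'.1 ≤ _) (r V'))
      rw [res_res, res_res, ← res_res (le_inf (inf_le_left.trans inf_le_left) inf_le_right) inf_le_left (r V),
        ← res_res (le_inf (inf_le_left.trans inf_le_right) inf_le_right) inf_le_left (r V'), hr, hr, res_res, res_res]
    obtain ⟨g, hg, -⟩ := X.sheaf.existsUnique_gluing' (fun V : ι => V.1) O (fun V => homOfLE V.2.1) hcov r hc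
    refine ⟨g, X.sheaf.eq_of_locally_eq' (fun V : ι => V.1 ⊓ U) (O ⊓ U) (fun V => homOfLE (inf_le_inf_right U V.2.1))
      (fun x hx => ?_) _ _ fun V => ?_⟩
    · obtain ⟨V, hV⟩ := Opens.mem_iSup.1 (hcov hx.1)
      exact Opens.mem_iSup.2 ⟨V, hV, hx.2⟩
    show res (inf_le_inf_right U V.2.1) (res inf_le_left g) = res (inf_le_inf_right U V.2.1) s
    rw [← hr V, res_res, ← res_res inf_le_left V.2.1]
    exact congrArg (res inf_le_left) (hg V)

/-- Good pairs pull back along flat morphisms. -/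
theorem GoodPair.preimage {Y : Scheme.{u}} (g : Y ⟶ X) [Flat g] {U : X.Opens} (hU : GoodPair U) :
    GoodPair (g ⁻¹ᵁ U) := by
  intro y hy
  obtain ⟨W, hyW, hWa, a, b, ha, hb, hab⟩ := hU (g y) hy
  obtain ⟨V, hV, hyV, hVW⟩ := exists_isAffineOpen_mem_and_subset (U := g ⁻¹ᵁ W) (x := y) hyW
  letI : Algebra Γ(X, W) Γ(Y, V) := (g.appLE W V hVW).hom.toAlgebra
  haveI : Module.Flat Γ(X, W) Γ(Y, V) := g.flat_appLE hWa hV hVW
  refine ⟨V, hyV, hV, g.appLE W V hVW a, g.appLE W V hVW b, ?_, ?_, hab.map⟩ <;>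
    rw [Scheme.basicOpen_appLE] <;> refine inf_le_right.trans (g.preimage_mono ?_)
  · exact ha
  · exact hb

/-- An open immersion covering the complement of a good pair induces bijections on sections. -/
theorem app_bijective {P : Scheme.{u}} (j : P ⟶ X) [IsOpenImmersion j] (hj : GoodPair j.opensRange) (O : X.Opens) :
    Function.Bijective (j.app O) := by
  have h1 := restrict_bijective hj O
  haveI : IsIso (j.app (O ⊓ j.opensRange)) := j.isIso_app _ inf_le_right
  have h2 := ConcreteCategory.bijective_of_isIso (j.app (O ⊓ j.opensRange))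
  have hle : j ⁻¹ᵁ O ≤ j ⁻¹ᵁ (O ⊓ j.opensRange) := fun x hx => ⟨hx, ⟨x, rfl⟩⟩
  haveI : IsIso (P.presheaf.map (homOfLE hle).op) := by
    have h : j ⁻¹ᵁ (O ⊓ j.opensRange) = j ⁻¹ᵁ O := le_antisymm (fun x hx => hx.1) hle
    rw [Subsingleton.elim (homOfLE hle) (eqToHom h.symm)]
    infer_instance
  have h3 := ConcreteCategory.bijective_of_isIso (P.presheaf.map (homOfLE hle).op)
  have e : ∀ s, j.app O s = P.presheaf.map (homOfLE hle).op (j.app (O ⊓ j.opensRange)
      (X.presheaf.map (homOfLE (inf_le_left : O ⊓ j.opensRange ≤ O)).op s)) := fun s => by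
    rw [← ConcreteCategory.comp_apply, ← ConcreteCategory.comp_apply, Scheme.Hom.naturality_assoc,
      ← P.presheaf.map_comp]
    generalize (((TopologicalSpace.Opens.map j.base).map _).op ≫ (homOfLE hle).op) = q
    rw [Subsingleton.elim q (𝟙 _)]
    erw [P.presheaf.map_id, Category.comp_id]
  rw [show (j.app O : _ → _) = _ from _root_.funext e]
  exact h3.comp (h2.comp h1)

/-- The open of a good pair is dense. -/
theorem GoodPair.dense {U : X.Opens} (hU : GoodPair U) : Dense (U : Set X) := by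
  rw [dense_iff_inter_open]
  rintro O hO ⟨z, hz⟩
  by_contra hne
  let O' : X.Opens := ⟨O, hO⟩
  have e : O' ⊓ U = ⊥ := eq_bot_iff.2 fun w hw => (hne ⟨w, hw⟩).elim
  haveI : Subsingleton Γ(X, O' ⊓ U) := by
    rw [e]
    exact CommRingCat.subsingleton_of_isTerminal X.sheaf.isTerminalOfEmpty
  haveI : Subsingleton Γ(X, O') := (restrict_bijective hU O').1.subsingleton
  exact not_isUnit_of_subsingleton_of_mem (O' := O') z hz
where
  not_isUnit_of_subsingleton_of_mem {O' : X.Opens} [Subsingleton Γ(X, O')] (z : X) (hz : z ∈ O') : False := by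
    have h : (X.presheaf.germ O' z hz) 1 = (X.presheaf.germ O' z hz) 0 := congrArg _ (Subsingleton.elim _ _)
    rw [map_one, map_zero] at h
    exact one_ne_zero h

/-- Restriction to a good open is fully faithful. -/
theorem restrict_full_faithful {U : X.Opens} (hU : GoodPair U) :
    (FEt.restrict U.ι).Full ∧ (FEt.restrict U.ι).Faithful := by
  have hC : ∀ C : Set X, IsClopen C → C.Nonempty → (C ∩ Set.range U.ι.base).Nonempty := fun C hC hne => by
    rw [Scheme.Opens.range_ι]
    exact hU.dense.inter_open_nonempty C hC.2 hne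
  refine ⟨restrict_full _ hC fun W C hWC => ?_, restrict_faithful _ hC⟩
  let g : W.left ⟶ X := W.hom
  haveI : Etale g := W.prop.2
  let j := pullback.fst g U.ι
  have hj : GoodPair j.opensRange := by
    have h : j.opensRange = g ⁻¹ᵁ U := Opens.ext (by
      show Set.range j.base = _
      rw [show Set.range j.base = _ from Scheme.Pullback.range_fst _ _, Scheme.Opens.range_ι]
      rfl)
    rw [h]
    exact hU.preimage g
  exact exists_isClopen_preimage _ (app_bijective j hj ⊤) C hWC

end Groth.Agent.PurX.Good
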