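import Groth.Agent.PurX.Descend
import Groth.Agent.PurX.Complete
import Groth.Agent.PurX.Completion
import Groth.Agent.Hensel.PairBasic

/-!
# Clopen subsets lift from a hypersurface of the punctured spectrum: the henselian case
-/

set_option autoImplicit false
set_option linter.style.haveILetI false

universe u

open PrimeSpectrum TensorProduct

namespace Groth.Agent.PurX

variable {D : Type u} [CommRing D] {D' : Type u} [CommRing D'] [Algebra D D'] [Module.FaithfullyFlat D D']
  {ι : Type} [Fintype ι] {g : ι → D} {f : D}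

/-- The lifting property descends along a completion. -/
theorem lifts_of_completion [IsNoetherianRing D] [HenselianRing D (Ideal.span {f})]
    (hJ : Ideal.span (Set.range g) ≤ Ideal.jacobson (⊥ : Ideal D))
    (hJ' : (Ideal.span (Set.range g)).map (algebraMap D D') ≤ Ideal.jacobson (⊥ : Ideal D'))
    (happrox : ∀ (n : ℕ) (x : D'), ∃ d : D,
      x - algebraMap D D' d ∈ (Ideal.span (Set.range g) ^ n).map (algebraMap D D'))
    (h : Lifts (algebraMap D D' ∘ g) (algebraMap D D' f)) : Lifts g f := by
  let φ := algebraMap D D'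
  have hsurj : Function.Surjective (comap φ) := PrimeSpectrum.comap_surjective_of_faithfullyFlat
  have hzl : comap φ ⁻¹' zeroLocus {f} = zeroLocus {φ f} := by
    rw [preimage_comap_zeroLocus, Set.image_singleton]
  refine ⟨fun C hC hC' hsub hCf => ?_, fun O O' hO hO' hcov hdis hsub => ?_⟩
  · have h1 := h.1 (comap φ ⁻¹' C) (hC.preimage (continuous_comap φ))
      (by rw [← comap_punct, ← Set.preimage_sdiff]; exact hC'.preimage (continuous_comap φ))
      (fun q hq => hsub hq) (by rw [← hzl, ← Set.preimage_inter, hCf, Set.preimage_empty])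
    rw [← hsurj.image_preimage C, h1, Set.image_empty]
  · obtain ⟨C', hC', hC'o, hC'sub, hC'f⟩ := h.2 _ _ (hO.preimage (continuous_comap φ))
      (hO'.preimage (continuous_comap φ))
      (by rw [← comap_punct, ← hzl, ← Set.preimage_inter, ← Set.preimage_union]; exact Set.preimage_mono hcov)
      (by rw [← comap_punct, ← hzl, ← Set.preimage_inter, ← Set.preimage_inter, ← Set.preimage_inter, hdis,
        Set.preimage_empty])
      (fun q hq => hsub hq)
    obtain ⟨k, y, hk, hy, hcl⟩ := exists_isIdem (φ ∘ g) C' hC' hC'o hC'sub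
    let π := Ideal.Quotient.mk (Ideal.span {f})
    have hf : ∀ q : PrimeSpectrum (D ⧸ Ideal.span {f}), comap π q ∈ zeroLocus {f} := fun q => by
      simp only [mem_zeroLocus, Set.singleton_subset_iff, SetLike.mem_coe]
      show π f ∈ q.asIdeal
      rw [Ideal.Quotient.eq_zero_iff_mem.2 (Ideal.mem_span_singleton_self f)]
      exact zero_mem _
    have hdiff : punct (π ∘ g) \ comap π ⁻¹' O = punct (π ∘ g) ∩ comap π ⁻¹' O' := by
      ext q
      exact ⟨fun hq => ⟨hq.1, (hcov ⟨hq.1, hf q⟩).resolve_left hq.2⟩,
        fun hq => ⟨hq.1, fun h => Set.eq_empty_iff_forall_notMem.1 hdis _ ⟨⟨⟨h, hq.2⟩, hq.1⟩, hf q⟩⟩⟩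
    obtain ⟨k₀, t₀, hk₀, ht, hclt⟩ := exists_isIdem (π ∘ g) (comap π ⁻¹' O) (hO.preimage (continuous_comap π))
      (by rw [hdiff]; exact (isOpen_punct _).inter (hO'.preimage (continuous_comap π))) (fun q hq => hsub hq)
    choose t ht₀ using fun i => Ideal.Quotient.mk_surjective (t₀ i)
    let I' := (Ideal.span {f}).map φ
    let π' := Ideal.Quotient.mk I'
    let σ : D ⧸ Ideal.span {f} →+* D' ⧸ I' := Ideal.quotientMap I' φ Ideal.le_comap_map
    have hσ : ∀ x, σ (π x) = π' (φ x) := fun x => rfl
    have hy1 : IsIdem (fun i => π' (φ (g i)) ^ k) (π' ∘ y) := by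
      refine ⟨fun i j => ?_, fun i => ?_⟩
      · have := congrArg π' (hy.compat i j)
        simp only [smul_eq_mul, map_mul, map_pow, Function.comp_apply] at this
        exact this
      · have := congrArg π' (hy.idem i)
        simp only [map_mul, map_pow, Function.comp_apply] at this
        exact this
    have hy2 : IsIdem (fun i => π' (φ (g i)) ^ k₀) (fun i => π' (φ (t i))) := by
      refine ⟨fun i j => ?_, fun i => ?_⟩
      · have := congrArg σ (ht.compat i j)
        simp only [smul_eq_mul, map_mul, map_pow, Function.comp_apply, ← ht₀] at this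
        exact this
      · have := congrArg σ (ht.idem i)
        simp only [map_mul, map_pow, Function.comp_apply, ← ht₀] at this
        exact this
    have hcl12 : cl (fun i => π' (φ (g i)) ^ k) (π' ∘ y) = cl (fun i => π' (φ (g i)) ^ k₀) (fun i => π' (φ (t i))) := by
      have h1 : comap π' ⁻¹' C' = cl (fun i => π' (φ (g i)) ^ k) (π' ∘ y) := by
        rw [← hcl, comap_cl]
        congr 1
      have h2 : comap σ ⁻¹' (comap π ⁻¹' O) = cl (fun i => π' (φ (g i)) ^ k₀) (fun i => π' (φ (t i))) := by
        rw [← hclt, comap_cl]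
        congr 1
        · funext i; simp [hσ]
        · funext i; simp only [Function.comp_apply, ← ht₀]; exact hσ _
      have hmemf : ∀ r : PrimeSpectrum (D' ⧸ I'), comap π' r ∈ zeroLocus {φ f} := fun r => by
        simp only [mem_zeroLocus, Set.singleton_subset_iff, SetLike.mem_coe]
        show π' (φ f) ∈ r.asIdeal
        rw [Ideal.Quotient.eq_zero_iff_mem.2 (Ideal.mem_map_of_mem φ (Ideal.mem_span_singleton_self f))]
        exact zero_mem _
      rw [← h1, ← h2]
      ext r
      have e := Set.ext_iff.1 hC'f (comap π' r)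
      have : comap π (comap σ r) = comap φ (comap π' r) := rfl
      show comap π' r ∈ C' ↔ comap π (comap σ r) ∈ O
      rw [this]
      exact ⟨fun hm => (e.1 ⟨hm, hmemf r⟩).1, fun hm => (e.2 ⟨hm, hmemf r⟩).1⟩
    choose r hr using exists_pow_sub_eq_zero (fun i => π' (φ (g i))) hk hk₀ hy1 hy2 hcl12
    let K := k + k₀ + ∑ i, r i
    have hK : 0 < K := by omega
    let y' : ι → D' := fun i => φ (g i) ^ (K - k) * y i
    have hy' : IsIdem (φ ∘ fun i => g i ^ K) y' := by
      refine ⟨fun i j => ?_, fun i => ?_⟩
      · have := hy.compat i j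
        simp only [smul_eq_mul, Function.comp_apply, map_pow] at this ⊢
        simp only [y']
        obtain ⟨e, he⟩ : ∃ e, K = k + e := ⟨_, (Nat.add_assoc k k₀ _)⟩
        rw [he, Nat.add_sub_cancel_left]
        linear_combination (φ (g i) * φ (g j)) ^ e * this
      · have := hy.idem i
        simp only [Function.comp_apply, map_pow] at this ⊢
        simp only [y']
        obtain ⟨e, he⟩ : ∃ e, K = k + e := ⟨_, (Nat.add_assoc k k₀ _)⟩
        rw [he, Nat.add_sub_cancel_left]
        linear_combination (φ (g i) ^ e) ^ 2 * this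
    have hI : ∀ i, ∃ t' : D, y' i - φ t' ∈ (Ideal.span {f}).map φ := by
      intro i
      refine ⟨g i ^ (K - k₀) * t i, ?_⟩
      have h0 := hr i
      simp only [Function.comp_apply, ← map_pow, ← map_mul, ← map_sub] at h0
      rw [Ideal.Quotient.eq_zero_iff_mem] at h0
      obtain ⟨e, he⟩ := Nat.exists_eq_add_of_le (Finset.single_le_sum (f := r) (fun _ _ => Nat.zero_le _) (Finset.mem_univ i))
      have h1 := Ideal.mul_mem_left _ (φ (g i) ^ e) h0
      simp only [map_sub, map_mul, map_pow] at h1
      convert h1 using 1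
      simp only [y', map_mul, map_pow]
      rw [show K - k = e + r i + k₀ by omega, show K - k₀ = e + r i + k by omega]
      ring
    have hpow : Ideal.span (Set.range fun i => g i ^ K) ≤ Ideal.span (Set.range g) := by
      refine Ideal.span_le.2 ?_
      rintro _ ⟨i, rfl⟩
      exact Ideal.pow_mem_of_mem _ (Ideal.subset_span (Set.mem_range_self i)) K hK
    obtain ⟨N, hN⟩ : ∃ N : ℕ, Ideal.span (Set.range g) ^ N ≤ Ideal.span (Set.range fun i => g i ^ K) := by
      refine Ideal.exists_pow_le_of_le_radical_of_fg (Ideal.span_le.2 ?_) (IsNoetherian.noetherian _)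
      rintro _ ⟨i, rfl⟩
      exact ⟨K, Ideal.subset_span (Set.mem_range_self i)⟩
    obtain ⟨e, he, hey⟩ := exists_isIdem_descend (fun i => g i ^ K) (hpow.trans hJ)
      ((Ideal.map_mono hpow).trans hJ')
      (fun n x => (happrox (N * n) x).imp fun d hd => Ideal.map_mono (by rw [pow_mul]; exact Ideal.pow_right_mono hN n) hd)
      (Ideal.span {f}) y' hy' hI
    refine ⟨cl (fun i => g i ^ K) e, isOpen_cl _ _, ?_, ?_, ?_⟩
    · rw [← punct_pow g hK]; exact he.isOpen_diff
    · rw [← punct_pow g hK]; exact cl_subset _ _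
    · apply hsurj.preimage_injective
      rw [Set.preimage_inter, Set.preimage_inter, hzl, ← hC'f, ← hcl, comap_cl]
      congr 1
      ext q
      constructor
      · rintro ⟨i, hi, hei⟩
        have hgi : φ (g i) ∉ q.asIdeal := fun hm => hi (by
          simp only [Function.comp_apply, map_pow]
          exact Ideal.pow_mem_of_mem _ hm K hK)
        refine ⟨i, fun hm => hgi (q.isPrime.mem_of_pow_mem _ hm), fun hm => hei ?_⟩
        have h0 := hey i
        simp only [map_pow] at h0
        have : (φ (g i) ^ K) ^ 2 * φ (e i) ∈ q.asIdeal := by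
          rw [show (φ (g i) ^ K) ^ 2 * φ (e i) = (φ (g i) ^ K) ^ 2 * y' i by linear_combination h0]
          exact Ideal.mul_mem_left _ _ (Ideal.mul_mem_left _ _ hm)
        exact (q.isPrime.mem_or_mem this).resolve_left fun hm' => hgi (q.isPrime.mem_of_pow_mem _ (q.isPrime.mem_of_pow_mem _ hm'))
      · rintro ⟨i, hi, hyi⟩
        have hgi : φ (g i) ∉ q.asIdeal := fun hm => hi (Ideal.pow_mem_of_mem _ hm k hk)
        refine ⟨i, fun hm => ?_, fun hm => hyi ?_⟩
        · simp only [Function.comp_apply, map_pow] at hm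
          exact hgi (q.isPrime.mem_of_pow_mem _ hm)
        · have h0 := hey i
          simp only [map_pow] at h0
          have hm' : φ (e i) ∈ q.asIdeal := hm
          have : (φ (g i) ^ K) ^ 2 * (φ (g i) ^ (K - k) * y i) ∈ q.asIdeal := by
            rw [show (φ (g i) ^ K) ^ 2 * (φ (g i) ^ (K - k) * y i) = (φ (g i) ^ K) ^ 2 * φ (e i) by
              linear_combination -h0]
            exact Ideal.mul_mem_left _ _ hm'
          exact ((q.isPrime.mem_or_mem this).resolve_left fun hm => hgi (q.isPrime.mem_of_pow_mem _ (q.isPrime.mem_of_pow_mem _ hm))) |>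
            fun hm => (q.isPrime.mem_or_mem hm).resolve_left fun hm => hgi (q.isPrime.mem_of_pow_mem _ hm)

section Finite

variable {A : Type u} [CommRing A] [IsLocalRing A] [IsNoetherianRing A] {gA : ι → A} {fA : A}
  (D : Type u) [CommRing D] [Algebra A D] [Module.Finite A D]

/-- The complete case for finite algebras. -/
theorem lifts_finite_complete (hg : Ideal.span (Set.range gA) = IsLocalRing.maximalIdeal A)
    (hf : fA ∈ IsLocalRing.maximalIdeal A) [IsAdicComplete (Ideal.span {fA}) A] {n : ℕ}
    (h0 : H0Killed gA A (fA ^ n)) (h1 : H1Killed gA A (fA ^ n)) (hD : Split gA D) :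
    Lifts (algebraMap A D ∘ gA) (algebraMap A D fA) := by
  haveI : IsNoetherianRing D := IsNoetherianRing.of_finite A D
  have hrad : fA ∈ (Ideal.span (Set.range gA)).radical := Ideal.le_radical (hg ▸ hf)
  obtain ⟨t, ht⟩ := hD.h0Killed hrad h0
  obtain ⟨t', ht'⟩ := hD.h1Killed hrad h1
  have hcpl : IsAdicComplete (Ideal.span {algebraMap A D fA}) D := by
    have h := Adic7.isAdicComplete_of_finite (Ideal.span {fA}) D
    have e : (Ideal.span {fA}).map (algebraMap A D) = Ideal.span {algebraMap A D fA} := by
      rw [Ideal.map_span, Set.image_singleton]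
    rw [← e]
    exact (IsAdicComplete.map_algebraMap_iff (S := D) _ D).2 h
  refine lifts_of_killed (algebraMap A D ∘ gA) (algebraMap A D fA) (t + t' + n) hcpl ?_ ?_ ?_
  · have e : (Ideal.span (Set.range gA)).map (algebraMap A D) = Ideal.span (Set.range (algebraMap A D ∘ gA)) := by
      rw [Ideal.map_span, ← Set.range_comp]
    rw [← e]
    exact Ideal.le_radical (Ideal.mem_map_of_mem _ (hg ▸ hf))
  · have h' := ht.mul_left (fA ^ t')
    rw [show fA ^ t' * (fA ^ t * fA ^ n) = fA ^ (t + t' + n) by ring] at h'
    have := (H0Killed.restrictScalars (S := D)).1 h'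
    rwa [map_pow] at this
  · have h' := ht'.mul_left (fA ^ t)
    rw [show fA ^ t * (fA ^ t' * fA ^ n) = fA ^ (t + t' + n) by ring] at h'
    have := (H1Killed.restrictScalars (S := D)).1 h'
    rwa [map_pow] at this

/-- The lifting property for finite algebras over a henselian pair, from the completion. -/
theorem lifts_finite_of_cplBC (hg : Ideal.span (Set.range gA) = IsLocalRing.maximalIdeal A)
    [HenselianRing A (Ideal.span {fA})]
    (h : Lifts (algebraMap D (CplBC A D) ∘ algebraMap A D ∘ gA) (algebraMap D (CplBC A D) (algebraMap A D fA))) :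
    Lifts (algebraMap A D ∘ gA) (algebraMap A D fA) := by
  haveI : IsNoetherianRing D := IsNoetherianRing.of_finite A D
  haveI : HenselianRing D (Ideal.span {algebraMap A D fA}) := by
    have h1 := Hensel.henselianRing_of_isIntegral' (Ideal.span {fA}) D
    rwa [Ideal.map_span, Set.image_singleton] at h1
  have e : Ideal.span (Set.range (algebraMap A D ∘ gA)) = (IsLocalRing.maximalIdeal A).map (algebraMap A D) := by
    rw [← hg, Ideal.map_span, ← Set.range_comp]
  exact lifts_of_completion (D' := CplBC A D) (e ▸ map_maximalIdeal_le_jacobson_finite A D)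
    (e ▸ map_le_jacobson_cplBC D) (fun n x => e ▸ exists_cplBC_approx D _ rfl n x) h

/-- The henselian case. -/
theorem lifts_finite_henselian (hg : Ideal.span (Set.range gA) = IsLocalRing.maximalIdeal A)
    (hf : fA ∈ IsLocalRing.maximalIdeal A) [HenselianRing A (Ideal.span {fA})] {n : ℕ}
    (h0 : H0Killed gA A (fA ^ n)) (h1 : H1Killed gA A (fA ^ n)) (hD : Split gA D) :
    Lifts (algebraMap A D ∘ gA) (algebraMap A D fA) := by
  refine lifts_finite_of_cplBC D hg ?_
  haveI : IsNoetherianRing D := IsNoetherianRing.of_finite A D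
  haveI := isNoetherianRing_cplBC (A := A) D
  have hrad : fA ∈ (Ideal.span (Set.range gA)).radical := Ideal.le_radical (hg ▸ hf)
  obtain ⟨t, ht⟩ := hD.h0Killed hrad h0
  obtain ⟨t', ht'⟩ := hD.h1Killed hrad h1
  refine lifts_of_killed _ _ (t + t' + n) (isAdicComplete_cplBC D hf) ?_ ?_ ?_
  · have e : ((Ideal.span (Set.range gA)).map (algebraMap A D)).map (algebraMap D (CplBC A D)) =
        Ideal.span (Set.range (algebraMap D (CplBC A D) ∘ algebraMap A D ∘ gA)) := by
      rw [Ideal.map_span, Ideal.map_span, ← Set.range_comp, ← Set.range_comp]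
    rw [← e]
    exact Ideal.le_radical (Ideal.mem_map_of_mem _ (Ideal.mem_map_of_mem _ (hg ▸ hf)))
  · have h' := ht.mul_left (fA ^ t')
    rw [show fA ^ t' * (fA ^ t * fA ^ n) = fA ^ (t + t' + n) by ring] at h'
    have := (H0Killed.restrictScalars (S := CplBC A D)).1 (((H0Killed.restrictScalars (S := D)).1 h').of_flat (S := CplBC A D))
    rwa [map_pow, map_pow] at this
  · have h' := ht'.mul_left (fA ^ t)
    rw [show fA ^ t * (fA ^ t' * fA ^ n) = fA ^ (t + t' + n) by ring] at h'
    have := (H1Killed.restrictScalars (S := CplBC A D)).1 (((H1Killed.restrictScalars (S := D)).1 h').of_flat (S := CplBC A D))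
    rwa [map_pow, map_pow] at this

end Finite

end Groth.Agent.PurX
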