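import Groth.Agent.PurX.DualHyp
import Groth.Agent.PurX.Bridge
import Groth.Agent.Pi1Ext.Spread
import Groth.Agent.S0239
import Groth.Agent.LC.ExtDim
import Groth.Agent.S5752
import Groth.Agent.S0238
import Mathlib.RingTheory.Ideal.AssociatedPrime.Localization

/-!
# Purity lifts along a regular element
-/

set_option autoImplicit false
set_option linter.style.haveILetI false

universe u

open CategoryTheory CategoryTheory.Limits AlgebraicGeometry IsLocalRing
open Groth.Agent.Pi1Ext

set_option backward.isDefEq.respectTransparency false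

noncomputable section

namespace Groth.Agent.PurX

/-- Depth zero means that the prime is associated. -/
theorem mem_associatedPrimes_of_depth_eq_zero {A : Type u} [CommRing A] [IsNoetherianRing A] (p : Ideal A) [p.IsPrime]
    (h : LocCoh.depth (Localization.AtPrime p) (Localization.AtPrime p) = 0) : p ∈ associatedPrimes A A := by
  let R := Localization.AtPrime p
  haveI : IsNoetherianRing R := IsLocalization.isNoetherianRing p.primeCompl _ inferInstance
  have h1 : maximalIdeal R ∈ associatedPrimes R R := (S5752.result R R).1 h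
  rw [← Localization.AtPrime.under_maximalIdeal (I := p)]
  exact Module.associatedPrimes.comap_mem_associatedPrimes_of_mem_associatedPrimes_of_isLocalizedModule_of_fg
    p.primeCompl (Algebra.linearMap A R) _ h1 (IsNoetherian.noetherian _)

/-- Depth two at the primes of coheight one gives `depth + dim ≥ 3` off the closed point. -/
theorem two_lt_depth_add_dim {A : Type u} [CommRing A] [IsLocalRing A] [IsNoetherianRing A]
    (h : ∀ p : Ideal A, ∀ _ : p.IsPrime, ringKrullDim (A ⧸ p) = 1 →
      (2 : ℕ∞) ≤ LocCoh.depth (Localization.AtPrime p) (Localization.AtPrime p))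
    (p : Ideal A) [hp : p.IsPrime] (hne : p ≠ maximalIdeal A) :
    (2 : WithBot ℕ∞) < (LocCoh.depth (Localization.AtPrime p) (Localization.AtPrime p) : WithBot ℕ∞) +
      ringKrullDim (A ⧸ p) := by
  classical
  let P : PrimeSpectrum A := ⟨p, hp⟩
  have hdimP : ringKrullDim (A ⧸ p) = (Order.coheight P : WithBot ℕ∞) := by
    rw [Order.coheight_eq_krullDim_Ici, ringKrullDim_quotient]
    refine Order.krullDim_eq_of_orderIso (OrderIso.setCongr _ _ ?_)
    ext q
    exact Iff.rfl
  rw [hdimP]
  have hlt : P < closedPoint A := lt_of_le_of_ne (le_maximalIdeal hp.ne_top) fun e => hne (congrArg PrimeSpectrum.asIdeal e)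
  have h1 : 1 ≤ Order.coheight P := le_trans le_add_self (Order.coheight_add_one_le hlt)
  by_contra hcon
  rw [not_lt, ← WithBot.coe_add, show (2 : WithBot ℕ∞) = ((2 : ℕ∞) : WithBot ℕ∞) from rfl, WithBot.coe_le_coe] at hcon
  have hd2 : Order.coheight P ≤ 2 := le_trans le_add_self hcon
  rcases eq_or_lt_of_le h1 with e | e
  · have h2 := h p hp (by rw [hdimP, ← e]; rfl)
    rw [← e] at hcon
    exact absurd (le_trans (add_le_add h2 le_rfl) hcon) (by decide)
  have e2 : Order.coheight P = 2 := le_antisymm hd2 (ENat.add_one_le_iff (by decide) |>.2 e)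
  rw [e2] at hcon
  have hd0 : LocCoh.depth (Localization.AtPrime p) (Localization.AtPrime p) = 0 := by
    refine le_antisymm ?_ bot_le
    exact (ENat.add_le_add_iff_right (by decide : (2 : ℕ∞) ≠ ⊤)).1 (by simpa using hcon)
  -- a prime of coheight one above `p`
  obtain ⟨q, hPq, hqm⟩ : ∃ q : PrimeSpectrum A, P < q ∧ q < closedPoint A := by
    by_contra hno
    have : Order.coheight P ≤ 1 := by
      refine Order.coheight_le fun c hc => ?_
      by_contra hlen
      rw [not_le, Nat.one_lt_cast] at hlen
      refine hno ⟨c ⟨1, by omega⟩, ?_, ?_⟩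
      · exact lt_of_eq_of_lt (show P = c 0 from hc.symm) (c.strictMono (show (0 : Fin _) < ⟨1, by omega⟩ from Nat.zero_lt_one))
      · exact lt_of_lt_of_le (c.strictMono (show (⟨1, by omega⟩ : Fin _) < ⟨2, by omega⟩ from Nat.one_lt_two))
          (le_maximalIdeal (c ⟨2, by omega⟩).isPrime.ne_top)
    exact absurd (e2 ▸ this) (by decide)
  have hq1 : Order.coheight q = 1 := by
    refine le_antisymm ?_ (le_trans le_add_self (Order.coheight_add_one_le hqm))
    have := (Order.coheight_add_one_le hPq).trans e2.le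
    exact (ENat.add_le_add_iff_right (by decide : (1 : ℕ∞) ≠ ⊤)).1 (this.trans (by decide))
  have hdepq := h q.asIdeal q.isPrime (by
    rw [show ringKrullDim (A ⧸ q.asIdeal) = (Order.coheight q : WithBot ℕ∞) by
      rw [Order.coheight_eq_krullDim_Ici, ringKrullDim_quotient]
      exact Order.krullDim_eq_of_orderIso (OrderIso.setCongr _ _ (by ext r; exact Iff.rfl)), hq1]
    rfl)
  let R := Localization.AtPrime q.asIdeal
  haveI : IsNoetherianRing R := IsLocalization.isNoetherianRing q.asIdeal.primeCompl _ inferInstance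
  have hdisj : Disjoint (q.asIdeal.primeCompl : Set A) (p : Set A) :=
    Set.disjoint_left.2 fun x hx hxp => hx (hPq.le hxp)
  haveI hp' : (p.map (algebraMap A R)).IsPrime := IsLocalization.isPrime_of_isPrime_disjoint _ _ p hp hdisj
  have hcomap : Ideal.comap (algebraMap A R) (p.map (algebraMap A R)) = p :=
    IsLocalization.under_map_of_isPrime_disjoint _ _ hp hdisj
  let p' : PrimeSpectrum R := ⟨p.map (algebraMap A R), hp'⟩
  have hass : p'.asIdeal ∈ associatedPrimes R R := by
    refine Module.associatedPrimes.mem_associatedPrimes_of_comap_mem_associatedPrimes_of_isLocalizedModule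
      q.asIdeal.primeCompl (Algebra.linearMap A R) _ ?_
    rw [hcomap]
    exact mem_associatedPrimes_of_depth_eq_zero p hd0
  have hco : Order.coheight p' ≤ 1 := by
    refine Order.coheight_le fun c hc => ?_
    by_contra hlen
    rw [not_le, Nat.one_lt_cast] at hlen
    let e : PrimeSpectrum R → PrimeSpectrum A := PrimeSpectrum.comap (algebraMap A R)
    have hmono : StrictMono e := Monotone.strictMono_of_injective
      (fun a b hab => Ideal.comap_mono hab) (PrimeSpectrum.localization_comap_injective R q.asIdeal.primeCompl)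
    have hb : e (c ⟨2, by omega⟩) ≤ q := fun x hx => by
      by_contra hxq
      exact (c ⟨2, by omega⟩).isPrime.ne_top (Ideal.eq_top_of_isUnit_mem _ hx
        (IsLocalization.map_units R (⟨x, hxq⟩ : q.asIdeal.primeCompl)))
    have l1 : P < e (c ⟨1, by omega⟩) := by
      have e0 : e p' = P := PrimeSpectrum.ext hcomap
      rw [← e0]
      exact hmono (lt_of_eq_of_lt (show p' = c 0 from hc.symm) (c.strictMono (show (0 : Fin _) < ⟨1, by omega⟩ from Nat.zero_lt_one)))
    have l2 : e (c ⟨1, by omega⟩) < e (c ⟨2, by omega⟩) :=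
      hmono (c.strictMono (show (⟨1, by omega⟩ : Fin _) < ⟨2, by omega⟩ from Nat.one_lt_two))
    have := (Order.coheight_add_one_le (l1.trans_le (le_refl _))).trans e2.le
    have h3 := le_trans (add_le_add (Order.coheight_add_one_le (l2.trans_le hb)) le_rfl) this
    rw [hq1] at h3
    exact absurd h3 (by decide)
  exact absurd (hdepq.trans ((LC.depth_le_coheight_of_ass R hass).trans hco)) (by decide)

theorem isEquivalence_of_iso {X Y : Scheme.{u}} (f : X ⟶ Y) [IsIso f] : (FEt.restrict f).IsEquivalence :=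
  S0238.result f

theorem isEquivalence_comp {X Y Z : Scheme.{u}} (f : X ⟶ Y) (g : Y ⟶ Z) (h : X ⟶ Z) (w : h = f ≫ g)
    (hf : (FEt.restrict f).IsEquivalence) (hg : (FEt.restrict g).IsEquivalence) : (FEt.restrict h).IsEquivalence := by
  haveI := hf
  haveI := hg
  haveI : (FEt.restrict g ⋙ FEt.restrict f).IsEquivalence := inferInstance
  exact @Functor.isEquivalence_of_iso _ _ _ _ _ _
    (MorphismProperty.Over.pullbackComp (P := FEt.prop.{u}) (Q := ⊤) f g h w).symm ‹_›

theorem isEquivalence_cancel_left {X Y Z : Scheme.{u}} (f : X ⟶ Y) (g : Y ⟶ Z) (h : X ⟶ Z) (w : h = f ≫ g)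
    (hh : (FEt.restrict h).IsEquivalence) [IsIso f] : (FEt.restrict g).IsEquivalence :=
  isEquivalence_comp (inv f) h g (by rw [w, IsIso.inv_hom_id_assoc]) (isEquivalence_of_iso _) hh

theorem isEquivalence_cancel {X Y Z : Scheme.{u}} (f : X ⟶ Y) (g : Y ⟶ Z) (h : X ⟶ Z) (w : h = f ≫ g)
    (hh : (FEt.restrict h).IsEquivalence) (hg : (FEt.restrict g).IsEquivalence) : (FEt.restrict f).IsEquivalence := by
  haveI := hh
  haveI := hg
  haveI : (FEt.restrict g ⋙ FEt.restrict f).IsEquivalence := @Functor.isEquivalence_of_iso _ _ _ _ _ _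
    (MorphismProperty.Over.pullbackComp (P := FEt.prop.{u}) (Q := ⊤) f g h w) hh
  exact Functor.isEquivalence_of_comp_left (FEt.restrict g) (FEt.restrict f)

theorem eq_top_of_mem {R : Type u} [CommRing R] [IsLocalRing R] (V : (Spec (CommRingCat.of R)).Opens)
    (h : closedPoint R ∈ V) : V = ⊤ := by
  refine top_le_iff.1 fun x _ => ?_
  exact Specializes.mem_open (IsLocalRing.specializes_closedPoint x) V.2 h

/-- A pair `(Spec R, closed point)` is pure iff restriction to the punctured spectrum is an equivalence. -/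
theorem isPurePair_iff {R : Type u} [CommRing R] [IsLocalRing R] :
    SGA2.IsPurePair (Spec (CommRingCat.of R)) (FEt.puncturedSpec R) ↔
      (FEt.restrict (FEt.puncturedSpec R).ι).IsEquivalence := by
  let X := Spec (CommRingCat.of R)
  let U := FEt.puncturedSpec R
  haveI hU : IsIso (X.homOfLE (inf_le_right : (⊤ : X.Opens) ⊓ U ≤ U)) :=
    ⟨X.homOfLE (le_inf le_top le_rfl : U ≤ ⊤ ⊓ U), by rw [Scheme.homOfLE_homOfLE, Scheme.homOfLE_rfl],
      by rw [Scheme.homOfLE_homOfLE, Scheme.homOfLE_rfl]⟩
  have hw : X.homOfLE (inf_le_right : (⊤ : X.Opens) ⊓ U ≤ U) ≫ U.ι =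
      X.homOfLE (inf_le_left : (⊤ : X.Opens) ⊓ U ≤ ⊤) ≫ (⊤ : X.Opens).ι := by
    rw [Scheme.homOfLE_ι, Scheme.homOfLE_ι]
  haveI : IsIso (⊤ : X.Opens).ι := X.topIso.isIso_hom
  constructor
  · intro h
    refine isEquivalence_cancel_left (X.homOfLE (inf_le_right : (⊤ : X.Opens) ⊓ U ≤ U)) U.ι _ rfl ?_
    exact isEquivalence_comp _ _ _ hw (h ⊤) (isEquivalence_of_iso _)
  · intro h V
    by_cases hV : closedPoint R ∈ V
    · obtain rfl := eq_top_of_mem V hV
      exact isEquivalence_cancel _ (⊤ : X.Opens).ι _ hw (isEquivalence_comp (X.homOfLE (inf_le_right : (⊤ : X.Opens) ⊓ U ≤ U)) U.ι _ rfl (isEquivalence_of_iso _) h) (isEquivalence_of_iso _)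
    · haveI : IsIso (X.homOfLE (inf_le_left : V ⊓ U ≤ V)) := by
        have hle : V ≤ V ⊓ U := le_inf le_rfl fun x hx he => hV (he ▸ hx)
        exact ⟨X.homOfLE hle, by rw [Scheme.homOfLE_homOfLE, Scheme.homOfLE_rfl], by rw [Scheme.homOfLE_homOfLE, Scheme.homOfLE_rfl]⟩
      exact isEquivalence_of_iso _

variable {A : Type u} [CommRing A] [IsLocalRing A]

theorem isPurePair_of_restrict_ff (t : A) [HenselianRing A (Ideal.span {t})] [IsLocalRing (A ⧸ Ideal.span {t})]
    (hF : (FEt.restrict (pullback.fst (FEt.puncturedSpec A).ι (Spec.map (CommRingCat.ofHom (Ideal.Quotient.mk (Ideal.span {t})))))).Full)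
    (hFa : (FEt.restrict (pullback.fst (FEt.puncturedSpec A).ι (Spec.map (CommRingCat.ofHom (Ideal.Quotient.mk (Ideal.span {t})))))).Faithful)
    (hB : SGA2.IsPurePair (Spec (CommRingCat.of (A ⧸ Ideal.span {t}))) (FEt.puncturedSpec (A ⧸ Ideal.span {t}))) :
    SGA2.IsPurePair (Spec (CommRingCat.of A)) (FEt.puncturedSpec A) := by
  haveI : IsClosedImmersion (Spec.map (CommRingCat.ofHom (Ideal.Quotient.mk (Ideal.span {t})))) :=
    IsClosedImmersion.spec_of_surjective _ Ideal.Quotient.mk_surjective
  let B := A ⧸ Ideal.span {t}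
  let ι := (FEt.puncturedSpec A).ι
  let q := Spec.map (CommRingCat.ofHom (Ideal.Quotient.mk (Ideal.span {t})))
  let j := pullback.fst ι q
  let jj := pullback.snd ι q
  haveI : IsOpenImmersion jj := MorphismProperty.pullback_snd _ _ inferInstance
  have hrange : Set.range jj.base = Set.range (FEt.puncturedSpec B).ι.base := by
    rw [show Set.range jj.base = _ from Scheme.Pullback.range_snd _ _, Scheme.Opens.range_ι, Scheme.Opens.range_ι]
    ext x
    show PrimeSpectrum.comap (Ideal.Quotient.mk (Ideal.span {t})) x ≠ closedPoint A ↔ x ≠ closedPoint B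
    refine not_congr ?_
    haveI : IsLocalHom (Ideal.Quotient.mk (Ideal.span {t})) := Function.Surjective.isLocalHom _ Ideal.Quotient.mk_surjective
    rw [← IsLocalRing.comap_closedPoint (f := Ideal.Quotient.mk (Ideal.span {t}))]
    exact (PrimeSpectrum.comap_injective_of_surjective _ Ideal.Quotient.mk_surjective).eq_iff
  let κ := IsOpenImmersion.isoOfRangeEq jj (FEt.puncturedSpec B).ι hrange
  have hjj : (FEt.restrict jj).IsEquivalence :=
    isEquivalence_comp κ.hom _ jj (IsOpenImmersion.isoOfRangeEq_hom_fac _ _ _).symm (isEquivalence_of_iso _)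
      (isPurePair_iff.1 hB)
  have hq := S0239.result A (Ideal.span {t})
  have h2 : (FEt.restrict (jj ≫ q)).IsEquivalence := isEquivalence_comp jj q _ rfl hjj hq
  let F := FEt.restrict ι
  let G := FEt.restrict j
  haveI : (F ⋙ G).IsEquivalence := by
    haveI := h2
    exact @Functor.isEquivalence_of_iso _ _ _ _ _ _
      (MorphismProperty.Over.pullbackComp (P := FEt.prop.{u}) (Q := ⊤) j ι (jj ≫ q) pullback.condition.symm) h2
  haveI : G.Full := hF
  haveI : G.Faithful := hFa
  haveI : F.Faithful := Functor.Faithful.of_comp F G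
  haveI : F.Full := Functor.Full.of_comp_faithful F G
  haveI : F.EssSurj := ⟨fun V => ⟨(F ⋙ G).objPreimage (G.obj V),
    ⟨G.preimageIso ((F ⋙ G).objObjPreimageIso (G.obj V))⟩⟩⟩
  exact isPurePair_iff.2 { }

end Groth.Agent.PurX
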