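import Groth.Agent.PurX.ThickPro

/-!
# Gluing extensions over the torsion-free quotient with covers of a thickened hypersurface
-/

set_option autoImplicit false
set_option linter.style.haveILetI false
set_option linter.unusedSectionVars false

universe u

open CategoryTheory CategoryTheory.Limits AlgebraicGeometry TensorProduct IsLocalRing
open Groth.Agent.Pi1Ext Groth.Agent.Pi1Ext.RegPurity

set_option backward.isDefEq.respectTransparency false

noncomputable section

namespace Groth.Agent.PurX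

variable {A : Type u} [CommRing A] [IsLocalRing A] [IsNoetherianRing A] {f : A}

/-- Étaleness spreads from the hypersurface, with controlled torsion. -/
theorem isEtaleAt_of_etOff_torsion [IsLocalRing (A ⧸ Ideal.span {f})] (C : Type u) [CommRing C] [Algebra A C] [Module.Finite A C]
    {T : Ideal A} (hT : ∀ r ∈ T, f * r = 0) (hC : EtOff (A ⧸ Ideal.span {f}) ((A ⧸ Ideal.span {f}) ⊗[A] C))
    (Q : PrimeSpectrum C) (hf : f ∈ (PrimeSpectrum.comap (algebraMap A C) Q).asIdeal)
    (hne : PrimeSpectrum.comap (algebraMap A C) Q ≠ closedPoint A)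
    (hM : ∀ c : C, f • c = 0 → ∃ v, v ∉ (PrimeSpectrum.comap (algebraMap A C) Q).asIdeal ∧ v • c ∈ T • (⊤ : Submodule A C)) : Algebra.IsEtaleAt A Q.asIdeal := by
  let p := (PrimeSpectrum.comap (algebraMap A C) Q).asIdeal
  obtain ⟨a, ha, hap⟩ : ∃ a ∈ maximalIdeal A, a ∉ p := SetLike.not_le_iff_exists.1 fun hle =>
    hne (PrimeSpectrum.ext ((maximalIdeal.isMaximal A).eq_of_le (Ideal.IsPrime.ne_top inferInstance) hle).symm)
  let B := A ⧸ Ideal.span {f}
  let A' := Localization.AtPrime p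
  let C' := A' ⊗[A] C
  let t := algebraMap A A' f
  have ht : t ∈ maximalIdeal A' := (IsLocalization.AtPrime.to_map_mem_maximal_iff A' p f).2 hf
  haveI : IsNoetherianRing A' := IsLocalization.isNoetherianRing p.primeCompl _ inferInstance
  -- the `f`-torsion of the localised algebra
  have hT' : ∀ r ∈ T.map (algebraMap A A'), t * r = 0 := by
    intro r hr
    refine Submodule.span_induction ?_ (mul_zero _) (fun x y _ _ hx hy => by rw [mul_add, hx, hy, add_zero])
      (fun s x _ hx => by rw [smul_eq_mul, mul_left_comm, hx, mul_zero]) hr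
    rintro _ ⟨r, hr, rfl⟩
    rw [← map_mul, hT r hr, map_zero]
  have hM' : ∀ m : C', t • m = 0 → m ∈ T.map (algebraMap A A') • (⊤ : Submodule A' C') := by
    intro m hm
    haveI := (isLocalizedModule_iff_isBaseChange p.primeCompl A' (TensorProduct.mk A A' C 1)).2
      (TensorProduct.isBaseChange A C A')
    obtain ⟨⟨c, s⟩, hcs⟩ := IsLocalizedModule.surj p.primeCompl (TensorProduct.mk A A' C 1) m
    have h0 : TensorProduct.mk A A' C 1 (f • c) = TensorProduct.mk A A' C 1 0 := by
      rw [map_smul, ← hcs, map_zero, smul_comm, ← algebraMap_smul A' f m, hm, smul_zero]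
    obtain ⟨u, hu⟩ := IsLocalizedModule.exists_of_eq (S := p.primeCompl) h0
    rw [smul_zero, smul_comm] at hu
    obtain ⟨v, hv, hvc⟩ := hM _ hu
    have hmap : ∀ y ∈ T • (⊤ : Submodule A C), TensorProduct.mk A A' C 1 y ∈ T.map (algebraMap A A') • (⊤ : Submodule A' C') :=
      fun y hy => Submodule.smul_induction_on hy (fun r hr z _ => by
        rw [map_smul, ← algebraMap_smul A' r]
        exact Submodule.smul_mem_smul (Ideal.mem_map_of_mem _ hr) trivial)
        fun y z hy hz => by rw [map_add]; exact add_mem hy hz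
    have h1 := hmap _ hvc
    rw [map_smul, show u • c = (u : A) • c from rfl, map_smul, ← hcs, show s • m = (s : A) • m from rfl, smul_smul,
      smul_smul, ← algebraMap_smul A'] at h1
    have hu' : IsUnit (algebraMap A A' (v * (u * s))) := IsLocalization.map_units A'
      (⟨v * (u * s), p.primeCompl.mul_mem hv (p.primeCompl.mul_mem u.2 s.2)⟩ : p.primeCompl)
    rw [mul_assoc] at h1
    exact (Submodule.smul_mem_iff_of_isUnit _ hu').1 h1
  -- and étale modulo `f`
  let B' := A' ⧸ Ideal.span {t}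
  letI : Algebra B B' := (Ideal.quotientMap (Ideal.span {t}) (algebraMap A A')
    ((Ideal.span_singleton_le_iff_mem _).2 (Ideal.mem_comap.2 (Ideal.mem_span_singleton_self t)))).toAlgebra
  haveI : IsScalarTower A B B' := IsScalarTower.of_algebraMap_eq fun _ => rfl
  haveI : Algebra.Etale B' (B' ⊗[B] (B ⊗[A] C)) := by
    refine etale_tensor_of_etAway (hC (Ideal.Quotient.mk _ a) ?_) B' ?_
    · haveI : IsLocalHom (Ideal.Quotient.mk (Ideal.span {f})) :=
        Function.Surjective.isLocalHom _ Ideal.Quotient.mk_surjective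
      rw [mem_maximalIdeal, mem_nonunits_iff]
      exact fun h => ha (IsLocalHom.map_nonunit _ h)
    · exact ((IsLocalization.map_units A' (⟨a, hap⟩ : p.primeCompl)).map (Ideal.Quotient.mk (Ideal.span {t})))
  haveI : Algebra.Etale B' (B' ⊗[A] C) := by
    let e := Algebra.TensorProduct.cancelBaseChange A B B' B' C
    exact Algebra.Etale.of_equiv (R := B') (A := B' ⊗[B] (B ⊗[A] C)) e
  haveI : Algebra.Etale B' (B' ⊗[A'] C') := by
    let e := (Algebra.TensorProduct.cancelBaseChange A A' B' B' C).symm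
    exact Algebra.Etale.of_equiv (R := B') (A := B' ⊗[A] C) e
  haveI : Algebra.Etale A' C' := etale_of_torsion_quotient ht hT' C' hM'
  -- back to the local ring at the prime
  haveI : Algebra.FormallyEtale A A' := Algebra.FormallyEtale.of_isLocalization p.primeCompl
  haveI : Algebra.FormallyEtale A C' := Algebra.FormallyEtale.comp A A' C'
  letI : Algebra C C' := Algebra.TensorProduct.rightAlgebra
  haveI : IsLocalization (Algebra.algebraMapSubmonoid C p.primeCompl) C' := inferInstance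
  let CQ := Localization.AtPrime Q.asIdeal
  have hle : Algebra.algebraMapSubmonoid C p.primeCompl ≤ Q.asIdeal.primeCompl := by
    rintro _ ⟨s, hs, rfl⟩ hs'
    exact hs hs'
  letI : Algebra C' CQ := IsLocalization.localizationAlgebraOfSubmonoidLe C' CQ _ _ hle
  haveI : IsScalarTower C C' CQ := IsLocalization.localization_isScalarTower_of_submonoid_le C' CQ _ _ hle
  haveI : IsLocalization (Q.asIdeal.primeCompl.map (algebraMap C C')) CQ :=
    IsLocalization.isLocalization_of_submonoid_le C' CQ _ _ hle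
  haveI : Algebra.FormallyEtale C' CQ :=
    Algebra.FormallyEtale.of_isLocalization (Q.asIdeal.primeCompl.map (algebraMap C C'))
  haveI : IsScalarTower A C C' := IsScalarTower.of_algebraMap_eq fun r =>
    ((Algebra.TensorProduct.includeRight : C →ₐ[A] C').commutes r).symm
  haveI : IsScalarTower A C' CQ := IsScalarTower.of_algebraMap_eq fun r =>
    (IsScalarTower.algebraMap_apply A C CQ r).trans ((IsScalarTower.algebraMap_apply C C' CQ _).trans
      (congrArg (algebraMap C' CQ) (IsScalarTower.algebraMap_apply A C C' r).symm))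
  exact Algebra.FormallyEtale.comp A C' CQ

/-- A surjective base change kills only the multiples of the kernel. -/
theorem mem_ker_smul_of_one_tmul_eq_zero {R S M : Type u} [CommRing R] [CommRing S] [Algebra R S] [AddCommGroup M]
    [Module R M] (hs : Function.Surjective (algebraMap R S)) {x : M} (h : (1 : S) ⊗ₜ[R] x = 0) :
    x ∈ RingHom.ker (algebraMap R S) • (⊤ : Submodule R M) := by
  let e := Ideal.quotientKerAlgEquivOfSurjective (f := Algebra.ofId R S) hs
  have h1 := congrArg (TensorProduct.congr e.symm.toLinearEquiv (LinearEquiv.refl R M)) h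
  rw [TensorProduct.congr_tmul, map_zero] at h1
  have h2 := congrArg (TensorProduct.quotTensorEquivQuotSMul M (RingHom.ker (Algebra.ofId R S))) h1
  rw [map_zero, show e.symm.toLinearEquiv 1 = 1 from map_one e.symm, LinearEquiv.refl_apply,
    TensorProduct.quotTensorEquivQuotSMul_mk_one_tmul, Submodule.Quotient.mk_eq_zero] at h2
  exact h2

set_option maxHeartbeats 800000 in
/-- A cover of the hypersurface extends near it if its restriction to the quotient by an ideal killed by
`f` is modelled by an `f`-regular finite algebra there. -/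
theorem exists_extension_of_torsion_quotient (T : Ideal A) (hT : ∀ r ∈ T, f * r = 0)
    [IsLocalRing (A ⧸ Ideal.span {f})] [IsLocalRing (A ⧸ T)]
    [IsLocalRing ((A ⧸ T) ⧸ Ideal.span {Ideal.Quotient.mk T f})]
    (H : ∀ (D : Type u) [CommRing D] [Algebra ((A ⧸ T) ⧸ Ideal.span {Ideal.Quotient.mk T f}) D]
      [Module.Finite ((A ⧸ T) ⧸ Ideal.span {Ideal.Quotient.mk T f}) D]
      (_ : EtOff ((A ⧸ T) ⧸ Ideal.span {Ideal.Quotient.mk T f}) D),
      ∃ (C : Type u) (_ : CommRing C) (_ : Algebra (A ⧸ T) C) (_ : Module.Finite (A ⧸ T) C)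
        (_ : ∀ c : C, Ideal.Quotient.mk T f • c = 0 → c = 0)
        (_ : EtOff ((A ⧸ T) ⧸ Ideal.span {Ideal.Quotient.mk T f})
          (((A ⧸ T) ⧸ Ideal.span {Ideal.Quotient.mk T f}) ⊗[A ⧸ T] C))
        (R' : Type u) (_ : CommRing R') (_ : Algebra ((A ⧸ T) ⧸ Ideal.span {Ideal.Quotient.mk T f}) R')
        (_ : Module.Finite ((A ⧸ T) ⧸ Ideal.span {Ideal.Quotient.mk T f}) R')
        (_ : EtOff ((A ⧸ T) ⧸ Ideal.span {Ideal.Quotient.mk T f}) R')
        (φ : D →ₐ[(A ⧸ T) ⧸ Ideal.span {Ideal.Quotient.mk T f}] R')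
        (ψ : ((A ⧸ T) ⧸ Ideal.span {Ideal.Quotient.mk T f}) ⊗[A ⧸ T] C →ₐ[(A ⧸ T) ⧸ Ideal.span {Ideal.Quotient.mk T f}] R'),
        (∀ b ∈ maximalIdeal ((A ⧸ T) ⧸ Ideal.span {Ideal.Quotient.mk T f}), IsoAway φ b) ∧
        (∀ b ∈ maximalIdeal ((A ⧸ T) ⧸ Ideal.span {Ideal.Quotient.mk T f}),
          IsoAway (C := ((A ⧸ T) ⧸ Ideal.span {Ideal.Quotient.mk T f}) ⊗[A ⧸ T] C) (B := R') ψ b))
    (V₀ : FEt.Cat (pullback (FEt.puncturedSpec A).ι (Spec.map (CommRingCat.ofHom (Ideal.Quotient.mk (Ideal.span {f})))))) :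
    ∃ (U' : (Spec (CommRingCat.of A)).Opens) (_ : U' ≤ FEt.puncturedSpec A)
      (u' : pullback (FEt.puncturedSpec A).ι (Spec.map (CommRingCat.ofHom (Ideal.Quotient.mk (Ideal.span {f})))) ⟶ (U' : Scheme.{u}))
      (_ : u' ≫ U'.ι = pullback.fst (FEt.puncturedSpec A).ι (Spec.map (CommRingCat.ofHom (Ideal.Quotient.mk (Ideal.span {f})))) ≫ (FEt.puncturedSpec A).ι)
      (V' : FEt.Cat (U' : Scheme.{u})), Nonempty ((FEt.restrict u').obj V' ≅ V₀) := by
  classical
  let B := A ⧸ Ideal.span {f}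
  let B' := (A ⧸ T) ⧸ Ideal.span {Ideal.Quotient.mk T f}
  let σ : B →+* B' := Ideal.Quotient.lift _ ((Ideal.Quotient.mk _).comp (Ideal.Quotient.mk T))
    fun a ha => by
      obtain ⟨r, rfl⟩ := Ideal.mem_span_singleton'.1 ha
      rw [RingHom.comp_apply, Ideal.Quotient.eq_zero_iff_mem, map_mul]
      exact Ideal.mul_mem_left _ _ (Ideal.mem_span_singleton_self _)
  have hσ : Function.Surjective σ := Ideal.Quotient.lift_surjective_of_surjective _ _
    (Ideal.Quotient.mk_surjective.comp Ideal.Quotient.mk_surjective)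
  letI : Algebra B B' := σ.toAlgebra
  haveI : IsScalarTower A B B' := IsScalarTower.of_algebraMap_eq fun _ => rfl
  haveI : IsLocalHom (algebraMap B B') := Function.Surjective.isLocalHom _ hσ
  haveI : IsLocalHom (algebraMap A B) := Function.Surjective.isLocalHom _ Ideal.Quotient.mk_surjective
  haveI : IsLocalHom (algebraMap A B') := Function.Surjective.isLocalHom _
    (Ideal.Quotient.mk_surjective.comp Ideal.Quotient.mk_surjective)
  have hmB : maximalIdeal B' = (maximalIdeal B).map (algebraMap B B') := by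
    refine le_antisymm (fun b hb => ?_) (Ideal.map_le_iff_le_comap.2 fun b hb => ?_)
    · obtain ⟨b, rfl⟩ := hσ b
      refine Ideal.mem_map_of_mem _ ?_
      rw [mem_maximalIdeal, mem_nonunits_iff] at hb ⊢
      exact fun h => hb (h.map _)
    · rw [Ideal.mem_comap, mem_maximalIdeal, mem_nonunits_iff]
      exact fun h => hb (IsLocalHom.map_nonunit _ h)
  have hmA : ∀ a ∈ maximalIdeal A, algebraMap A B' a ∈ maximalIdeal B' := fun a ha => by
    rw [mem_maximalIdeal, mem_nonunits_iff]
    exact fun h => ha (IsLocalHom.map_nonunit _ h)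
  -- the models
  obtain ⟨κ, hκ⟩ := exists_punctured_iso (Ideal.span {f})
  obtain ⟨D, _, _, _, hD, ⟨e⟩⟩ := PuritySch.exists_finite_model ((FEt.restrict κ.hom).obj V₀)
  let Dt := B' ⊗[B] D
  obtain ⟨Ct, _, _, _, hreg, -, R', _, _, _, -, φ, ψ, hφ, hψ⟩ := H Dt (etOff_baseChange hD B' hmB)
  letI : Algebra A Ct := Algebra.compHom Ct (algebraMap A (A ⧸ T))
  haveI : IsScalarTower A (A ⧸ T) Ct := IsScalarTower.of_algebraMap_eq fun _ => rfl
  haveI : Module.Finite A Ct := Module.Finite.trans (A ⧸ T) Ct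
  letI : Algebra A D := Algebra.compHom D (algebraMap A B)
  haveI : IsScalarTower A B D := IsScalarTower.of_algebraMap_eq fun _ => rfl
  haveI : Module.Finite A D := Module.Finite.trans B D
  letI : Algebra A R' := Algebra.compHom R' (algebraMap A B')
  haveI : IsScalarTower A B' R' := ⟨fun a b r => by
    have e : a • b = algebraMap A B' a * b := Algebra.smul_def a b
    rw [e, Algebra.smul_def, Algebra.smul_def a, Algebra.smul_def b, map_mul, mul_assoc]
    rfl⟩
  -- the fibre product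
  let p₁ : Ct →ₐ[A] R' :=
    { toRingHom := ψ.toRingHom.comp (Algebra.TensorProduct.includeRight : Ct →ₐ[A ⧸ T] B' ⊗[A ⧸ T] Ct).toRingHom
      commutes' := fun a => by
        show ψ ((1 : B') ⊗ₜ[A ⧸ T] algebraMap (A ⧸ T) Ct (algebraMap A (A ⧸ T) a)) = algebraMap B' R' (algebraMap A B' a)
        rw [← ψ.commutes, Algebra.algebraMap_eq_smul_one (A := Ct), TensorProduct.tmul_smul, TensorProduct.smul_tmul',
          ← Algebra.algebraMap_eq_smul_one]
        rfl }
  let p₂ : D →ₐ[A] R' :=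
    { toRingHom := φ.toRingHom.comp (Algebra.TensorProduct.includeRight : D →ₐ[B] Dt).toRingHom
      commutes' := fun a => by
        show φ ((1 : B') ⊗ₜ[B] algebraMap B D (algebraMap A B a)) = algebraMap B' R' (algebraMap A B' a)
        rw [← φ.commutes, Algebra.algebraMap_eq_smul_one (A := D), TensorProduct.tmul_smul, TensorProduct.smul_tmul',
          ← Algebra.algebraMap_eq_smul_one]
        rfl }
  let C : Subalgebra A (Ct × D) :=
    AlgHom.equalizer (p₁.comp (AlgHom.fst A Ct D)) (p₂.comp (AlgHom.snd A Ct D))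
  have hC : ∀ {c : Ct} {d : D}, p₁ c = p₂ d → (c, d) ∈ C := fun h => h
  haveI : Module.Finite A C := Module.Finite.of_injective C.val.toLinearMap Subtype.val_injective
  -- lifting along the two maps
  have hp₁ : ∀ a ∈ maximalIdeal A, ∀ z : R', ∃ (k : ℕ) (c : Ct), a ^ k • z = p₁ c := fun a ha z => by
    obtain ⟨k, y, hy⟩ := (hψ _ (hmA a ha)).1 z
    obtain ⟨c, hc⟩ := TensorProduct.mk_surjective (A ⧸ T) Ct B' Ideal.Quotient.mk_surjective y
    exact ⟨k, c, by rw [← algebraMap_smul B', map_pow, hy, ← hc]; rfl⟩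
  have hp₂ : ∀ a ∈ maximalIdeal A, ∀ z : R', ∃ (k : ℕ) (d : D), a ^ k • z = p₂ d := fun a ha z => by
    obtain ⟨k, y, hy⟩ := (hφ _ (hmA a ha)).1 z
    obtain ⟨d, hd⟩ := TensorProduct.mk_surjective B D B' hσ y
    exact ⟨k, d, by rw [← algebraMap_smul B', map_pow, hy, ← hd]; rfl⟩
  have hfD : ∀ d : D, f • d = 0 := fun d => by
    rw [← algebraMap_smul B, Ideal.Quotient.algebraMap_eq,
      Ideal.Quotient.eq_zero_iff_mem.2 (Ideal.mem_span_singleton_self f), zero_smul]
  -- the model modulo `f`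
  let C₀ := B ⊗[A] C
  let θ : C₀ →ₐ[B] D :=
    Algebra.TensorProduct.lift (Algebra.ofId B D) ((AlgHom.snd A Ct D).comp C.val) fun _ _ => Commute.all _ _
  have hθ : ∀ c : C, θ ((1 : B) ⊗ₜ c) = (c : Ct × D).2 := fun c => by
    rw [Algebra.TensorProduct.lift_tmul, map_one, one_mul]
    rfl
  have hθiso : ∀ b ∈ maximalIdeal B, IsoAway θ b := by
    intro b hb
    obtain ⟨a, rfl⟩ := Ideal.Quotient.mk_surjective b
    have ha : a ∈ maximalIdeal A := by
      rw [mem_maximalIdeal, mem_nonunits_iff] at hb ⊢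
      exact fun h => hb (h.map _)
    refine ⟨fun d => ?_, fun y hy => ?_⟩
    · obtain ⟨k, c, hc⟩ := hp₁ a ha (p₂ d)
      refine ⟨k, (1 : B) ⊗ₜ[A] (⟨(c, a ^ k • d), hC (by rw [map_smul]; exact hc.symm)⟩ : C), ?_⟩
      rw [hθ, ← map_pow, ← Ideal.Quotient.algebraMap_eq, algebraMap_smul]
    · obtain ⟨⟨⟨c, d⟩, hcd⟩, rfl⟩ := TensorProduct.mk_surjective A C B Ideal.Quotient.mk_surjective y
      have hd0 : d = 0 := (hθ ⟨(c, d), hcd⟩).symm.trans hy
      subst hd0
      have hc0 : ψ ((1 : B') ⊗ₜ[A ⧸ T] c) = 0 := (hcd : p₁ c = p₂ 0).trans (map_zero p₂)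
      obtain ⟨k, hk⟩ := (hψ _ (hmA a ha)).2 _ hc0
      rw [← map_pow, IsScalarTower.algebraMap_apply A (A ⧸ T) B', algebraMap_smul, ← TensorProduct.tmul_smul,
        algebraMap_smul] at hk
      have hk' := congrArg (TensorProduct.quotTensorEquivQuotSMul Ct (Ideal.span {Ideal.Quotient.mk T f})) hk
      rw [TensorProduct.quotTensorEquivQuotSMul_mk_one_tmul, map_zero, Submodule.Quotient.mk_eq_zero,
        Submodule.ideal_span_singleton_smul, Submodule.mem_smul_pointwise_iff_exists] at hk'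
      obtain ⟨c', -, hc'⟩ := hk'
      rw [← Ideal.Quotient.algebraMap_eq, algebraMap_smul] at hc'
      obtain ⟨j, d', hd'⟩ := hp₂ a ha (p₁ c')
      have hmem : (a ^ j • c', d') ∈ C := hC (by rw [map_smul, hd'])
      refine ⟨j + k, ?_⟩
      rw [← map_pow, ← Ideal.Quotient.algebraMap_eq, algebraMap_smul, TensorProduct.mk_apply,
        ← TensorProduct.tmul_smul,
        show a ^ (j + k) • (⟨(c, 0), hcd⟩ : C) = f • ⟨(a ^ j • c', d'), hmem⟩ from Subtype.ext (Prod.ext
          (show a ^ (j + k) • c = f • a ^ j • c' by rw [smul_comm f, hc', smul_smul, pow_add])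
          (show a ^ (j + k) • (0 : D) = f • d' by rw [smul_zero, hfD])),
        TensorProduct.tmul_smul, ← algebraMap_smul B f ((1 : B) ⊗ₜ[A] _), Ideal.Quotient.algebraMap_eq,
        Ideal.Quotient.eq_zero_iff_mem.2 (Ideal.mem_span_singleton_self f), zero_smul]
  have hC₀ : EtOff B C₀ := fun b hb => PuritySch.etAway_of_isoAway (hθiso b hb) (hD b hb)
  have het : ∀ Q : PrimeSpectrum C, f ∈ (PrimeSpectrum.comap (algebraMap A C) Q).asIdeal →
      PrimeSpectrum.comap (algebraMap A C) Q ≠ closedPoint A → Algebra.IsEtaleAt A Q.asIdeal := by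
    intro Q hfQ hne
    refine isEtaleAt_of_etOff_torsion C hT hC₀ Q hfQ hne fun ⟨⟨c, d⟩, hcd⟩ hc => ?_
    obtain ⟨a, ha, hap⟩ : ∃ a ∈ maximalIdeal A, a ∉ (PrimeSpectrum.comap (algebraMap A C) Q).asIdeal :=
      SetLike.not_le_iff_exists.1 fun hle =>
        hne (PrimeSpectrum.ext ((maximalIdeal.isMaximal A).eq_of_le (Ideal.IsPrime.ne_top inferInstance) hle).symm)
    have hc1 : f • c = 0 := congrArg (fun z => (Subtype.val z).1) hc
    have hc0 : c = 0 := hreg c (by rw [← Ideal.Quotient.algebraMap_eq, algebraMap_smul]; exact hc1)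
    subst hc0
    have hd0 : φ ((1 : B') ⊗ₜ[B] d) = 0 := (hcd : p₁ 0 = p₂ d).symm.trans (map_zero p₁)
    obtain ⟨k, hk⟩ := (hφ _ (hmA a ha)).2 _ hd0
    rw [← map_pow, IsScalarTower.algebraMap_apply A B B', algebraMap_smul, ← TensorProduct.tmul_smul,
      algebraMap_smul] at hk
    suffices h : ∀ z ∈ RingHom.ker (algebraMap B B') • (⊤ : Submodule B D), p₁ 0 = p₂ z ∧
        ∃ j : ℕ, ∀ hz : ((0 : Ct), z) ∈ C, a ^ j • (⟨(0, z), hz⟩ : C) ∈ T • (⊤ : Submodule A C) by
      obtain ⟨hz, j, hj⟩ := h _ (mem_ker_smul_of_one_tmul_eq_zero hσ hk)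
      refine ⟨a ^ (j + k), fun hmem => hap (Ideal.IsPrime.mem_of_pow_mem inferInstance _ hmem), ?_⟩
      have e : a ^ (j + k) • (⟨(0, d), hcd⟩ : C) = a ^ j • ⟨(0, a ^ k • d), hC hz⟩ := by
        rw [pow_add, mul_smul]
        exact congrArg (a ^ j • ·) (Subtype.ext (Prod.ext (smul_zero _) rfl))
      rw [e]
      exact hj _
    intro z hz
    refine Submodule.smul_induction_on hz (fun r hr d' _ => ?_) fun x y ⟨hx, jx, hjx⟩ ⟨hy, jy, hjy⟩ =>
      ⟨by rw [map_add, ← hx, ← hy, map_zero, add_zero], jx + jy, fun hxy => ?_⟩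
    · obtain ⟨r, rfl⟩ := Ideal.Quotient.mk_surjective r
      have hr' : Ideal.Quotient.mk T r ∈ Ideal.span {Ideal.Quotient.mk T f} := Ideal.Quotient.eq_zero_iff_mem.1 hr
      obtain ⟨s, hs⟩ := Ideal.mem_span_singleton'.1 hr'
      obtain ⟨s, rfl⟩ := Ideal.Quotient.mk_surjective s
      rw [← map_mul, Ideal.Quotient.eq] at hs
      have e : (Ideal.Quotient.mk (Ideal.span {f}) r) • d' = (r - s * f) • d' := by
        rw [← Ideal.Quotient.algebraMap_eq, algebraMap_smul, sub_smul, mul_smul, hfD, smul_zero, sub_zero]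
      have ht : r - s * f ∈ T := by simpa using neg_mem hs
      have hRT : ∀ y : Ct, (r - s * f) • y = 0 := fun y => by
        rw [← algebraMap_smul (A ⧸ T), Ideal.Quotient.algebraMap_eq, Ideal.Quotient.eq_zero_iff_mem.2 ht, zero_smul]
      obtain ⟨j, c', hc'⟩ := hp₁ a ha (p₂ d')
      have h0 : p₁ 0 = p₂ ((r - s * f) • d') := by
        rw [map_zero, map_smul, ← algebraMap_smul B', IsScalarTower.algebraMap_apply A (A ⧸ T) B',
          Ideal.Quotient.algebraMap_eq T, Ideal.Quotient.eq_zero_iff_mem.2 ht, map_zero]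
        exact (zero_smul B' (p₂ d')).symm
      rw [e]
      refine ⟨h0, j, fun hz => ?_⟩
      rw [show a ^ j • (⟨(0, (r - s * f) • d'), hz⟩ : C) =
        (r - s * f) • ⟨(c', a ^ j • d'), hC (by rw [map_smul]; exact hc'.symm)⟩ from
        Subtype.ext (Prod.ext ((smul_zero _).trans (hRT c').symm) (smul_comm _ _ _))]
      exact Submodule.smul_mem_smul ht trivial
    · rw [show (⟨(0, x + y), hxy⟩ : C) = ⟨(0, x), hC hx⟩ + ⟨(0, y), hC hy⟩ from
        Subtype.ext (Prod.ext (add_zero (0 : Ct)).symm rfl), smul_add]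
      refine add_mem ?_ ?_
      · rw [add_comm jx jy, pow_add, mul_smul]
        exact Submodule.smul_mem _ _ (hjx _)
      · rw [pow_add, mul_smul]
        exact Submodule.smul_mem _ _ (hjy _)
  obtain ⟨e'⟩ := PuritySch.nonempty_iso θ hθiso (PuritySch.prop_rest C₀ hC₀) (PuritySch.prop_rest D hD)
  exact exists_extension_of_algebra C het hC₀ V₀ κ hκ ⟨e'.symm ≪≫ e⟩

end Groth.Agent.PurX
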