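import Groth.Agent.PurX.ThickBottom
import Groth.Agent.PurX.EtaleLift
import Groth.Agent.Pi1Ext.Spread

/-!
# Covers of the punctured hypersurface extend to a neighbourhood
-/

set_option autoImplicit false
set_option linter.style.haveILetI false
set_option linter.unusedSectionVars false

universe u

open CategoryTheory CategoryTheory.Limits AlgebraicGeometry TensorProduct IsLocalRing
open Groth.Agent.Pi1Ext Groth.Agent.Pi1Ext.RegPurity

set_option backward.isDefEq.respectTransparency false

noncomputable section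

namespace Groth.Agent.PurX

variable {A : Type u} [CommRing A]

/-- A finite algebra which is étale at the primes over an open set restricts to a cover of it. -/
theorem prop_restrict_open {C : Type u} [CommRing C] [Algebra A C] [Module.Finite A C] [IsNoetherianRing A]
    {U' : (Spec (CommRingCat.of A)).Opens}
    (h : ∀ Q : PrimeSpectrum C, PrimeSpectrum.comap (algebraMap A C) Q ∈ U' → Algebra.IsEtaleAt A Q.asIdeal) :
    FEt.prop (pullback.snd (PuritySch.sp A C) U'.ι) := by
  haveI : Algebra.FinitePresentation A C := Algebra.FinitePresentation.of_finiteType.mp inferInstance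
  haveI : IsFinite (PuritySch.sp A C) := (IsFinite.SpecMap_iff _).2 (RingHom.finite_algebraMap.2 inferInstance)
  refine ⟨MorphismProperty.pullback_snd _ _ inferInstance, ?_⟩
  have hbasis : ∀ x : (U' : Scheme.{u}), ∃ a : A, a ∉ (U'.ι x : PrimeSpectrum A).asIdeal ∧
      ∀ q : PrimeSpectrum A, a ∉ q.asIdeal → q ∈ U' := fun x => by
    obtain ⟨_, ⟨_, ⟨a, rfl⟩, rfl⟩, hxa, haU⟩ :=
      PrimeSpectrum.isBasis_basic_opens.exists_subset_of_mem_open (show U'.ι x ∈ (U' : Set _) from x.2) U'.2
    exact ⟨a, hxa, fun q hq => haU hq⟩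
  choose a ha haU using hbasis
  let sa : ∀ x, Spec (CommRingCat.of (Localization.Away (a x))) ⟶ (U' : Scheme.{u}) := fun x =>
    IsOpenImmersion.lift U'.ι (PuritySch.sp A (Localization.Away (a x))) (by
      rw [Scheme.Opens.range_ι]
      rintro _ ⟨q, rfl⟩
      exact haU x _ fun hq => q.2.ne_top
        (Ideal.eq_top_of_isUnit_mem _ hq (IsLocalization.Away.algebraMap_isUnit (a x))))
  let 𝒰 : Scheme.OpenCover.{u} (U' : Scheme.{u}) :=
    Scheme.Cover.mkOfCovers (U' : Scheme.{u}) (fun x => Spec (CommRingCat.of (Localization.Away (a x)))) sa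
      (fun y => by
        have hy : (U'.ι y : PrimeSpectrum A) ∈
            Set.range (PrimeSpectrum.comap (algebraMap A (Localization.Away (a y)))) := by
          rw [PrimeSpectrum.localization_away_comap_range (Localization.Away (a y)) (a y)]
          exact ha y
        obtain ⟨q, hq⟩ := hy
        refine ⟨y, q, U'.ι.isOpenEmbedding.injective ?_⟩
        rw [← Scheme.Hom.comp_apply, IsOpenImmersion.lift_fac]
        exact hq)
      (fun x => by
        haveI : IsOpenImmersion (PuritySch.sp A (Localization.Away (a x))) := IsOpenImmersion.of_isLocalization (a x)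
        haveI : IsOpenImmersion (sa x ≫ U'.ι) := by rw [IsOpenImmersion.lift_fac]; infer_instance
        exact IsOpenImmersion.of_comp _ U'.ι)
  refine IsZariskiLocalAtTarget.of_openCover (P := @Etale) 𝒰 fun x => ?_
  let Aa := Localization.Away (a x)
  have het : EtAway A C (a x) := by
    refine Algebra.basicOpen_subset_etaleLocus_iff_etale.1 fun Q hQ => h Q (haU x _ ?_)
    exact hQ
  haveI := etale_tensor_of_etAway het Aa (IsLocalization.Away.algebraMap_isUnit (a x))
  show Etale (pullback.snd (pullback.snd (PuritySch.sp A C) U'.ι) (sa x))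
  have e1 : IsPullback (pullback.fst (pullback.snd (PuritySch.sp A C) U'.ι) (sa x) ≫ pullback.fst _ _)
      (pullback.snd _ (sa x)) (PuritySch.sp A C) (PuritySch.sp A Aa) := by
    have := (IsPullback.of_hasPullback (pullback.snd (PuritySch.sp A C) U'.ι) (sa x)).paste_horiz
      (IsPullback.of_hasPullback (PuritySch.sp A C) U'.ι)
    rwa [IsOpenImmersion.lift_fac] at this
  rw [← e1.flip.isoPullback_hom_fst, ← pullbackSpecIso_hom_fst' A Aa C,
    MorphismProperty.cancel_left_of_respectsIso (P := @Etale),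
    MorphismProperty.cancel_left_of_respectsIso (P := @Etale)]
  exact (HasRingHomProperty.Spec_iff (P := @Etale)).2 (RingHom.etale_algebraMap.2 inferInstance)

/-- A cartesian square gives the comparison of a restricted base change. -/
theorem nonempty_iso_restrict_of_isPullback {X S U W Z : Scheme.{u}} {p : X ⟶ S} {j : U ⟶ S} {w : W ⟶ U}
    {a : Z ⟶ X} {b : Z ⟶ W} (H : IsPullback a b p (w ≫ j)) (hb : FEt.prop b) (hp : FEt.prop (pullback.snd p j)) :
    Nonempty ((MorphismProperty.Over.mk ⊤ b hb : FEt.Cat W) ≅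
      (FEt.restrict w).obj (MorphismProperty.Over.mk ⊤ (pullback.snd p j) hp)) :=
  ⟨MorphismProperty.Over.isoMk (H.isoPullback ≪≫ (pullbackLeftPullbackSndIso p j w).symm) (by
    simp [FEt.restrict]
    erw [pullbackLeftPullbackSndIso_inv_snd_snd]
    exact H.isoPullback_hom_snd)⟩

variable [IsLocalRing A] [IsNoetherianRing A] {f : A}

/-- Étaleness spreads from the punctured hypersurface. -/
theorem isEtaleAt_of_etOff [IsLocalRing (A ⧸ Ideal.span {f})] (C : Type u) [CommRing C] [Algebra A C] [Module.Finite A C]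
    (hreg : ∀ c : C, f • c = 0 → c = 0) (hC : EtOff (A ⧸ Ideal.span {f}) ((A ⧸ Ideal.span {f}) ⊗[A] C))
    (Q : PrimeSpectrum C) (hf : f ∈ (PrimeSpectrum.comap (algebraMap A C) Q).asIdeal)
    (hne : PrimeSpectrum.comap (algebraMap A C) Q ≠ closedPoint A) : Algebra.IsEtaleAt A Q.asIdeal := by
  let p := (PrimeSpectrum.comap (algebraMap A C) Q).asIdeal
  obtain ⟨a, ha, hap⟩ : ∃ a ∈ maximalIdeal A, a ∉ p := SetLike.not_le_iff_exists.1 fun hle =>
    hne (PrimeSpectrum.ext ((maximalIdeal.isMaximal A).eq_of_le (Ideal.IsPrime.ne_top inferInstance) hle).symm)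
  let B := A ⧸ Ideal.span {f}
  let A' := Localization.AtPrime p
  let C' := A' ⊗[A] C
  let t := algebraMap A A' f
  have ht : t ∈ maximalIdeal A' := (IsLocalization.AtPrime.to_map_mem_maximal_iff A' p f).2 hf
  haveI : IsNoetherianRing A' := IsLocalization.isNoetherianRing p.primeCompl _ inferInstance
  -- `f` is regular on the localised algebra
  have hreg' : ∀ m : C', t • m = 0 → m = 0 := by
    intro m hm
    haveI := (isLocalizedModule_iff_isBaseChange p.primeCompl A' (TensorProduct.mk A A' C 1)).2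
      (TensorProduct.isBaseChange A C A')
    obtain ⟨⟨c, s⟩, hcs⟩ := IsLocalizedModule.surj p.primeCompl (TensorProduct.mk A A' C 1) m
    have h0 : TensorProduct.mk A A' C 1 (f • c) = TensorProduct.mk A A' C 1 0 := by
      rw [map_smul, ← hcs, map_zero, smul_comm, ← algebraMap_smul A' f m, hm, smul_zero]
    obtain ⟨u, hu⟩ := IsLocalizedModule.exists_of_eq (S := p.primeCompl) h0
    rw [smul_zero, smul_comm] at hu
    have huc : u • c = 0 := hreg _ hu
    have hc0 : TensorProduct.mk A A' C 1 c = 0 := by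
      rw [← map_zero (TensorProduct.mk A A' C 1)]
      exact (IsLocalizedModule.eq_iff_exists p.primeCompl _).2 ⟨u, by rw [huc, smul_zero]⟩
    refine IsLocalizedModule.smul_injective (f := TensorProduct.mk A A' C 1) s ?_
    show s • m = s • 0
    rw [smul_zero]
    exact hcs.trans hc0
  -- and étale modulo `f`
  let B' := A' ⧸ Ideal.span {t}
  letI : Algebra B B' := (Ideal.quotientMap (Ideal.span {t}) (algebraMap A A')
    ((Ideal.span_singleton_le_iff_mem _).2 (Ideal.mem_comap.2 (Ideal.mem_span_singleton_self t)))).toAlgebra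
  haveI : IsScalarTower A B B' := IsScalarTower.of_algebraMap_eq fun _ => rfl
  haveI : Algebra.Etale B' (B' ⊗[B] (B ⊗[A] C)) := by
    refine etale_tensor_of_etAway (hC (Ideal.Quotient.mk _ a) ?_) B' ?_
    · haveI : IsLocalHom (Ideal.Quotient.mk (Ideal.span {f})) :=
        Function.Surjective.isLocalHom _ Ideal.Quotient.mk_surjective
      rw [mem_maximalIdeal, mem_nonunits_iff]
      exact fun h => ha (IsLocalHom.map_nonunit _ h)
    · exact ((IsLocalization.map_units A' (⟨a, hap⟩ : p.primeCompl)).map (Ideal.Quotient.mk (Ideal.span {t})))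
  haveI : Algebra.Etale B' (B' ⊗[A] C) := by
    let e := Algebra.TensorProduct.cancelBaseChange A B B' B' C
    exact Algebra.Etale.of_equiv (R := B') (A := B' ⊗[B] (B ⊗[A] C)) e
  haveI : Algebra.Etale B' (B' ⊗[A'] C') := by
    let e := (Algebra.TensorProduct.cancelBaseChange A A' B' B' C).symm
    exact Algebra.Etale.of_equiv (R := B') (A := B' ⊗[A] C) e
  haveI : Algebra.Etale A' C' := etale_of_regular_quotient ht C' hreg'
  -- back to the local ring at the prime
  haveI : Algebra.FormallyEtale A A' := Algebra.FormallyEtale.of_isLocalization p.primeCompl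
  haveI : Algebra.FormallyEtale A C' := Algebra.FormallyEtale.comp A A' C'
  letI : Algebra C C' := Algebra.TensorProduct.rightAlgebra
  haveI : IsLocalization (Algebra.algebraMapSubmonoid C p.primeCompl) C' := inferInstance
  let CQ := Localization.AtPrime Q.asIdeal
  have hle : Algebra.algebraMapSubmonoid C p.primeCompl ≤ Q.asIdeal.primeCompl := by
    rintro _ ⟨s, hs, rfl⟩ hs'
    exact hs hs'
  letI : Algebra C' CQ := IsLocalization.localizationAlgebraOfSubmonoidLe C' CQ _ _ hle
  haveI : IsScalarTower C C' CQ := IsLocalization.localization_isScalarTower_of_submonoid_le C' CQ _ _ hle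
  haveI : IsLocalization (Q.asIdeal.primeCompl.map (algebraMap C C')) CQ :=
    IsLocalization.isLocalization_of_submonoid_le C' CQ _ _ hle
  haveI : Algebra.FormallyEtale C' CQ :=
    Algebra.FormallyEtale.of_isLocalization (Q.asIdeal.primeCompl.map (algebraMap C C'))
  haveI : IsScalarTower A C C' := IsScalarTower.of_algebraMap_eq fun r =>
    ((Algebra.TensorProduct.includeRight : C →ₐ[A] C').commutes r).symm
  haveI : IsScalarTower A C' CQ := IsScalarTower.of_algebraMap_eq fun r =>
    (IsScalarTower.algebraMap_apply A C CQ r).trans ((IsScalarTower.algebraMap_apply C C' CQ _).trans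
      (congrArg (algebraMap C' CQ) (IsScalarTower.algebraMap_apply A C C' r).symm))
  exact Algebra.FormallyEtale.comp A C' CQ

/-- Covers of the punctured hypersurface extend to an open neighbourhood. -/
theorem exists_extension_nhd (hf : f ∈ maximalIdeal A) [IsAdicComplete (Ideal.span {f}) A]
    (hnz : f ∈ nonZeroDivisors A)
    (h1 : Module.Finite A (LocCoh.H (maximalIdeal A) 1 (A ⧸ Ideal.span {f})))
    (h2 : Module.Finite A (LocCoh.H (maximalIdeal A) 2 (A ⧸ Ideal.span {f})))
    (V₀ : FEt.Cat (pullback (FEt.puncturedSpec A).ι (Spec.map (CommRingCat.ofHom (Ideal.Quotient.mk (Ideal.span {f})))))) :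
    ∃ (U' : (Spec (CommRingCat.of A)).Opens) (_ : U' ≤ FEt.puncturedSpec A)
      (u' : pullback (FEt.puncturedSpec A).ι (Spec.map (CommRingCat.ofHom (Ideal.Quotient.mk (Ideal.span {f})))) ⟶ (U' : Scheme.{u}))
      (_ : u' ≫ U'.ι = pullback.fst (FEt.puncturedSpec A).ι (Spec.map (CommRingCat.ofHom (Ideal.Quotient.mk (Ideal.span {f})))) ≫ (FEt.puncturedSpec A).ι)
      (V' : FEt.Cat (U' : Scheme.{u})), Nonempty ((FEt.restrict u').obj V' ≅ V₀) := by
  classical
  let B := A ⧸ Ideal.span {f}
  haveI : Nontrivial B := Ideal.Quotient.nontrivial_iff.2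
    fun h => (maximalIdeal.isMaximal A).ne_top (top_le_iff.1 (h ▸ (Ideal.span_singleton_le_iff_mem _).2 hf))
  haveI : IsLocalRing B := IsLocalRing.of_surjective' _ Ideal.Quotient.mk_surjective
  obtain ⟨n, g, hg⟩ := exists_gens (maximalIdeal A)
  let S := thickSystem f V₀
  let hT := S.isTower hg hnz
  letI : Algebra B (S.R 0) := (struct (S.s 0)).hom.toAlgebra
  obtain ⟨htow, hfin, hEtR, hH, κ, hκ, hR, ⟨eR⟩⟩ := bottom_facts f hg hnz V₀ rfl h1
  haveI := htow
  haveI := hfin
  obtain ⟨t, ht⟩ := hH h2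
  obtain ⟨E, hE⟩ := hT.exists_pow_le_range_ev₀ ht
  haveI : Module.Finite A hT.lim := hT.lim_finite
  let C := hT.lim
  -- the limit modulo `f`
  let C₀ := B ⊗[A] C
  let ψ : C₀ →ₐ[B] S.R 0 :=
    Algebra.TensorProduct.lift (Algebra.ofId B (S.R 0)) hT.ev₀ fun _ _ => Commute.all _ _
  have hψ : ∀ c : C, ψ (1 ⊗ₜ c) = hT.ev₀ c := fun c => by
    rw [Algebra.TensorProduct.lift_tmul, map_one, one_mul]
  have hψiso : ∀ b ∈ maximalIdeal B, IsoAway ψ b := by
    intro b hb
    obtain ⟨a, rfl⟩ := Ideal.Quotient.mk_surjective b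
    have ha : a ∈ maximalIdeal A := by
      rw [mem_maximalIdeal, mem_nonunits_iff] at hb ⊢
      exact fun h => hb (h.map _)
    refine ⟨fun z => ?_, fun x hx => ⟨0, ?_⟩⟩
    · obtain ⟨s, hs⟩ := hE (a ^ E) (Ideal.pow_mem_pow (hg ▸ ha) E) z
      refine ⟨E, (1 : B) ⊗ₜ[A] s, ?_⟩
      rw [hψ, hs, ← map_pow, ← Ideal.Quotient.algebraMap_eq, algebraMap_smul]
    · obtain ⟨c, hc⟩ := TensorProduct.mk_surjective A C B Ideal.Quotient.mk_surjective x
      have hc' : hT.ev₀ c = 0 := by rw [← hψ, ← hx]; exact congrArg ψ hc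
      obtain ⟨d, hd⟩ := hT.exists_smul_of_ev₀_eq_zero hc'
      rw [pow_zero, one_smul, ← hc, ← hd, TensorProduct.mk_apply, TensorProduct.tmul_smul,
        ← algebraMap_smul B, Ideal.Quotient.algebraMap_eq,
        Ideal.Quotient.eq_zero_iff_mem.2 (Ideal.mem_span_singleton_self f), zero_smul]
  have hC₀ : EtOff B C₀ := fun b hb => PuritySch.etAway_of_isoAway (hψiso b hb) (hEtR b hb)
  -- the neighbourhood
  haveI : Algebra.FinitePresentation A C := Algebra.FinitePresentation.of_finiteType.mp inferInstance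
  let bad : Set (PrimeSpectrum A) := PrimeSpectrum.comap (algebraMap A C) '' (Algebra.etaleLocus A C)ᶜ
  have hbad : IsClosed bad :=
    PrimeSpectrum.isClosedMap_comap_of_isIntegral (algebraMap A C) (Algebra.isIntegral_def.1 inferInstance ·)
      _ Algebra.isOpen_etaleLocus.isClosed_compl
  let U' : (Spec (CommRingCat.of A)).Opens := FEt.puncturedSpec A ⊓ ⟨badᶜ, hbad.isOpen_compl⟩
  have hV' : FEt.prop (pullback.snd (PuritySch.sp A C) U'.ι) := prop_restrict_open fun Q hQ => by
    by_contra hQ'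
    exact hQ.2 ⟨Q, hQ', rfl⟩
  let q := Spec.map (CommRingCat.ofHom (Ideal.Quotient.mk (Ideal.span {f})))
  let U₀ := pullback (FEt.puncturedSpec A).ι q
  let u₀ : U₀ ⟶ Spec (CommRingCat.of A) := pullback.fst _ _ ≫ (FEt.puncturedSpec A).ι
  have hu₀ : u₀ = pullback.snd _ _ ≫ q := pullback.condition
  have hrange : Set.range u₀.base ⊆ Set.range U'.ι.base := by
    rw [Scheme.Opens.range_ι]
    rintro _ ⟨y, rfl⟩
    have hp : u₀.base y ∈ FEt.puncturedSpec A := (pullback.fst (FEt.puncturedSpec A).ι q y).2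
    refine ⟨hp, ?_⟩
    rintro ⟨Q, hQ, hQy⟩
    refine hQ (isEtaleAt_of_etOff C (fun c hc => hT.regular hc) hC₀ Q ?_ (hQy ▸ hp))
    rw [hQy]
    refine (mem_range_spec_quot f _).1 ⟨pullback.snd (FEt.puncturedSpec A).ι q y, ?_⟩
    exact (congrArg (fun t : U₀ ⟶ Spec (CommRingCat.of A) => t.base y) hu₀).symm
  let u' : U₀ ⟶ (U' : Scheme.{u}) := IsOpenImmersion.lift U'.ι u₀ hrange
  have hu' : u' ≫ U'.ι = u₀ := IsOpenImmersion.lift_fac _ _ _
  let V' : FEt.Cat (U' : Scheme.{u}) := MorphismProperty.Over.mk ⊤ (pullback.snd (PuritySch.sp A C) U'.ι) hV'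
  refine ⟨U', inf_le_left, u', hu', V', ?_⟩
  -- compare on the punctured spectrum of the quotient
  let ιB := (FEt.puncturedSpec B).ι
  have hC₀p : FEt.prop (PuritySch.rest B C₀) := PuritySch.prop_rest C₀ hC₀
  obtain ⟨e₁⟩ := PuritySch.nonempty_iso ψ hψiso hC₀p hR
  have hpb : IsPullback (pullback.fst (PuritySch.sp B C₀) ιB ≫ Spec.map (CommRingCat.ofHom
      (Algebra.TensorProduct.includeRight : C →ₐ[A] C₀).toRingHom)) (PuritySch.rest B C₀) (PuritySch.sp A C)
      ((κ.hom ≫ u') ≫ U'.ι) := by
    have hbase : IsPullback (Spec.map (CommRingCat.ofHom (Algebra.TensorProduct.includeRight : C →ₐ[A] C₀).toRingHom))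
        (PuritySch.sp B C₀) (PuritySch.sp A C) (PuritySch.sp A B) :=
      (isPullback_SpecMap_of_isPushout _ _ _ _ (CommRingCat.isPushout_tensorProduct A B C).flip).flip.flip
    have := (IsPullback.of_hasPullback (PuritySch.sp B C₀) ιB).paste_horiz hbase
    rwa [show ιB ≫ PuritySch.sp A B = (κ.hom ≫ u') ≫ U'.ι by
      have hκ' : κ.hom ≫ pullback.snd (FEt.puncturedSpec A).ι q = ιB := hκ
      rw [Category.assoc, hu', hu₀, reassoc_of% hκ']
      rfl] at this
  obtain ⟨e₀⟩ := nonempty_iso_restrict_of_isPullback (p := PuritySch.sp A C) (j := U'.ι) (w := κ.hom ≫ u')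
    hpb hC₀p hV'
  haveI : (FEt.restrict κ.hom).IsEquivalence := S0238.result _
  exact ⟨(FEt.restrict κ.hom).preimageIso
    ((Spread.restrictComp κ.hom u' (κ.hom ≫ u') rfl V').symm ≪≫ e₀.symm ≪≫ e₁.symm ≪≫ eR)⟩

end Groth.Agent.PurX
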