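import Groth.Agent.Pi1Ext.Spread
import Groth.Agent.Pi1X.FEtGlobal
import Groth.Agent.Pi1X.FEtFull
import Mathlib.AlgebraicGeometry.Normalization

/-!
# Extension of covers across points of depth at least two is a local question

The extension of a cover, if it exists, is the relative normalization.
-/

set_option autoImplicit false
set_option linter.style.haveILetI false
set_option linter.unusedSectionVars false

universe u

open CategoryTheory CategoryTheory.Limits AlgebraicGeometry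
open Groth.Agent.Pi1Ext Groth.Agent.Pi1X

set_option backward.isDefEq.respectTransparency false

noncomputable section

namespace Groth.Agent.PurX

/-- Sections extend across points of depth at least two, for an open immersion. -/
theorem app_bijective_of_depth {P W : Scheme.{u}} [IsLocallyNoetherian W] (j : P ⟶ W) [IsOpenImmersion j]
    (h : ∀ w : W, w ∉ Set.range j.base → (2 : ℕ∞) ≤ LocCoh.depth (W.presheaf.stalk w) (W.presheaf.stalk w))
    (O : W.Opens) : Function.Bijective (j.app O) := by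
  have h1 := Hartogs.restrict_bijective j.opensRange (fun w hw => h w hw) O
  haveI : IsIso (j.app (O ⊓ j.opensRange)) := j.isIso_app _ inf_le_right
  have h2 := ConcreteCategory.bijective_of_isIso (j.app (O ⊓ j.opensRange))
  have hle : j ⁻¹ᵁ O ≤ j ⁻¹ᵁ (O ⊓ j.opensRange) := fun x hx => ⟨hx, ⟨x, rfl⟩⟩
  haveI : IsIso (P.presheaf.map (homOfLE hle).op) := by
    have h : j ⁻¹ᵁ (O ⊓ j.opensRange) = j ⁻¹ᵁ O := le_antisymm (fun x hx => hx.1) hle
    rw [Subsingleton.elim (homOfLE hle) (eqToHom h.symm)]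
    infer_instance
  have h3 := ConcreteCategory.bijective_of_isIso (P.presheaf.map (homOfLE hle).op)
  have e : ∀ s, j.app O s = P.presheaf.map (homOfLE hle).op (j.app (O ⊓ j.opensRange)
      (W.presheaf.map (homOfLE (inf_le_left : O ⊓ j.opensRange ≤ O)).op s)) := fun s => by
    rw [← ConcreteCategory.comp_apply, ← ConcreteCategory.comp_apply, Scheme.Hom.naturality_assoc,
      ← P.presheaf.map_comp]
    generalize (((TopologicalSpace.Opens.map j.base).map _).op ≫ (homOfLE hle).op) = q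
    rw [Subsingleton.elim q (𝟙 _)]
    erw [P.presheaf.map_id, Category.comp_id]
  rw [show (j.app O : _ → _) = _ from _root_.funext e]
  exact h3.comp (h2.comp h1)

/-- A finite scheme with the same sections as a dense part is the relative normalization. -/
theorem isIso_normalizationDesc {P Y X : Scheme.{u}} (f : P ⟶ X) [QuasiCompact f] [QuasiSeparated f]
    (j : P ⟶ Y) (y : Y ⟶ X) [IsIntegralHom y] (H : f = j ≫ y)
    (hj : ∀ W : X.affineOpens, Function.Bijective (j.app (y ⁻¹ᵁ W))) :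
    IsIso (f.normalizationDesc j y H) := by
  let d := f.normalizationDesc j y H
  haveI : IsAffineHom d := inferInstanceAs (IsAffineHom (f.normalizationDesc j y H))
  refine IsZariskiLocalAtTarget.of_iSup_eq_top (P := MorphismProperty.isomorphisms Scheme.{u})
    (fun W : X.affineOpens => y ⁻¹ᵁ W.1) (by rw [← y.preimage_iSup, iSup_affineOpens_eq_top, y.preimage_top]) fun W => ?_
  refine (isIso_morphismRestrict_iff_isIso_app d (W.2.preimage y)).mpr ?_
  rw [ConcreteCategory.isIso_iff_bijective]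
  have hd : d ⁻¹ᵁ y ⁻¹ᵁ W.1 = f.fromNormalization ⁻¹ᵁ W.1 := by
    rw [← Scheme.Hom.comp_preimage, f.normalizationDesc_comp]
  have hinj : Function.Injective (f.toNormalization.app (d ⁻¹ᵁ y ⁻¹ᵁ W.1)) := by
    have key : ∀ O : f.normalization.Opens, O = f.fromNormalization ⁻¹ᵁ W.1 →
        Function.Injective (f.toNormalization.app O) := by
      rintro O rfl
      letI := (f.app W.1).hom.toAlgebra
      rw [f.toNormalization_app_preimage W]
      intro a b hab
      exact (ConcreteCategory.bijective_of_isIso (f.normalizationObjIso W.2).hom).1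
        (Subtype.val_injective ((ConcreteCategory.bijective_of_isIso (P.presheaf.map _)).1 hab))
    exact key _ hd
  have hb : Function.Bijective (d.app (y ⁻¹ᵁ W.1) ≫ f.toNormalization.app (d ⁻¹ᵁ y ⁻¹ᵁ W.1)) := by
    have h := Scheme.Hom.congr_app (f.toNormalization_normalizationDesc j y H) (y ⁻¹ᵁ W.1)
    rw [Scheme.Hom.comp_app] at h
    rw [h]
    show Function.Bijective (P.presheaf.map _ ∘ j.app (y ⁻¹ᵁ W.1))
    exact (ConcreteCategory.bijective_of_isIso (P.presheaf.map _)).comp (hj W)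
  rw [CategoryTheory.hom_comp] at hb
  exact ⟨hb.1.of_comp, fun z => by
    obtain ⟨s, hs⟩ := hb.2 (f.toNormalization.app _ z)
    exact ⟨s, hinj hs⟩⟩

variable {X : Scheme.{u}} [IsLocallyNoetherian X]

/-- Over an open set where the cover extends the normalization is the extension. -/
theorem exists_normalization_iso {U : X.Opens}
    (hdep : ∀ x : X, x ∉ U → (2 : ℕ∞) ≤ LocCoh.depth (X.presheaf.stalk x) (X.presheaf.stalk x))
    (E : FEt.Cat (U : Scheme.{u})) [QuasiCompact (E.hom ≫ U.ι)] [QuasiSeparated (E.hom ≫ U.ι)]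
    {U'' : X.Opens} (hle : U ≤ U'') (Y : FEt.Cat (U'' : Scheme.{u}))
    (e : (FEt.restrict (X.homOfLE hle)).obj Y ≅ E) :
    ∃ θ : pullback (E.hom ≫ U.ι).fromNormalization U''.ι ≅ Y.left, θ.hom ≫ Y.hom = pullback.snd _ _ := by
  let g := E.hom ≫ U.ι
  let y : Y.left ⟶ (U'' : Scheme.{u}) := Y.hom
  haveI : IsFinite y := Y.prop.1
  haveI : Etale y := Y.prop.2
  haveI : IsLocallyNoetherian Y.left := LocallyOfFiniteType.isLocallyNoetherian y
  let ρ : pullback y (X.homOfLE hle) ⟶ Y.left := pullback.fst y (X.homOfLE hle)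
  haveI : IsOpenImmersion ρ := MorphismProperty.pullback_fst _ _ inferInstance
  let i₀ : E.left ⟶ pullback y (X.homOfLE hle) := e.inv.left
  haveI : IsIso i₀ := ⟨e.hom.left, congrArg (fun t => t.left) e.inv_hom_id, congrArg (fun t => t.left) e.hom_inv_id⟩
  have hi₀ : i₀ ≫ pullback.snd y (X.homOfLE hle) = E.hom := MorphismProperty.Over.w e.inv
  let p := pullback.fst g U''.ι
  haveI : IsOpenImmersion p := MorphismProperty.pullback_fst _ _ inferInstance
  haveI : Surjective p := by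
    refine ⟨fun z => ?_⟩
    show z ∈ Set.range p.base
    rw [show Set.range p.base = _ from Scheme.Pullback.range_fst _ _, Scheme.Opens.range_ι]
    exact hle (E.hom z).2
  haveI : IsIso p := (isIso_iff_isOpenImmersion_and_surjective p).2 ⟨inferInstance, inferInstance⟩
  let j : pullback g U''.ι ⟶ Y.left := (p ≫ i₀) ≫ ρ
  haveI : IsOpenImmersion j := inferInstance
  have hj : pullback.snd g U''.ι = j ≫ y := by
    rw [← cancel_mono U''.ι, ← pullback.condition, Category.assoc, Category.assoc, Category.assoc,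
      pullback.condition_assoc, X.homOfLE_ι, reassoc_of% hi₀]
  have hrange : ∀ w : Y.left, w ∉ Set.range j.base → U''.ι (y w) ∉ U := fun w hw hU => hw (by
    obtain ⟨z, hz⟩ : w ∈ Set.range ρ.base := by
      rw [show Set.range ρ.base = _ from Scheme.Pullback.range_fst _ _]
      refine ⟨⟨_, hU⟩, U''.ι.isOpenEmbedding.injective ?_⟩
      rw [← Scheme.Hom.comp_apply, X.homOfLE_ι]
      rfl
    obtain ⟨z', rfl⟩ := (p ≫ i₀).surjective z
    exact ⟨z', hz⟩)
  have hdepY : ∀ w : Y.left, w ∉ Set.range j.base →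
      (2 : ℕ∞) ≤ LocCoh.depth (Y.left.presheaf.stalk w) (Y.left.presheaf.stalk w) := fun w hw =>
    ((hdep _ (hrange w hw)).trans (depth_stalk_le U''.ι (y w))).trans (depth_stalk_le y w)
  haveI := isIso_normalizationDesc (pullback.snd g U''.ι) j y hj fun W =>
    app_bijective_of_depth j hdepY (y ⁻¹ᵁ W.1)
  refine ⟨(asIso (g.normalizationPullback U''.ι)).symm ≪≫ asIso ((pullback.snd g U''.ι).normalizationDesc j y hj), ?_⟩
  rw [Iso.trans_hom, Category.assoc, Iso.symm_hom, Iso.inv_comp_eq]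
  show Scheme.Hom.normalizationDesc _ j y hj ≫ y = _
  rw [Scheme.Hom.normalizationDesc_comp]
  exact (g.normalizationPullback_snd U''.ι).symm

/-- The union of the open sets over which a morphism is finite étale. -/
theorem prop_sSup {N : Scheme.{u}} (n : N ⟶ X) (𝒲 : Set X.Opens)
    (h : ∀ W ∈ 𝒲, FEt.prop (pullback.snd n W.ι)) : FEt.prop (pullback.snd n (sSup 𝒲).ι) := by
  let Ω := sSup 𝒲
  let q := pullback.snd n Ω.ι
  have hres : ∀ W : 𝒲, FEt.prop (q ∣_ (Ω.ι ⁻¹ᵁ W.1)) := by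
    intro W
    have hk : Set.range ((Ω.ι ⁻¹ᵁ W.1).ι ≫ Ω.ι).base ⊆ Set.range W.1.ι.base := by
      rw [Scheme.Opens.range_ι]
      rintro _ ⟨z, rfl⟩
      exact z.2
    let k := IsOpenImmersion.lift W.1.ι _ hk
    have hk' : k ≫ W.1.ι = (Ω.ι ⁻¹ᵁ W.1).ι ≫ Ω.ι := IsOpenImmersion.lift_fac _ _ _
    have hp := ((isPullback_morphismRestrict q (Ω.ι ⁻¹ᵁ W.1)).flip).paste_horiz (IsPullback.of_hasPullback n Ω.ι)
    rw [← hk'] at hp
    let l : ↑(q ⁻¹ᵁ Ω.ι ⁻¹ᵁ W.1) ⟶ pullback n W.1.ι :=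
      pullback.lift ((q ⁻¹ᵁ Ω.ι ⁻¹ᵁ W.1).ι ≫ pullback.fst n Ω.ι) (q ∣_ (Ω.ι ⁻¹ᵁ W.1) ≫ k)
        (by rw [Category.assoc (q ∣_ _)]; exact hp.w)
    have hl : IsPullback l (q ∣_ (Ω.ι ⁻¹ᵁ W.1)) (pullback.snd n W.1.ι) k :=
      IsPullback.of_right (by rw [pullback.lift_fst]; exact hp) (pullback.lift_snd _ _ _)
        (IsPullback.of_hasPullback n W.1.ι)
    exact MorphismProperty.of_isPullback hl (h W.1 W.2)
  have htop : ⨆ W : 𝒲, Ω.ι ⁻¹ᵁ W.1 = ⊤ := by
    rw [← Ω.ι.preimage_iSup, show ⨆ W : 𝒲, W.1 = Ω from (sSup_eq_iSup' 𝒲).symm, Scheme.Opens.ι_preimage_self]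
  exact ⟨IsZariskiLocalAtTarget.of_iSup_eq_top (P := @IsFinite) _ htop fun W => (hres W).1,
    IsZariskiLocalAtTarget.of_iSup_eq_top (P := @Etale) _ htop fun W => (hres W).2⟩

/-- A cover extends across points of depth at least two if it extends at each minimal such point. -/
theorem exists_extension_of_local (U : X.Opens)
    (hdep : ∀ x : X, x ∉ U → (2 : ℕ∞) ≤ LocCoh.depth (X.presheaf.stalk x) (X.presheaf.stalk x))
    (E : FEt.Cat (U : Scheme.{u}))
    (hloc : ∀ (U' : X.Opens) (hle : U ≤ U') (E' : FEt.Cat (U' : Scheme.{u})),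
      Nonempty ((FEt.restrict (X.homOfLE hle)).obj E' ≅ E) → ∀ x : X, x ∉ U' →
        (∀ y, y ⤳ x → y ≠ x → y ∈ U') →
        ∃ Ex : FEt.Cat (Spec (X.presheaf.stalk x)), Nonempty
          ((FEt.restrict (pullback.snd U'.ι (X.fromSpecStalk x))).obj Ex ≅
            (FEt.restrict (pullback.fst U'.ι (X.fromSpecStalk x))).obj E')) :
    ∃ Y : FEt.Cat X, Nonempty ((FEt.restrict U.ι).obj Y ≅ E) := by
  let e₀ : E.left ⟶ (U : Scheme.{u}) := E.hom
  haveI : IsFinite e₀ := E.prop.1
  haveI : QuasiCompact (E.hom ≫ U.ι) := inferInstanceAs (QuasiCompact (e₀ ≫ U.ι))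
  haveI : QuasiSeparated (E.hom ≫ U.ι) := inferInstanceAs (QuasiSeparated (e₀ ≫ U.ι))
  let N := (E.hom ≫ U.ι).fromNormalization
  let 𝒲 : Set X.Opens := {W | FEt.prop (pullback.snd N W.ι)}
  let Ω := sSup 𝒲
  have hΩ : FEt.prop (pullback.snd N Ω.ι) := prop_sSup N 𝒲 fun W hW => hW
  have hmem : ∀ (U'' : X.Opens) (hle : U ≤ U'') (Y : FEt.Cat (U'' : Scheme.{u})),
      Nonempty ((FEt.restrict (X.homOfLE hle)).obj Y ≅ E) → U'' ∈ 𝒲 := by
    rintro U'' hle Y ⟨e⟩
    obtain ⟨θ, hθ⟩ := exists_normalization_iso hdep E hle Y e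
    show FEt.prop _
    rw [← hθ, MorphismProperty.cancel_left_of_respectsIso FEt.prop]
    exact Y.prop
  have hself : Nonempty ((FEt.restrict (X.homOfLE (le_refl U))).obj E ≅ E) := by
    rw [X.homOfLE_rfl]
    exact ⟨Spread.restrictId E⟩
  have hUΩ : U ≤ Ω := le_sSup (hmem U le_rfl E hself)
  let E' : FEt.Cat (Ω : Scheme.{u}) := MorphismProperty.Over.mk ⊤ (pullback.snd N Ω.ι) hΩ
  have eE' : Nonempty ((FEt.restrict (X.homOfLE hUΩ)).obj E' ≅ E) := by
    obtain ⟨θ, hθ⟩ := exists_normalization_iso hdep E le_rfl E hself.some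
    have hp := (IsPullback.of_hasPullback (pullback.snd N Ω.ι) (X.homOfLE hUΩ)).paste_horiz
      (IsPullback.of_hasPullback N Ω.ι)
    rw [X.homOfLE_ι] at hp
    refine ⟨MorphismProperty.Over.isoMk (hp.isoPullback ≪≫ θ) ?_⟩
    show (hp.isoPullback.hom ≫ θ.hom) ≫ E.hom = pullback.snd (pullback.snd N Ω.ι) (X.homOfLE hUΩ)
    rw [Category.assoc, hθ, hp.isoPullback_hom_snd]
  by_cases hT : Ω = ⊤
  · haveI : IsIso Ω.ι := by
      rw [hT, ← Scheme.topIso_hom]; infer_instance
    refine ⟨(FEt.restrict (inv Ω.ι)).obj E', ⟨?_⟩⟩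
    exact Spread.restrictSquare U.ι (inv Ω.ι) (X.homOfLE hUΩ) (𝟙 _) (by
        rw [Category.comp_id, ← cancel_mono Ω.ι, Category.assoc, IsIso.inv_hom_id, Category.comp_id, X.homOfLE_ι]) E' ≪≫
      (FEt.restrict (X.homOfLE hUΩ)).mapIso (Spread.restrictId E') ≪≫ eE'.some
  · exfalso
    obtain ⟨x, hx, hmin⟩ := Spread.exists_min_point Ω hT
    obtain ⟨Ex, ⟨ex⟩⟩ := hloc Ω hUΩ E' eE' x hx hmin
    obtain ⟨U'', hle, V'', hx'', ⟨eV⟩⟩ := Spread.exists_extend_nbhd Ω E' x Ex ex
    refine hx (le_sSup (hmem U'' (hUΩ.trans hle) V'' ?_) hx'')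
    exact ⟨Spread.restrictComp (X.homOfLE hUΩ) (X.homOfLE hle) _ (X.homOfLE_homOfLE hUΩ hle).symm V'' ≪≫
      (FEt.restrict (X.homOfLE hUΩ)).mapIso eV ≪≫ eE'.some⟩

end Groth.Agent.PurX
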