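import Groth.Agent.PurX.DescendPurity
import Groth.Agent.PurX.NormExtend
import Groth.Agent.PurX.LiftPurity

/-!
# Descent of purity along fpqc morphisms
-/

set_option autoImplicit false
set_option linter.style.haveILetI false
set_option linter.unusedSectionVars false

universe u

open CategoryTheory CategoryTheory.Limits AlgebraicGeometry IsLocalRing
open Groth.Agent.Pi1Ext Groth.Agent.Pi1X

set_option backward.isDefEq.respectTransparency false

noncomputable section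

namespace Groth.Agent.PurX

/-- An open set outside of which the depth is at least two is dense. -/
theorem dense_of_depth {X : Scheme.{u}} [IsLocallyNoetherian X] (U : X.Opens)
    (hdep : ∀ x : X, x ∉ U → (2 : ℕ∞) ≤ LocCoh.depth (X.presheaf.stalk x) (X.presheaf.stalk x)) :
    Dense (U : Set X) := by
  rw [dense_iff_inter_open]
  rintro O hO ⟨z, hz⟩
  obtain ⟨_, ⟨W, hW, rfl⟩, hzW, hWO⟩ := X.isBasis_affineOpens.exists_subset_of_mem_open hz hO
  by_contra hemp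
  have e : W ⊓ U = ⊥ := by
    refine eq_bot_iff.2 fun w hw => (hemp ⟨w, hWO hw.1, hw.2⟩).elim
  haveI : Subsingleton Γ(X, W ⊓ U) := by
    rw [e]
    exact CommRingCat.subsingleton_of_isTerminal X.sheaf.isTerminalOfEmpty
  haveI : Subsingleton Γ(X, W) := (Hartogs.restrict_bijective U hdep W).1.subsingleton
  obtain ⟨p, -⟩ : z ∈ Set.range hW.fromSpec.base := by rw [hW.range_fromSpec]; exact hzW
  exact p.isPrime.ne_top (Subsingleton.elim _ _)

/-- Purity descends: essential surjectivity. -/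
theorem exists_extension_of_pure_cover {X X₁ : Scheme.{u}} [IsLocallyNoetherian X] (U : X.Opens)
    (hU : ∀ x : X, x ∉ U → (2 : ℕ∞) ≤ LocCoh.depth (X.presheaf.stalk x) (X.presheaf.stalk x))
    (f : X₁ ⟶ X) [Flat f] [Surjective f] (h : SGA2.IsPurePair X₁ (f ⁻¹ᵁ U)) (V : X.Opens)
    (E : FEt.Cat (V.ι ⁻¹ᵁ U : Scheme.{u})) :
    ∃ Y : FEt.Cat (V : Scheme.{u}), Nonempty ((FEt.restrict (V.ι ⁻¹ᵁ U).ι).obj Y ≅ E) := by
  refine exists_extension_of_local (X := (V : Scheme.{u})) _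
    (fun x hx => (hU _ hx).trans (depth_stalk_le V.ι x)) E ?_
  intro U' hle E' _ x hx hmin
  let V₁ := f ⁻¹ᵁ V
  let φ : (V₁ : Scheme.{u}) ⟶ (V : Scheme.{u}) := f ∣_ V
  haveI : Flat φ := IsZariskiLocalAtTarget.restrict ‹Flat f› V
  haveI : Surjective φ := IsZariskiLocalAtTarget.restrict ‹Surjective f› V
  obtain ⟨x₁, rfl⟩ := φ.surjective x
  let U'₁ := f ⁻¹ᵁ (V.ι ''ᵁ U')
  have hle₁ : U'₁ ≤ V₁ := f.preimage_mono (V.ι_image_le U')
  let ι₁ := X₁.homOfLE hle₁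
  -- purity upstairs
  have hess : (FEt.restrict ι₁).EssSurj := by
    have hb := h U'₁
    have ha := h V₁
    have heq : U'₁ ⊓ f ⁻¹ᵁ U = V₁ ⊓ f ⁻¹ᵁ U := by
      refine le_antisymm (inf_le_inf_right _ hle₁) ?_
      rintro y ⟨hy, hyU⟩
      exact ⟨⟨⟨f y, hy⟩, hle hyU, rfl⟩, hyU⟩
    let k : ((U'₁ ⊓ f ⁻¹ᵁ U : X₁.Opens) : Scheme.{u}) ≅ ((V₁ ⊓ f ⁻¹ᵁ U : X₁.Opens) : Scheme.{u}) := X₁.isoOfEq heq
    have hc : (FEt.restrict (X₁.homOfLE ((inf_le_left : U'₁ ⊓ f ⁻¹ᵁ U ≤ U'₁).trans hle₁))).IsEquivalence :=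
      isEquivalence_comp k.hom _ _ (by
        rw [← cancel_mono V₁.ι, Scheme.homOfLE_ι, Category.assoc, Scheme.homOfLE_ι, Scheme.isoOfEq_hom_ι])
        (isEquivalence_of_iso _) ha
    haveI := hb
    let G := FEt.restrict (X₁.homOfLE (inf_le_left : U'₁ ⊓ f ⁻¹ᵁ U ≤ U'₁))
    let F := FEt.restrict ι₁
    haveI : (F ⋙ G).IsEquivalence :=
      @Functor.isEquivalence_of_iso _ _ _ _ _ _
        (MorphismProperty.Over.pullbackComp (P := FEt.prop.{u}) (Q := ⊤) _ ι₁ _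
          (X₁.homOfLE_homOfLE (inf_le_left : U'₁ ⊓ f ⁻¹ᵁ U ≤ U'₁) hle₁).symm) hc
    exact ⟨fun T => ⟨(F ⋙ G).objPreimage (G.obj T), ⟨G.preimageIso ((F ⋙ G).objObjPreimageIso (G.obj T))⟩⟩⟩
  have hψ : Set.range (U'₁.ι ≫ f).base ⊆ Set.range (U'.ι ≫ V.ι).base := by
    rintro _ ⟨y, rfl⟩
    obtain ⟨w, hw, e⟩ := y.2
    exact ⟨⟨w, hw⟩, e⟩
  let ψ : (U'₁ : Scheme.{u}) ⟶ (U' : Scheme.{u}) := IsOpenImmersion.lift (U'.ι ≫ V.ι) (U'₁.ι ≫ f) hψ
  have hψ' : ψ ≫ U'.ι ≫ V.ι = U'₁.ι ≫ f := IsOpenImmersion.lift_fac _ _ _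
  haveI := hess
  let Y₁ := (FEt.restrict ι₁).objPreimage ((FEt.restrict ψ).obj E')
  let eY : (FEt.restrict ι₁).obj Y₁ ≅ (FEt.restrict ψ).obj E' := (FEt.restrict ι₁).objObjPreimageIso _
  -- the local rings
  let R := (V : Scheme.{u}).presheaf.stalk (φ x₁)
  let S := (V₁ : Scheme.{u}).presheaf.stalk x₁
  letI : Algebra R S := (φ.stalkMap x₁).hom.toAlgebra
  haveI : IsLocalHom (algebraMap R S) := inferInstanceAs <| IsLocalHom (φ.stalkMap x₁).hom
  haveI : Module.Flat R S := Flat.stalkMap φ x₁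
  haveI : Module.FaithfullyFlat R S := Module.FaithfullyFlat.of_flat_of_isLocalHom
  let P := FEt.puncturedSpec R
  let fr : Spec (CommRingCat.of R) ⟶ (V : Scheme.{u}) := (V : Scheme.{u}).fromSpecStalk (φ x₁)
  let s : Spec (CommRingCat.of S) ⟶ (V₁ : Scheme.{u}) := (V₁ : Scheme.{u}).fromSpecStalk x₁
  have hs : PuritySch.sp R S ≫ fr = s ≫ φ := Scheme.SpecMap_stalkMap_fromSpecStalk φ
  have hfr : ∀ q, fr.base q ∈ U' ↔ q ∈ P := fun q => by
    constructor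
    · rintro hq rfl
      exact hx (Scheme.fromSpecStalk_closedPoint (X := (V : Scheme.{u})) (x := φ x₁) ▸ hq)
    · intro hq
      refine hmin _ ((Scheme.range_fromSpecStalk (X := (V : Scheme.{u}))).subset ⟨q, rfl⟩) fun hqx => hq ?_
      exact fr.isEmbedding.injective (hqx.trans Scheme.fromSpecStalk_closedPoint.symm)
  have ht : Set.range (P.ι ≫ fr).base ⊆ Set.range U'.ι.base := by
    rw [Scheme.Opens.range_ι]
    rintro _ ⟨q, rfl⟩
    exact (hfr _).2 q.2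
  let t : (P : Scheme.{u}) ⟶ (U' : Scheme.{u}) := IsOpenImmersion.lift U'.ι (P.ι ≫ fr) ht
  have ht' : t ≫ U'.ι = P.ι ≫ fr := IsOpenImmersion.lift_fac _ _ _
  let u₁ := pullback.fst P.ι (PuritySch.sp R S)
  let u₂ := pullback.snd P.ι (PuritySch.sp R S)
  have hq : Set.range (u₂ ≫ s ≫ V₁.ι).base ⊆ Set.range U'₁.ι.base := by
    rw [Scheme.Opens.range_ι]
    rintro _ ⟨z, rfl⟩
    have h1 : f ((u₂ ≫ s ≫ V₁.ι) z) = V.ι ((u₁ ≫ P.ι ≫ fr) z) := by
      rw [← Scheme.Hom.comp_apply, ← Scheme.Hom.comp_apply]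
      refine congrArg (fun k : pullback P.ι (PuritySch.sp R S) ⟶ X => k.base z) ?_
      simp only [Category.assoc]
      rw [← morphismRestrict_ι, ← reassoc_of% hs, ← pullback.condition_assoc]
    refine ⟨(u₁ ≫ P.ι ≫ fr) z, (hfr _).2 (u₁ z).2, h1.symm⟩
  let q := IsOpenImmersion.lift U'₁.ι (u₂ ≫ s ≫ V₁.ι) hq
  have hq' : q ≫ U'₁.ι = u₂ ≫ s ≫ V₁.ι := IsOpenImmersion.lift_fac _ _ _
  obtain ⟨Yx, ⟨ex⟩⟩ := exists_extension_of_faithfullyFlat R
    ((hU _ fun hxU => hx (hle hxU)).trans (depth_stalk_le V.ι (φ x₁))) ((FEt.restrict t).obj E')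
    ((FEt.restrict s).obj Y₁)
    (Spread.restrictSquare u₂ s q ι₁ (by
        rw [← cancel_mono V₁.ι, Category.assoc, Category.assoc, Scheme.homOfLE_ι, hq']) Y₁ ≪≫
      (FEt.restrict q).mapIso eY ≪≫
      Spread.restrictSquare q ψ u₁ t (by
        rw [← cancel_mono (U'.ι ≫ V.ι)]
        simp only [Category.assoc]
        rw [hψ', reassoc_of% hq', reassoc_of% ht', ← morphismRestrict_ι, ← reassoc_of% hs,
          ← pullback.condition_assoc]) E')
  -- back to the scheme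
  have he : Set.range (pullback.snd U'.ι fr).base = Set.range P.ι.base := by
    rw [Scheme.Pullback.range_snd, Scheme.Opens.range_ι, Scheme.Opens.range_ι]
    exact Set.ext hfr
  let κ := IsOpenImmersion.isoOfRangeEq _ _ he
  refine ⟨Yx, ⟨Spread.restrictComp κ.hom P.ι _ (IsOpenImmersion.isoOfRangeEq_hom_fac _ _ he).symm Yx ≪≫
    (FEt.restrict κ.hom).mapIso ex ≪≫ (Spread.restrictComp κ.hom t _ ?_ E').symm⟩⟩
  rw [← cancel_mono U'.ι, Category.assoc, ht', ← Category.assoc, IsOpenImmersion.isoOfRangeEq_hom_fac]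
  exact pullback.condition

/-- Purity descends along flat surjective morphisms. -/
theorem isPurePair_of_descent {X X₁ : Scheme.{u}} [IsLocallyNoetherian X] (U : X.Opens)
    (hU : ∀ x : X, x ∉ U → (2 : ℕ∞) ≤ LocCoh.depth (X.presheaf.stalk x) (X.presheaf.stalk x))
    (f : X₁ ⟶ X) [Flat f] [Surjective f] (h : SGA2.IsPurePair X₁ (f ⁻¹ᵁ U)) : SGA2.IsPurePair X U := by
  intro V
  let U₀ := V.ι ⁻¹ᵁ U
  have hdep : ∀ x : (V : Scheme.{u}), x ∉ U₀ →
      (2 : ℕ∞) ≤ LocCoh.depth ((V : Scheme.{u}).presheaf.stalk x) ((V : Scheme.{u}).presheaf.stalk x) :=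
    fun x hx => (hU _ hx).trans (depth_stalk_le V.ι x)
  obtain ⟨hF, hFa⟩ := restrict_open_full_faithful U₀ (dense_of_depth U₀ hdep) hdep
  haveI := hF
  haveI := hFa
  haveI : (FEt.restrict U₀.ι).EssSurj := ⟨fun E => by
    obtain ⟨Y, hY⟩ := exists_extension_of_pure_cover U hU f h V E
    exact ⟨Y, hY⟩⟩
  have he : Set.range (X.homOfLE (inf_le_left : V ⊓ U ≤ V)).base = Set.range U₀.ι.base := by
    rw [Scheme.Opens.range_ι]
    ext z
    constructor
    · rintro ⟨w, rfl⟩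
      show V.ι ((X.homOfLE (inf_le_left : V ⊓ U ≤ V)) w) ∈ U
      rw [← Scheme.Hom.comp_apply, Scheme.homOfLE_ι]
      exact w.2.2
    · intro hz
      refine ⟨⟨V.ι z, z.2, hz⟩, V.ι.isOpenEmbedding.injective ?_⟩
      rw [← Scheme.Hom.comp_apply, Scheme.homOfLE_ι]
      rfl
  exact isEquivalence_comp (IsOpenImmersion.isoOfRangeEq _ _ he).hom U₀.ι _
    (IsOpenImmersion.isoOfRangeEq_hom_fac _ _ he).symm (isEquivalence_of_iso _) { }

end Groth.Agent.PurX
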