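import Groth.Agent.PurX.FFMain
import Groth.Agent.PurX.DualKillDeg
import Groth.Agent.PurX.DualNhd
import Groth.Agent.PurX.PureDescent
import Groth.Agent.LC.DepthLoc

/-!
# Full faithfulness of restriction from a neighbourhood to a punctured hypersurface in depth three
-/

set_option autoImplicit false
set_option linter.style.haveILetI false
set_option linter.unusedSectionVars false

universe u

open CategoryTheory CategoryTheory.Limits AlgebraicGeometry IsLocalRing
open Groth.Agent.Pi1X

set_option backward.isDefEq.respectTransparency false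

noncomputable section

namespace Groth.Agent.PurX

variable {A : Type u} [CommRing A] [IsLocalRing A] [IsNoetherianRing A]

/-- Depth two at a point outside a neighbourhood of the punctured hypersurface. -/
theorem two_le_depth_stalk_of_not_mem_nhd {f : A} (hd : (3 : ℕ∞) ≤ LocCoh.depth A A) (hf : f ∈ maximalIdeal A)
    {U'' : (Spec (CommRingCat.of A)).Opens}
    (hcov : ∀ p : PrimeSpectrum A, f ∈ p.asIdeal → p ≠ closedPoint A → p ∈ U'')
    (z : PrimeSpectrum A) (hz : z ∉ U'') :
    (2 : ℕ∞) ≤ LocCoh.depth ((Spec (CommRingCat.of A)).presheaf.stalk z) ((Spec (CommRingCat.of A)).presheaf.stalk z) := by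
  classical
  let m := maximalIdeal A
  let Rm := Localization.AtPrime m
  let σ : A ≃ₐ[A] Rm := IsLocalization.atUnits A m.primeCompl fun x hx => by
    by_contra h
    exact hx ((mem_maximalIdeal x).2 h)
  have hd' : (3 : ℕ∞) ≤ LocCoh.depth Rm Rm :=
    hd.trans (Alg6.depth_eq_of_semilinear σ.toRingEquiv.toRingHom σ.surjective σ.toRingEquiv.toAddEquiv
      (fun r z => map_mul σ r z)).le
  let P := z.asIdeal
  have h1 : LocCoh.depth Rm (LocalizedModule m.primeCompl A) ≤
      LocCoh.depth (Localization.AtPrime P) (LocalizedModule P.primeCompl A) + (m.map (Ideal.Quotient.mk P)).height :=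
    LC.depth_localized_le_add_height (M := A) P m (le_maximalIdeal z.isPrime.ne_top)
  haveI : IsLocalRing (A ⧸ P) := IsLocalRing.of_surjective' _ Ideal.Quotient.mk_surjective
  haveI : IsLocalHom (Ideal.Quotient.mk P) := Function.Surjective.isLocalHom _ Ideal.Quotient.mk_surjective
  have hmax : m.map (Ideal.Quotient.mk P) = maximalIdeal (A ⧸ P) := by
    refine le_antisymm (IsLocalRing.map_maximalIdeal_le _) fun x hx => ?_
    obtain ⟨x, rfl⟩ := Ideal.Quotient.mk_surjective x
    refine Ideal.mem_map_of_mem _ ((mem_maximalIdeal x).2 fun h => ?_)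
    exact (mem_maximalIdeal _).1 hx (h.map _)
  have hht : (m.map (Ideal.Quotient.mk P)).height ≤ 1 := by
    rw [hmax]
    by_cases hfP : f ∈ P
    · have hzc : z = closedPoint A := by
        by_contra h
        exact hz (hcov z hfP h)
      have hb : maximalIdeal (A ⧸ P) = ⊥ := by
        rw [← hmax, show P = m from congrArg PrimeSpectrum.asIdeal hzc, Ideal.map_quotient_self]
      rw [hb, Ideal.height_bot]
      exact zero_le_one
    let J : Ideal (A ⧸ P) := Ideal.span {Ideal.Quotient.mk P f}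
    have hJ : J ≤ maximalIdeal (A ⧸ P) := by
      rw [Ideal.span_singleton_le_iff_mem, ← hmax]
      exact Ideal.mem_map_of_mem _ hf
    obtain ⟨Q, hQ, -⟩ := Ideal.exists_minimalPrimes_le hJ
    haveI := hQ.1.1
    by_cases hQm : Q = maximalIdeal (A ⧸ P)
    · exact hQm ▸ Ideal.height_le_one_of_isPrincipal_of_mem_minimalPrimes J Q hQ
    exfalso
    let R : PrimeSpectrum A := PrimeSpectrum.comap (Ideal.Quotient.mk P) ⟨Q, hQ.1.1⟩
    have hR : R ∈ U'' := hcov R (hQ.1.2 (Ideal.mem_span_singleton_self _)) fun e =>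
      hQm (congrArg PrimeSpectrum.asIdeal (PrimeSpectrum.comap_injective_of_surjective _ Ideal.Quotient.mk_surjective
        (a₂ := closedPoint (A ⧸ P)) (e.trans (IsLocalRing.comap_closedPoint (Ideal.Quotient.mk P)).symm)))
    refine hz (((PrimeSpectrum.le_iff_specializes z R).1 fun x hx => ?_).mem_open U''.2 hR)
    show Ideal.Quotient.mk P x ∈ Q
    rw [Ideal.Quotient.eq_zero_iff_mem.2 hx]
    exact zero_mem Q
  have h2 : (3 : ℕ∞) ≤ LocCoh.depth (Localization.AtPrime P) (Localization.AtPrime P) + 1 :=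
    hd'.trans (h1.trans (add_le_add_right hht _))
  have h3 : (2 : ℕ∞) ≤ LocCoh.depth (Localization.AtPrime P) (Localization.AtPrime P) :=
    (ENat.add_le_add_iff_right (by decide : (1 : ℕ∞) ≠ ⊤)).1 h2
  letI : Algebra A ((Spec (CommRingCat.of A)).presheaf.stalk z) := (StructureSheaf.toStalk A _).hom.toAlgebra
  haveI : IsLocalization.AtPrime ((Spec (CommRingCat.of A)).presheaf.stalk z) P :=
    StructureSheaf.IsLocalization.to_stalk A _
  let τ := IsLocalization.algEquiv P.primeCompl (Localization.AtPrime P) ((Spec (CommRingCat.of A)).presheaf.stalk z)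
  exact h3.trans (Alg6.depth_eq_of_semilinear τ.toRingEquiv.toRingHom τ.surjective τ.toRingEquiv.toAddEquiv
    (fun r z => map_mul τ r z)).le

/-- Clopens separate near the punctured hypersurface in depth three. -/
theorem sepNear_of_depth_three {f : A} (hf : f ∈ maximalIdeal A) [IsAdicComplete (Ideal.span {f}) A]
    (hnz : f ∈ nonZeroDivisors A) (hd : (3 : ℕ∞) ≤ LocCoh.depth A A)
    {U' : (Spec (CommRingCat.of A)).Opens} (hU' : U' ≤ FEt.puncturedSpec A)
    (hcov : ∀ p : PrimeSpectrum A, f ∈ p.asIdeal → p ≠ closedPoint A → p ∈ U')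
    (W : FEt.Cat (U' : Scheme.{u})) : SepNear f W := by
  have hK : KillUpToDeg 2 f A 0 := fun L => ⟨0, fun c _ => ⟨c, 0, by ring, fun i hi z => by
    haveI := (LC.le_idealDepth_iff_H (maximalIdeal A) A 3).1 hd i (by exact_mod_cast Nat.lt_succ_of_le hi)
    exact Subsingleton.elim _ _⟩⟩
  obtain ⟨t, ht⟩ := hK.kill_quot_pow (k := 1)
    (fun x hx => mem_nonZeroDivisors_iff_right.1 hnz x (by rw [mul_comm]; exact hx)) 3
  obtain ⟨n, g, hg⟩ := exists_gens (maximalIdeal A)
  have hrange : LinearMap.range (LinearMap.lsmul A A (f ^ 3)) = Ideal.span {f ^ 3} := by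
    ext x
    rw [Ideal.mem_span_singleton', LinearMap.mem_range]
    refine exists_congr fun y => ?_
    rw [LinearMap.lsmul_apply, smul_eq_mul, mul_comm]
  have h1 : ∀ l, H0Killed g (A ⧸ Ideal.span {f ^ 3}) (g l ^ t * f) := fun l => by
    refine H0Killed.of_linearEquiv (Submodule.quotEquivOfEq _ _ hrange)
      (h0Killed_of_H g hg (ModuleCat.of A _) _ fun z => ?_)
    rw [show g l ^ t * f = f * (g l ^ t * f ^ (0 + 0)) by ring, mul_smul,
      ht _ (Ideal.pow_mem_pow (hg ▸ Ideal.subset_span ⟨l, rfl⟩) t) 1 le_rfl z, smul_zero]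
  exact sepNear_of_H0Killed hf hnz hg h1 hU' hcov W

/-- Restriction to a smaller neighbourhood of the punctured hypersurface is fully faithful in depth three. -/
theorem restrict_homOfLE_ff {f : A} (hd : (3 : ℕ∞) ≤ LocCoh.depth A A) (hf : f ∈ maximalIdeal A)
    {U'' U' : (Spec (CommRingCat.of A)).Opens} (hle : U'' ≤ U')
    (hcov : ∀ p : PrimeSpectrum A, f ∈ p.asIdeal → p ≠ closedPoint A → p ∈ U'') :
    (FEt.restrict ((Spec (CommRingCat.of A)).homOfLE hle)).Full ∧
      (FEt.restrict ((Spec (CommRingCat.of A)).homOfLE hle)).Faithful := by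
  let U₀ := U'.ι ⁻¹ᵁ U''
  have hdep : ∀ x : (U' : Scheme.{u}), x ∉ U₀ →
      (2 : ℕ∞) ≤ LocCoh.depth ((U' : Scheme.{u}).presheaf.stalk x) ((U' : Scheme.{u}).presheaf.stalk x) :=
    fun x hx => (two_le_depth_stalk_of_not_mem_nhd hd hf hcov _ hx).trans (depth_stalk_le U'.ι x)
  obtain ⟨hF, hFa⟩ := restrict_open_full_faithful U₀ (dense_of_depth U₀ hdep) hdep
  let k := (Spec (CommRingCat.of A)).homOfLE hle
  have he : Set.range k.base = Set.range U₀.ι.base := by
    rw [Scheme.Opens.range_ι]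
    ext z
    constructor
    · rintro ⟨w, rfl⟩
      show U'.ι (k w) ∈ U''
      rw [← Scheme.Hom.comp_apply, Scheme.homOfLE_ι]
      exact w.2
    · intro hz
      refine ⟨⟨U'.ι z, hz⟩, U'.ι.isOpenEmbedding.injective ?_⟩
      rw [← Scheme.Hom.comp_apply, Scheme.homOfLE_ι]
      rfl
  let κ := IsOpenImmersion.isoOfRangeEq _ _ he
  haveI : (FEt.restrict κ.hom).IsEquivalence := isEquivalence_of_iso _
  haveI := hF
  haveI := hFa
  let e := MorphismProperty.Over.pullbackComp (P := FEt.prop.{u}) (Q := ⊤) κ.hom U₀.ι k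
    (IsOpenImmersion.isoOfRangeEq_hom_fac _ _ he).symm
  haveI : (FEt.restrict U₀.ι ⋙ FEt.restrict κ.hom).Full := Functor.Full.comp _ _
  haveI : (FEt.restrict U₀.ι ⋙ FEt.restrict κ.hom).Faithful := Functor.Faithful.comp _ _
  exact ⟨@Functor.Full.of_iso _ _ _ _ _ _ ‹_› e.symm, @Functor.Faithful.of_iso _ _ _ _ _ _ ‹_› e.symm⟩

/-- Restriction from a neighbourhood to the punctured hypersurface is fully faithful in depth three. -/
theorem restrict_nhd_ff_of_depth_three {f : A} (hf : f ∈ maximalIdeal A) [IsAdicComplete (Ideal.span {f}) A]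
    (hnz : f ∈ nonZeroDivisors A) (hd : (3 : ℕ∞) ≤ LocCoh.depth A A)
    {U' : (Spec (CommRingCat.of A)).Opens} (hU' : U' ≤ FEt.puncturedSpec A)
    (u' : pullback (FEt.puncturedSpec A).ι (Spec.map (CommRingCat.ofHom (Ideal.Quotient.mk (Ideal.span {f})))) ⟶ (U' : Scheme.{u}))
    (hu' : u' ≫ U'.ι = pullback.fst (FEt.puncturedSpec A).ι (Spec.map (CommRingCat.ofHom (Ideal.Quotient.mk (Ideal.span {f})))) ≫ (FEt.puncturedSpec A).ι) :
    (FEt.restrict u').Full ∧ (FEt.restrict u').Faithful := by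
  have hcov' : ∀ {U'' : (Spec (CommRingCat.of A)).Opens} (h : U'' ≤ U')
      (u'' : pullback (FEt.puncturedSpec A).ι (Spec.map (CommRingCat.ofHom (Ideal.Quotient.mk (Ideal.span {f})))) ⟶ (U'' : Scheme.{u})),
      u'' ≫ (Spec (CommRingCat.of A)).homOfLE h = u' →
      ∀ p : PrimeSpectrum A, f ∈ p.asIdeal → p ≠ closedPoint A → p ∈ U'' := by
    intro U'' h u'' hu p hp hne
    refine (cov_of_factor u'' ?_ p hp hne).1
    rw [← hu', ← hu, Category.assoc, Scheme.homOfLE_ι]
  refine ⟨⟨fun {V W} φ₀ => ?_⟩, ⟨fun {V W} φ ψ h => ?_⟩⟩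
  · obtain ⟨U'', hle, u'', hu, φ, hφ⟩ := exists_nhd_preimage f
      (fun U₁ h hcov W => sepNear_of_depth_three hf hnz hd h hcov W) hU' u' hu' φ₀
    obtain ⟨hF, -⟩ := restrict_homOfLE_ff hd hf hle (hcov' hle u'' hu)
    haveI := hF
    let k := (Spec (CommRingCat.of A)).homOfLE hle
    let e := MorphismProperty.Over.pullbackComp (P := FEt.prop.{u}) (Q := ⊤) u'' k u' hu.symm
    refine ⟨(FEt.restrict k).preimage φ, ?_⟩
    have hn := e.hom.naturality ((FEt.restrict k).preimage φ)
    refine (cancel_mono (e.hom.app W)).1 (hn.trans ?_)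
    refine (congrArg (e.hom.app V ≫ ·) ((congrArg (FEt.restrict u'').map (Functor.map_preimage _ φ)).trans hφ)).trans ?_
    exact Iso.hom_inv_id_app_assoc e V _
  · obtain ⟨U'', hle, u'', hu, hh⟩ := exists_nhd_map_eq f u' φ ψ h
    obtain ⟨-, hFa⟩ := restrict_homOfLE_ff hd hf hle (hcov' hle u'' hu)
    haveI := hFa
    exact (FEt.restrict _).map_injective hh

end Groth.Agent.PurX
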