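import Groth.Agent.S0250
import Groth.Agent.PurX.LiftPurity
import Mathlib.RingTheory.Localization.LocalizationLocalization
import Mathlib.RingTheory.Ideal.Height
import Mathlib.RingTheory.KrullDimension.NonZeroDivisors

/-!
# Extending from a neighbourhood of the hypersurface to the punctured spectrum
-/

set_option autoImplicit false
set_option linter.style.haveILetI false

universe u

open CategoryTheory CategoryTheory.Limits AlgebraicGeometry IsLocalRing
open Groth.Agent.Pi1Ext

set_option backward.isDefEq.respectTransparency false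

noncomputable section

namespace Groth.Agent.PurX

/-- Purity only depends on the ring. -/
theorem purityHolds_of_ringEquiv {R R' : Type u} [CommRing R] [CommRing R'] [IsLocalRing R] [IsLocalRing R']
    (e : R ≃+* R') (h : FEt.PurityHolds R) : FEt.PurityHolds R' := by
  let σ : Spec (CommRingCat.of R') ≅ Spec (CommRingCat.of R) := Scheme.Spec.mapIso e.toCommRingCatIso.op
  have hrange : Set.range ((FEt.puncturedSpec R').ι ≫ σ.hom).base = Set.range (FEt.puncturedSpec R).ι.base := by
    rw [Scheme.Hom.comp_base, TopCat.coe_comp, Set.range_comp, Scheme.Opens.range_ι, Scheme.Opens.range_ι]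
    have hcl : σ.hom (closedPoint R') = closedPoint R := by
      haveI : IsLocalHom e.toRingHom := Function.Surjective.isLocalHom _ e.surjective
      exact IsLocalRing.comap_closedPoint (f := e.toRingHom)
    ext x
    constructor
    · rintro ⟨y, hy, rfl⟩ hyc
      exact hy (σ.hom.isOpenEmbedding.injective (hyc.trans hcl.symm))
    · intro hx
      obtain ⟨y, rfl⟩ := σ.hom.surjective x
      exact ⟨y, fun hy => hx (by rw [hy]; exact hcl), rfl⟩
  let κ := IsOpenImmersion.isoOfRangeEq _ _ hrange
  have hκ : κ.hom ≫ (FEt.puncturedSpec R).ι = (FEt.puncturedSpec R').ι ≫ σ.hom :=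
    IsOpenImmersion.isoOfRangeEq_hom_fac _ _ _
  haveI : (FEt.restrict κ.inv).IsEquivalence := isEquivalence_of_iso _
  haveI : (FEt.restrict κ.hom).IsEquivalence := isEquivalence_of_iso _
  haveI : (FEt.restrict (FEt.puncturedSpec R).ι).EssSurj := h
  refine ⟨fun V' => ?_⟩
  let G := FEt.restrict κ.hom
  let V := G.objPreimage V'
  let E := (FEt.restrict (FEt.puncturedSpec R).ι).objPreimage V
  exact ⟨(FEt.restrict σ.hom).obj E, ⟨(Spread.restrictComp (FEt.puncturedSpec R').ι σ.hom _ rfl E).symm ≪≫
    Spread.restrictComp κ.hom (FEt.puncturedSpec R).ι _ hκ.symm E ≪≫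
    G.mapIso ((FEt.restrict (FEt.puncturedSpec R).ι).objObjPreimageIso V) ≪≫ G.objObjPreimageIso V'⟩⟩

variable {A : Type u} [CommRing A] [IsLocalRing A] [IsNoetherianRing A]

/-- A prime all whose specialisations in the punctured spectrum avoid `f` is maximal among those avoiding `f`. -/
theorem isMax_of_forall_notMem {f : A} (hf : f ∈ maximalIdeal A) {p : Ideal A} [p.IsPrime]
    (h : ∀ q : Ideal A, q.IsPrime → p ≤ q → f ∈ q → q = maximalIdeal A)
    {q : Ideal A} [q.IsPrime] (hpq : p < q) : f ∈ q := by
  by_contra hfq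
  let B := A ⧸ p
  let fb := Ideal.Quotient.mk p f
  let m := (maximalIdeal A).map (Ideal.Quotient.mk p)
  haveI : Nontrivial B := Ideal.Quotient.nontrivial_iff.2 (Ideal.IsPrime.ne_top ‹_›)
  haveI : IsLocalRing B := IsLocalRing.of_surjective' _ Ideal.Quotient.mk_surjective
  have hne : Ideal.span {fb} ≠ ⊤ := by
    intro htop
    rw [Ideal.span_singleton_eq_top] at htop
    haveI : IsLocalHom (Ideal.Quotient.mk p) := Function.Surjective.isLocalHom _ Ideal.Quotient.mk_surjective
    exact (IsLocalRing.mem_maximalIdeal f).1 hf (IsLocalHom.map_nonunit (f := Ideal.Quotient.mk p) f htop)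
  obtain ⟨⟨P, hP⟩⟩ : Nonempty (Ideal.span {fb}).minimalPrimes := Ideal.nonempty_minimalPrimes hne
  haveI := hP.1.1
  have hPm : P = maximalIdeal B := by
    refine Ideal.comap_injective_of_surjective _ Ideal.Quotient.mk_surjective ?_
    have h1 := h (P.comap (Ideal.Quotient.mk p)) inferInstance
      (by intro x hx; rw [Ideal.mem_comap, Ideal.Quotient.eq_zero_iff_mem.2 hx]; exact zero_mem _)
      (hP.1.2 (Ideal.mem_span_singleton_self fb))
    rw [h1]
    exact (IsLocalRing.eq_maximalIdeal (Ideal.comap_isMaximal_of_surjective _ Ideal.Quotient.mk_surjective)).symm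
  have hht := Ideal.height_le_one_of_isPrincipal_of_mem_minimalPrimes (Ideal.span {fb}) P hP
  -- the chain `0 < q < P`
  let qb := q.map (Ideal.Quotient.mk p)
  have hqb : qb.comap (Ideal.Quotient.mk p) = q := by
    rw [Ideal.comap_map_of_surjective _ Ideal.Quotient.mk_surjective]
    refine sup_eq_left.2 fun x hx => hpq.le ?_
    exact Ideal.Quotient.eq_zero_iff_mem.1 hx
  haveI : qb.IsPrime := Ideal.map_isPrime_of_surjective Ideal.Quotient.mk_surjective (by rw [Ideal.mk_ker]; exact hpq.le)
  have h0 : (⊥ : Ideal B) < qb := by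
    refine bot_lt_iff_ne_bot.2 fun hb => hpq.ne' ?_
    rw [← hqb, hb]
    exact Ideal.mk_ker
  have h1 : qb < P := by
    refine lt_of_le_of_ne (hPm ▸ IsLocalRing.le_maximalIdeal (Ideal.IsPrime.ne_top ‹_›)) fun he => hfq ?_
    rw [← hqb, he, Ideal.mem_comap]
    exact hP.1.2 (Ideal.mem_span_singleton_self fb)
  haveI : (⊥ : Ideal B).IsPrime := Ideal.bot_prime
  have h2 := Ideal.height_add_one_le_of_lt_of_isPrime h0
  have h3 := Ideal.height_add_one_le_of_lt_of_isPrime h1
  have h4 : (1 : ℕ∞) + 1 ≤ 1 :=
    le_trans (add_le_add (le_trans le_add_self h2) le_rfl) (h3.trans hht)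
  exact absurd h4 (by decide)

/-- Purity of `A_f` extends covers from a neighbourhood of the hypersurface to the punctured spectrum. -/
theorem exists_extension_punctured (f : A) (hf : f ∈ maximalIdeal A)
    (hp : ∀ P : Ideal (Localization.Away f), ∀ _ : P.IsMaximal, FEt.PurityHolds (Localization.AtPrime P))
    (U' : (Spec (CommRingCat.of A)).Opens) (hU' : U' ≤ FEt.puncturedSpec A)
    (hcov : ∀ q : PrimeSpectrum A, f ∈ q.asIdeal → q ≠ closedPoint A → q ∈ U')
    (V' : FEt.Cat (U' : Scheme.{u})) :
    ∃ Y : FEt.Cat (FEt.puncturedSpec A : Scheme.{u}),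
      Nonempty ((FEt.restrict ((Spec (CommRingCat.of A)).homOfLE hU')).obj Y ≅ V') := by
  let X := (FEt.puncturedSpec A : Scheme.{u})
  haveI : IsLocallyNoetherian X := isLocallyNoetherian_of_isOpenImmersion (FEt.puncturedSpec A).ι
  haveI : IsNoetherian X := { }
  let W : X.Opens := (FEt.puncturedSpec A).ι ⁻¹ᵁ U'
  have hS : ∀ x : X, x ∉ W → FEt.PurityHolds (X.presheaf.stalk x) := by
    intro x hx
    let q₀ : PrimeSpectrum A := (FEt.puncturedSpec A).ι x
    let p := q₀.asIdeal
    have hfp : f ∉ p := fun hfp => hx (hcov q₀ hfp x.2)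
    have hmax : ∀ q : Ideal A, q.IsPrime → p < q → f ∈ q := fun q hq hpq => by
      refine isMax_of_forall_notMem hf (p := p) (fun r hr hpr hfr => ?_) hpq
      by_contra hrm
      have hrU : (⟨r, hr⟩ : PrimeSpectrum A) ∈ U' :=
        hcov _ hfr fun he => hrm (congrArg PrimeSpectrum.asIdeal he)
      exact hx (((PrimeSpectrum.le_iff_specializes q₀ ⟨r, hr⟩).1 hpr).mem_open U'.2 hrU)
    let Af := Localization.Away f
    have hdisj : Disjoint (Submonoid.powers f : Set A) (p : Set A) := by
      rw [Set.disjoint_left]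
      rintro _ ⟨j, rfl⟩ hj
      exact hfp (q₀.isPrime.mem_of_pow_mem j hj)
    let P := p.map (algebraMap A Af)
    haveI hPp : P.IsPrime := IsLocalization.isPrime_of_isPrime_disjoint _ Af p q₀.isPrime hdisj
    have hPc : P.comap (algebraMap A Af) = p :=
      IsLocalization.under_map_of_isPrime_disjoint _ Af q₀.isPrime hdisj
    have hPmax : P.IsMaximal := by
      obtain ⟨M, hM, hle⟩ := Ideal.exists_le_maximal P hPp.ne_top
      suffices P = M from this ▸ hM
      rw [← IsLocalization.map_comap (Submonoid.powers f) Af M]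
      refine congrArg (Ideal.map (algebraMap A Af)) (le_antisymm (hPc ▸ Ideal.comap_mono hle) ?_)
      by_contra hlt
      have := hmax _ inferInstance (lt_of_le_not_ge (hPc ▸ Ideal.comap_mono hle) hlt)
      exact hM.isPrime.ne_top (Ideal.eq_top_of_isUnit_mem _ this (IsLocalization.Away.algebraMap_isUnit f))
    let e₁ : Localization.AtPrime (P.comap (algebraMap A Af)) ≃+* Localization.AtPrime P :=
      (IsLocalization.localizationLocalizationAtPrimeIsoLocalization (Submonoid.powers f) P).toRingEquiv
    letI : Algebra A ((Spec (CommRingCat.of A)).presheaf.stalk q₀) :=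
      (StructureSheaf.toStalk A q₀).hom.toAlgebra
    haveI : IsLocalization.AtPrime ((Spec (CommRingCat.of A)).presheaf.stalk q₀) p :=
      StructureSheaf.IsLocalization.to_stalk A q₀
    haveI : IsLocalization.AtPrime (Localization.AtPrime (P.comap (algebraMap A Af))) p := by
      have : IsLocalization.AtPrime (Localization.AtPrime (P.comap (algebraMap A Af))) (P.comap (algebraMap A Af)) :=
        inferInstance
      convert this using 1
      simp only [hPc]
    let e₂ : (Spec (CommRingCat.of A)).presheaf.stalk q₀ ≃+* Localization.AtPrime (P.comap (algebraMap A Af)) :=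
      (IsLocalization.algEquiv p.primeCompl _ _).toRingEquiv
    exact purityHolds_of_ringEquiv
      ((e₁.symm.trans e₂.symm).trans ((FEt.puncturedSpec A).stalkIso x).symm.commRingCatIsoToRingEquiv) (hp P hPmax)
  haveI := S0250.result W hS
  -- the neighbourhood inside the punctured spectrum
  have hrange : Set.range ((Spec (CommRingCat.of A)).homOfLE hU').base = Set.range W.ι.base := by
    rw [Scheme.Opens.range_ι]
    ext y
    constructor
    · rintro ⟨z, rfl⟩
      show (FEt.puncturedSpec A).ι ((Spec (CommRingCat.of A)).homOfLE hU' z) ∈ U'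
      rw [← Scheme.Hom.comp_apply, Scheme.homOfLE_ι]
      exact z.2
    · intro hy
      refine ⟨⟨_, hy⟩, (FEt.puncturedSpec A).ι.isOpenEmbedding.injective ?_⟩
      rw [← Scheme.Hom.comp_apply, Scheme.homOfLE_ι]
      rfl
  let κ := IsOpenImmersion.isoOfRangeEq _ _ hrange
  haveI : (FEt.restrict κ.hom).IsEquivalence := isEquivalence_of_iso _
  let Y := (FEt.restrict W.ι).objPreimage ((FEt.restrict κ.hom).objPreimage V')
  exact ⟨Y, ⟨Spread.restrictComp κ.hom W.ι _ (IsOpenImmersion.isoOfRangeEq_hom_fac _ _ _).symm Y ≪≫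
    (FEt.restrict κ.hom).mapIso ((FEt.restrict W.ι).objObjPreimageIso _) ≪≫
    (FEt.restrict κ.hom).objObjPreimageIso V'⟩⟩

end Groth.Agent.PurX
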