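import Groth.Agent.PurX.NhdEss
import Groth.Agent.PurX.NhdPurity

/-!
# Essential surjectivity of restriction to the punctured hypersurface and purity of the quotient
-/

set_option autoImplicit false
set_option linter.style.haveILetI false

universe u

open CategoryTheory CategoryTheory.Limits AlgebraicGeometry IsLocalRing
open Groth.Agent.Pi1Ext

set_option backward.isDefEq.respectTransparency false

noncomputable section

namespace Groth.Agent.PurX

variable {A : Type u} [CommRing A] [IsLocalRing A] [IsNoetherianRing A]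

/-- Extension to a neighbourhood and purity of `A_f` give extension to the punctured spectrum. -/
theorem essSurj_of_nhd (f : A) (hf : f ∈ maximalIdeal A)
    (hp : ∀ P : Ideal (Localization.Away f), ∀ _ : P.IsMaximal, FEt.PurityHolds (Localization.AtPrime P))
    (h : ∀ V₀ : FEt.Cat (pullback (FEt.puncturedSpec A).ι (Spec.map (CommRingCat.ofHom (Ideal.Quotient.mk (Ideal.span {f}))))),
      ∃ (U' : (Spec (CommRingCat.of A)).Opens) (_ : U' ≤ FEt.puncturedSpec A)
        (u' : pullback (FEt.puncturedSpec A).ι (Spec.map (CommRingCat.ofHom (Ideal.Quotient.mk (Ideal.span {f})))) ⟶ (U' : Scheme.{u}))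
        (_ : u' ≫ U'.ι = pullback.fst (FEt.puncturedSpec A).ι (Spec.map (CommRingCat.ofHom (Ideal.Quotient.mk (Ideal.span {f})))) ≫ (FEt.puncturedSpec A).ι)
        (V' : FEt.Cat (U' : Scheme.{u})), Nonempty ((FEt.restrict u').obj V' ≅ V₀)) :
    (FEt.restrict (pullback.fst (FEt.puncturedSpec A).ι (Spec.map (CommRingCat.ofHom (Ideal.Quotient.mk (Ideal.span {f})))))).EssSurj := by
  refine ⟨fun V₀ => ?_⟩
  obtain ⟨U', hU', u', hu', V', ⟨e⟩⟩ := h V₀
  let q := Spec.map (CommRingCat.ofHom (Ideal.Quotient.mk (Ideal.span {f})))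
  let j := pullback.fst (FEt.puncturedSpec A).ι q
  have hcov : ∀ p : PrimeSpectrum A, f ∈ p.asIdeal → p ≠ closedPoint A → p ∈ U' := by
    intro p hfp hne
    obtain ⟨x, hx⟩ : (⟨p, hne⟩ : (FEt.puncturedSpec A : Scheme.{u})) ∈ Set.range j.base := by
      rw [show Set.range j.base = _ from Scheme.Pullback.range_fst _ _]
      exact (mem_range_spec_quot f p).2 hfp
    have := congrArg (fun t => t.base x) hu'
    simp only [Scheme.Hom.comp_base, TopCat.coe_comp, Function.comp_apply] at this
    rw [show j.base x = (⟨p, hne⟩ : (FEt.puncturedSpec A : Scheme.{u})) from hx] at this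
    have h2 := (u'.base x).2
    rw [show (u'.base x).1 = U'.ι.base (u'.base x) from rfl, this] at h2
    exact h2
  obtain ⟨Y, ⟨eY⟩⟩ := exists_extension_punctured f hf hp U' hU' hcov V'
  have hw : j = u' ≫ (Spec (CommRingCat.of A)).homOfLE hU' := by
    rw [← cancel_mono (FEt.puncturedSpec A).ι, Category.assoc, Scheme.homOfLE_ι, hu']
  exact ⟨Y, ⟨Spread.restrictComp u' _ j hw Y ≪≫ (FEt.restrict u').mapIso eY ≪≫ e⟩⟩

/-- Purity passes to the hypersurface. -/
theorem purityHolds_quotient_of_essSurj (f : A) [IsLocalRing (A ⧸ Ideal.span {f})] (hA : FEt.PurityHolds A)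
    (h : (FEt.restrict (pullback.fst (FEt.puncturedSpec A).ι (Spec.map (CommRingCat.ofHom (Ideal.Quotient.mk (Ideal.span {f})))))).EssSurj) :
    FEt.PurityHolds (A ⧸ Ideal.span {f}) := by
  let B := A ⧸ Ideal.span {f}
  let q := Spec.map (CommRingCat.ofHom (Ideal.Quotient.mk (Ideal.span {f})))
  obtain ⟨κ, hκ⟩ := exists_bottom_iso f
  have hκ' : κ.hom ≫ pullback.snd (FEt.puncturedSpec A).ι q = (FEt.puncturedSpec B).ι := hκ
  haveI : (FEt.restrict κ.hom).IsEquivalence := isEquivalence_of_iso _
  haveI : (FEt.restrict (FEt.puncturedSpec A).ι).EssSurj := hA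
  let j := pullback.fst (FEt.puncturedSpec A).ι q
  haveI : (FEt.restrict j).EssSurj := h
  refine ⟨fun V => ?_⟩
  let G := FEt.restrict κ.hom
  let Y := (FEt.restrict j).objPreimage (G.objPreimage V)
  let E := (FEt.restrict (FEt.puncturedSpec A).ι).objPreimage Y
  exact ⟨(FEt.restrict q).obj E,
    ⟨Spread.restrictComp κ.hom (pullback.snd (FEt.puncturedSpec A).ι q) _ hκ'.symm _ ≪≫
      G.mapIso (Spread.restrictSquare _ q j (FEt.puncturedSpec A).ι pullback.condition.symm E ≪≫
        (FEt.restrict j).mapIso ((FEt.restrict (FEt.puncturedSpec A).ι).objObjPreimageIso Y) ≪≫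
        (FEt.restrict j).objObjPreimageIso _) ≪≫ G.objObjPreimageIso V⟩⟩

end Groth.Agent.PurX
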