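import Groth.Agent.PurX.SectionPurity
import Groth.Agent.PurX.FlatPurity
import Groth.Agent.CplFib6.PS
import Groth.Agent.PSLib.Regular
import Groth.Agent.ParaF2.SmoothComplete
import Groth.Agent.Pi1Ext.PuritySch
import Groth.Agent.FlatLoc6.RegCM

/-!
# Purity of power series over a ring of depth two
-/

set_option autoImplicit false
set_option linter.style.haveILetI false
set_option linter.unusedSectionVars false

universe u

open CategoryTheory CategoryTheory.Limits AlgebraicGeometry IsLocalRing
open scoped Pointwise
open Groth.Agent.Pi1Ext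

set_option backward.isDefEq.respectTransparency false

noncomputable section

namespace Groth.Agent.PurX

/-- A regular local ring of dimension at least two has depth at least two. -/
theorem two_le_depth_of_regular (R : Type u) [CommRing R] [IsRegularLocalRing R]
    (h : (2 : WithBot ℕ∞) ≤ ringKrullDim R) : (2 : ℕ∞) ≤ LocCoh.depth R R := by
  haveI := LC.gorenstein_of_isRegularLocalRing (R := R)
  haveI hCM : LocCoh.IsCohenMacaulayLocalRing R := LC.isCohenMacaulayLocalRing_of_gorenstein
  rw [← Module.supportDim_self_eq_ringKrullDim, hCM.supportDim_eq_depth] at h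
  exact WithBot.coe_le_coe.1 h

variable (A : Type u) [CommRing A] [IsNoetherianRing A] [IsLocalRing A]

theorem ker_map_residue (d : ℕ) :
    RingHom.ker (MvPowerSeries.map (σ := Fin d) (residue A)) =
      (maximalIdeal A).map (algebraMap A (MvPowerSeries (Fin d) A)) := by
  rw [ParaF2.ker_mvPowerSeries_map _ (IsNoetherian.noetherian _), IsLocalRing.ker_residue]
  rfl

theorem map_residue_surjective (d : ℕ) : Function.Surjective (MvPowerSeries.map (σ := Fin d) (residue A)) := by
  intro g
  choose c hc using fun e => residue_surjective (MvPowerSeries.coeff e g)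
  exact ⟨fun e => c e, MvPowerSeries.ext fun e => by rw [MvPowerSeries.coeff_map]; exact hc e⟩

/-- Two or more variables. -/
theorem purityHolds_powerSeries_of_two_le (d : ℕ) (hd : 2 ≤ d) :
    FEt.PurityHolds (MvPowerSeries (Fin d) A) := by
  let B := MvPowerSeries (Fin d) A
  let k := ResidueField A
  let K := MvPowerSeries (Fin d) k
  haveI := CplFib6.flat_mvPowerSeries A d
  haveI := CplFib6.isLocalHom_algebraMap A d
  haveI : IsRegularLocalRing K := PSLib.isRegularLocalRing k d
  let e : B ⧸ (maximalIdeal A).map (algebraMap A B) ≃+* K :=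
    (Ideal.quotEquivOfEq (ker_map_residue A d).symm).trans
      (RingHom.quotientKerEquivOfSurjective (map_residue_surjective A d))
  haveI : Nontrivial (B ⧸ (maximalIdeal A).map (algebraMap A B)) := e.toEquiv.nontrivial
  haveI : IsLocalRing (B ⧸ (maximalIdeal A).map (algebraMap A B)) :=
    IsLocalRing.of_surjective' _ Ideal.Quotient.mk_surjective
  have hdim : (2 : WithBot ℕ∞) ≤ ringKrullDim K := by
    rw [PSLib.ringKrullDim_eq]
    exact_mod_cast hd
  refine purityHolds_of_flat (A := A) (B := B) ?_
    (purityHolds_of_ringEquiv e.symm (PuritySch.purityHolds_of_regular K hdim))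
  rw [Alg6.depth_eq_of_semilinear e.toRingHom e.surjective e.toAddEquiv fun r z => map_mul e r z]
  exact two_le_depth_of_regular K hdim

/-- One variable. -/
theorem purityHolds_powerSeries_one (hA : (2 : ℕ∞) ≤ LocCoh.depth A A) :
    FEt.PurityHolds (MvPowerSeries (Fin 1) A) := by
  let B := MvPowerSeries (Fin 1) A
  let f : B := MvPowerSeries.X 0
  haveI := CplFib6.flat_mvPowerSeries A 1
  haveI := CplFib6.isLocalHom_algebraMap A 1
  have hvars : PSLib.vars 1 A = Ideal.span {f} :=
    congrArg Ideal.span (Set.range_unique (f := (MvPowerSeries.X : Fin 1 → B)))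
  haveI : IsAdicComplete (Ideal.span {f}) B := hvars ▸ PSLib.isAdicComplete
  have hf : f ∈ maximalIdeal B := by
    rw [mem_maximalIdeal, mem_nonunits_iff, MvPowerSeries.isUnit_iff_constantCoeff, MvPowerSeries.constantCoeff_X]
    exact not_isUnit_zero
  have hnz : f ∈ nonZeroDivisors B := MvPowerSeries.X_mem_nonzeroDivisors
  let g := (Ideal.Quotient.mk (Ideal.span {f})).comp (algebraMap A B)
  have hbij : Function.Bijective g := by
    refine ⟨(injective_iff_map_eq_zero g).2 fun a ha => ?_, fun x => ?_⟩
    · have h := Ideal.Quotient.eq_zero_iff_mem.1 (show Ideal.Quotient.mk (Ideal.span {f}) (algebraMap A B a) = 0 from ha)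
      rw [← hvars, PSLib.mem_vars_iff] at h
      rw [MvPowerSeries.algebraMap_apply, MvPowerSeries.constantCoeff_C] at h
      simpa using h
    · obtain ⟨b, rfl⟩ := Ideal.Quotient.mk_surjective x
      refine ⟨MvPowerSeries.constantCoeff b, (Ideal.Quotient.eq.2 ?_).symm⟩
      rw [← hvars]
      exact CplFib6.sub_C_mem_vars b
  have hdep : (3 : ℕ∞) ≤ LocCoh.depth B B := by
    have hreg : IsSMulRegular B f := fun a b hab => (mul_cancel_left_mem_nonZeroDivisors hnz).1 hab
    refine (LC.le_idealDepth_quotSMulTop_iff (M := B) (maximalIdeal B) hf hreg 2).1 ?_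
    show (2 : ℕ∞) ≤ LocCoh.depth B (QuotSMulTop f B)
    have hs : (f • (⊤ : Submodule B B)) = Ideal.span {f} := by
      rw [← Submodule.ideal_span_singleton_smul, smul_eq_mul, Ideal.mul_top]
    let e : A ≃+* B ⧸ Ideal.span {f} := RingEquiv.ofBijective g hbij
    haveI : Nontrivial (B ⧸ Ideal.span {f}) := e.toEquiv.symm.nontrivial
    haveI : IsLocalRing (B ⧸ Ideal.span {f}) := IsLocalRing.of_surjective' _ Ideal.Quotient.mk_surjective
    rw [Hensel.depth_congr (Submodule.quotEquivOfEq _ _ hs),
      Alg6.depth_eq_of_semilinear (Ideal.Quotient.mk (Ideal.span {f})) Ideal.Quotient.mk_surjective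
        (AddEquiv.refl _) (fun r x => rfl),
      Alg6.depth_eq_of_semilinear e.symm.toRingHom e.symm.surjective e.symm.toAddEquiv fun r z => map_mul e.symm r z]
    exact hA
  let P := RingHom.ker (MvPowerSeries.map (σ := Fin 1) (residue A))
  haveI : IsRegularLocalRing (MvPowerSeries (Fin 1) (ResidueField A)) := PSLib.isRegularLocalRing _ 1
  haveI := RegLoc6.isDomain_of_isRegularLocalRing (MvPowerSeries (Fin 1) (ResidueField A))
  haveI : P.IsPrime := RingHom.ker_isPrime _
  refine purityHolds_of_section (A := A) hf hnz hdep hA hbij P ?_ ?_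
  · ext a
    rw [Ideal.mem_comap, RingHom.mem_ker, MvPowerSeries.algebraMap_apply, MvPowerSeries.map_C,
      Algebra.algebraMap_self, RingHom.id_apply, ← residue_eq_zero_iff]
    exact map_eq_zero_iff _ MvPowerSeries.C_injective
  · intro h
    rw [RingHom.mem_ker, MvPowerSeries.map_X] at h
    simpa [MvPowerSeries.coeff_X] using congrArg (MvPowerSeries.coeff (Finsupp.single (0 : Fin 1) 1)) h

/-- Purity of power series in at least one variable over a ring of depth two. -/
theorem purityHolds_powerSeries (hA : (2 : ℕ∞) ≤ LocCoh.depth A A) (d : ℕ) (hd : 1 ≤ d) :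
    FEt.PurityHolds (MvPowerSeries (Fin d) A) := by
  rcases Nat.lt_or_ge d 2 with h | h
  · obtain rfl : d = 1 := by omega
    exact purityHolds_powerSeries_one A hA
  · exact purityHolds_powerSeries_of_two_le A d h

end Groth.Agent.PurX
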