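import Groth.Agent.PurX.SchemePurity
import Groth.Agent.PurX.AdjoinLimit
import Groth.Agent.S12073
import Groth.Agent.S0595
import Groth.Agent.CplFib6.PSRegular
import Groth.Agent.AnLocal.Formal

/-!
# Purity of regular local algebras of positive relative dimension over a base of depth two
-/

universe u

open CategoryTheory CategoryTheory.Limits AlgebraicGeometry IsLocalRing Opposite
open Groth.Agent.Pi1Ext

set_option linter.style.haveILetI false
set_option maxHeartbeats 1000000
set_option backward.isDefEq.respectTransparency false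

noncomputable section

namespace Groth.Agent.PurX

/-- The local rings of a smooth algebra over a base of depth two, at points of positive fibre dimension. -/
theorem purityHolds_atPrime_of_smooth {A R : Type u} [CommRing A] [CommRing R] [Algebra A R] [IsNoetherianRing A]
    [Algebra.Smooth A R] (q : Ideal R) [q.IsPrime] (p₀ : Ideal A) [p₀.IsPrime]
    (hq : q.comap (algebraMap A R) = p₀)
    (hA : (2 : ℕ∞) ≤ LocCoh.depth (Localization.AtPrime p₀) (Localization.AtPrime p₀))
    (hdim : (1 : WithBot ℕ∞) ≤ ringKrullDim (EGA4.FibLocRing A R q)) :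
    (2 : ℕ∞) ≤ LocCoh.depth (Localization.AtPrime q) (Localization.AtPrime q) ∧
      FEt.PurityHolds (Localization.AtPrime q) := by
  let f := Spec.map (CommRingCat.ofHom (algebraMap A R))
  haveI : Smooth f := HasRingHomProperty.Spec_iff.2 (RingHom.smooth_algebraMap.2 inferInstance)
  let x : Spec (CommRingCat.of R) := ⟨q, inferInstance⟩
  let y : Spec (CommRingCat.of A) := ⟨p₀, inferInstance⟩
  have hy : f x = y := PrimeSpectrum.ext hq
  letI : Algebra R ((Spec (CommRingCat.of R)).presheaf.stalk x) := (StructureSheaf.toStalk R x).hom.toAlgebra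
  haveI : IsLocalization.AtPrime ((Spec (CommRingCat.of R)).presheaf.stalk x) q :=
    StructureSheaf.IsLocalization.to_stalk R x
  let σ := IsLocalization.algEquiv q.primeCompl (Localization.AtPrime q) ((Spec (CommRingCat.of R)).presheaf.stalk x)
  have hd : (2 : ℕ∞) ≤ LocCoh.depth ((Spec (CommRingCat.of A)).presheaf.stalk (f x)) ((Spec (CommRingCat.of A)).presheaf.stalk (f x)) := by
    rw [hy]
    letI : Algebra A ((Spec (CommRingCat.of A)).presheaf.stalk y) := (StructureSheaf.toStalk A y).hom.toAlgebra
    haveI : IsLocalization.AtPrime ((Spec (CommRingCat.of A)).presheaf.stalk y) p₀ :=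
      StructureSheaf.IsLocalization.to_stalk A y
    let τ := IsLocalization.algEquiv p₀.primeCompl (Localization.AtPrime p₀) ((Spec (CommRingCat.of A)).presheaf.stalk y)
    exact hA.trans (Alg6.depth_eq_of_semilinear τ.toRingEquiv.toRingHom τ.surjective τ.toRingEquiv.toAddEquiv
      fun r z => map_mul τ r z).le
  have hF : (1 : WithBot ℕ∞) ≤ ringKrullDim ((f.fiber (f x)).presheaf.stalk (f.asFiber x)) := by
    obtain ⟨e⟩ := Triage.CMMor.exists_equiv_fibre_stalk f x
    rw [← ringKrullDim_eq_of_ringEquiv e]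
    refine hdim.trans (le_of_eq (ringKrullDim_eq_of_ringEquiv (Ideal.quotientEquiv _ _ σ.toRingEquiv ?_)))
    letI : Algebra A ((Spec (CommRingCat.of A)).presheaf.stalk (f x)) := (StructureSheaf.toStalk A (f x)).hom.toAlgebra
    haveI : IsLocalization.AtPrime ((Spec (CommRingCat.of A)).presheaf.stalk (f x)) (f x).asIdeal :=
      StructureSheaf.IsLocalization.to_stalk A (f x)
    rw [← IsLocalization.AtPrime.map_eq_maximalIdeal (f x).asIdeal ((Spec (CommRingCat.of A)).presheaf.stalk (f x)),
      Ideal.map_map, Ideal.map_map]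
    congr 1
    refine RingHom.ext fun a => ?_
    show f.stalkMap x _ = σ (algebraMap A (Localization.AtPrime q) a)
    rw [IsScalarTower.algebraMap_apply A R (Localization.AtPrime q), σ.commutes]
    exact stalkMap_toStalk_apply (CommRingCat.ofHom (algebraMap A R)) x a
  haveI : IsLocallyNoetherian (Spec (CommRingCat.of A)) := inferInstance
  obtain ⟨h1, h2⟩ := purityHolds_stalk_of_smooth f x hd hF
  exact ⟨h1.trans (Alg6.depth_eq_of_semilinear σ.symm.toRingEquiv.toRingHom σ.symm.surjective
      σ.symm.toRingEquiv.toAddEquiv fun r z => map_mul σ.symm r z).le,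
    purityHolds_of_ringEquiv σ.symm.toRingEquiv h2⟩

variable (A B : Type u) [CommRing A] [CommRing B] [IsLocalRing A] [IsLocalRing B] [IsNoetherianRing A]
  [IsNoetherianRing B] [Algebra A B] [IsLocalHom (algebraMap A B)]

/-- Purity of regular local algebras of positive relative dimension over a base of depth two. -/
theorem purityHolds_of_regularHom (hreg : CAlg.IsRegularHom A B)
    (hdim : (1 : WithBot ℕ∞) ≤ ringKrullDim (B ⧸ (maximalIdeal A).map (algebraMap A B)))
    (hA : (2 : ℕ∞) ≤ LocCoh.depth A A) : FEt.PurityHolds B := by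
  classical
  -- generators and relations
  obtain ⟨g0, hg0⟩ := (IsNoetherian.noetherian (maximalIdeal B))
  have hg0' : Ideal.span (g0 : Set B) = maximalIdeal B := hg0
  obtain ⟨a0, ha0⟩ := (IsNoetherian.noetherian (maximalIdeal A))
  have ha0' : Ideal.span (a0 : Set A) = maximalIdeal A := ha0
  have hrel : ∀ a : a0, ∃ c : B → B, algebraMap A B a = ∑ g ∈ g0, c g * g := fun a => by
    have h : algebraMap A B a ∈ Ideal.span (g0 : Set B) :=
      hg0'.ge (map_nonunit (algebraMap A B) _ (ha0'.le (Ideal.subset_span a.2)))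
    obtain ⟨c, -, hc⟩ := Submodule.mem_span_finset.1 h
    exact ⟨c, by simpa [smul_eq_mul] using hc.symm⟩
  choose c hc using hrel
  let s0 : Finset B := g0 ∪ a0.attach.biUnion fun a => g0.image (c a)
  let I := (Finset B)ᵒᵖ
  let i0 : I := op s0
  let D := AdjLim.specs A B
  let cn := AdjLim.specCone A B
  let gs : g0 → AdjLim.sub A B s0 := fun g =>
    ⟨g, Algebra.subset_adjoin (Finset.mem_union_left _ g.2)⟩
  let U0 : (D.obj i0).Opens :=
    (⟨(PrimeSpectrum.zeroLocus (Set.range gs))ᶜ, (PrimeSpectrum.isClosed_zeroLocus _).isOpen_compl⟩ :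
      (Spec (CommRingCat.of (AdjLim.sub A B s0))).Opens)
  let P := FEt.puncturedSpec B
  have hP : cn.π.app i0 ⁻¹ᵁ U0 = P := by
    refine TopologicalSpace.Opens.ext (Set.ext fun b => ?_)
    show ¬ Set.range gs ⊆ (PrimeSpectrum.comap (AdjLim.sub A B s0).val.toRingHom b).asIdeal ↔ b ≠ closedPoint B
    refine not_congr ⟨fun h => PrimeSpectrum.ext ((maximalIdeal.isMaximal B).eq_of_le b.isPrime.ne_top ?_).symm, ?_⟩
    · rw [← hg0', Ideal.span_le]
      exact fun g hg => h ⟨⟨g, hg⟩, rfl⟩
    · rintro rfl _ ⟨g, rfl⟩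
      exact hg0'.le (Ideal.subset_span g.2)
  haveI : ∀ (i : I), CompactSpace (D.obj i) := fun i => inferInstance
  let DV := opensDiagram D i0 U0
  let cV := opensCone D cn i0 U0
  haveI : ∀ j : Over i0, CompactSpace (DV.obj j) := fun j => by
    refine isCompact_iff_compactSpace.1 ?_
    have hc : IsCompact ((PrimeSpectrum.zeroLocus (Set.range gs))ᶜ : Set (PrimeSpectrum (AdjLim.sub A B s0))) :=
      (PrimeSpectrum.isCompact_isOpen_iff.2 ⟨(Finset.univ : Finset g0).image gs, by simp⟩).1
    exact (D.map j.hom).isSpectralMap.isCompact_preimage_of_isOpen U0.2 hc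
  haveI : ∀ j : Over i0, QuasiSeparatedSpace (DV.obj j) := fun j =>
    quasiSeparatedSpace_of_quasiSeparated ((D.map j.hom ⁻¹ᵁ U0).ι)
  refine ⟨fun E => ?_⟩
  let κ : (cV.pt : Scheme.{u}) ≅ (P : Scheme.{u}) := Scheme.isoOfEq _ hP
  obtain ⟨j, Ej, ⟨ej⟩⟩ := (S12073.result DV cV (isLimitOpensCone D cn (AdjLim.isLimitSpec A B) i0 U0)).1
    ((FEt.restrict κ.hom).obj E)
  let s := j.left.unop
  have hs : s0 ⊆ s := leOfHom j.hom.unop
  -- a smooth stage
  let R0 := AdjLim.sub A B s
  haveI : Algebra.FiniteType A R0 := (Subalgebra.fg_iff_finiteType _).1 ⟨s, rfl⟩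
  haveI : Algebra.FinitePresentation A R0 := Algebra.FinitePresentation.of_finiteType.1 inferInstance
  obtain ⟨R, _, _, hR, φ, h, hφ⟩ := S0595.result A B hreg R0 R0.val
  haveI := hR
  let q : Ideal R := (maximalIdeal B).comap h.toRingHom
  let Rq := Localization.AtPrime q
  let ψ : Rq →+* B := IsLocalization.lift (M := q.primeCompl) (g := h.toRingHom) fun y => by
    by_contra hu
    exact y.2 ((mem_maximalIdeal _).2 hu)
  have hψ : ∀ r, ψ (algebraMap R Rq r) = h r := fun r => IsLocalization.lift_eq _ r
  let α : R0 →+* Rq := (algebraMap R Rq).comp φ.toRingHom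
  have hα : ψ.comp α = R0.val.toRingHom := RingHom.ext fun x => (hψ _).trans (AlgHom.congr_fun hφ x)
  let τ : Spec (CommRingCat.of Rq) ⟶ D.obj j.left := Spec.map (CommRingCat.ofHom α)
  let π : Spec (CommRingCat.of B) ⟶ Spec (CommRingCat.of Rq) := Spec.map (CommRingCat.ofHom ψ)
  have hπτ : π ≫ τ = cn.π.app j.left := by
    show Spec.map _ ≫ Spec.map _ = Spec.map _
    rw [← Spec.map_comp, ← CommRingCat.ofHom_comp, hα]
    rfl
  let W := τ ⁻¹ᵁ (D.map j.hom ⁻¹ᵁ U0)
  haveI : Algebra.FiniteType A R := inferInstance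
  haveI : IsNoetherianRing R := Algebra.FiniteType.isNoetherianRing A R
  haveI : IsNoetherianRing Rq := IsLocalization.isNoetherianRing q.primeCompl Rq inferInstance
  -- purity outside
  have key : ∀ x : Spec (CommRingCat.of Rq), x ∉ W →
      (2 : ℕ∞) ≤ LocCoh.depth ((Spec (CommRingCat.of Rq)).presheaf.stalk x) ((Spec (CommRingCat.of Rq)).presheaf.stalk x) ∧
        FEt.PurityHolds ((Spec (CommRingCat.of Rq)).presheaf.stalk x) := by
    intro x hx
    have hxg : ∀ g : g0, α (Subalgebra.inclusion (Algebra.adjoin_mono (Finset.coe_subset.2 hs)) (gs g)) ∈ x.asIdeal :=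
      fun g => (not_not.1 hx) ⟨g, rfl⟩
    let up : AdjLim.sub A B s0 →ₐ[A] R0 := Subalgebra.inclusion (Algebra.adjoin_mono (Finset.coe_subset.2 hs))
    let P' : Ideal R := x.asIdeal.comap (algebraMap R Rq)
    have hPg : ∀ g : g0, φ (up (gs g)) ∈ P' := hxg
    -- over the closed point
    have hP0 : P'.comap (algebraMap A R) = maximalIdeal A := by
      refine ((maximalIdeal.isMaximal A).eq_of_le (Ideal.IsPrime.ne_top inferInstance) ?_).symm
      rw [← ha0', Ideal.span_le]
      intro a ha
      let cs : g0 → R0 := fun g => ⟨c ⟨a, ha⟩ g, Algebra.subset_adjoin (hs (Finset.mem_union_right _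
        (Finset.mem_biUnion.2 ⟨⟨a, ha⟩, Finset.mem_attach _ _, Finset.mem_image_of_mem _ g.2⟩)))⟩
      have he : algebraMap A R0 a = ∑ g : g0, cs g * up (gs g) := Subtype.ext (by
        push_cast
        show algebraMap A B a = ∑ g : g0, c ⟨a, ha⟩ g * (g : B)
        rw [hc ⟨a, ha⟩]
        exact (Finset.sum_coe_sort g0 fun g => c ⟨a, ha⟩ g * g).symm)
      show algebraMap A R a ∈ P'
      rw [← φ.commutes, he, map_sum]
      exact Ideal.sum_mem _ fun g _ => by rw [map_mul]; exact Ideal.mul_mem_left _ _ (hPg g)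
    have hPq : P' ≤ q := fun r hr => by
      by_contra hrq
      exact x.isPrime.ne_top (Ideal.eq_top_of_isUnit_mem _ hr (IsLocalization.map_units Rq (⟨r, hrq⟩ : q.primeCompl)))
    haveI : IsLocalHom (algebraMap A (Localization.AtPrime P')) := ⟨fun a ha => by
      by_contra hu
      rw [IsScalarTower.algebraMap_apply A R (Localization.AtPrime P')] at ha
      exact (IsLocalization.AtPrime.isUnit_to_map_iff (Localization.AtPrime P') P' _).1 ha
        (hP0.ge ((mem_maximalIdeal a).2 hu))⟩
    -- positive fibre dimension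
    have hd1 : (1 : WithBot ℕ∞) ≤ ringKrullDim (EGA4.FibLocRing A R P') := by
      let RP := Localization.AtPrime P'
      let J := (P'.comap (algebraMap A R)).map (algebraMap A RP)
      have hJ : J ≤ maximalIdeal RP := by
        show (P'.comap (algebraMap A R)).map (algebraMap A RP) ≤ _
        rw [hP0]
        exact IsLocalRing.map_maximalIdeal_le _
      haveI : Nontrivial (RP ⧸ J) := Ideal.Quotient.nontrivial_iff.2
        (ne_top_of_le_ne_top (maximalIdeal.isMaximal RP).ne_top hJ)
      haveI : IsLocalRing (RP ⧸ J) := IsLocalRing.of_surjective' _ Ideal.Quotient.mk_surjective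
      by_contra hlt
      -- otherwise the generators vanish on the closed fibre
      haveI : Module.Flat A R := inferInstance
      haveI := AnLocal.regular_fibLocRing (CplFib6.isRegularHom_of_smooth A R) q
      haveI := RegLoc6.isDomain_of_isRegularLocalRing (EGA4.FibLocRing A R q)
      haveI : (J : Ideal RP).IsPrime := by
        haveI := AnLocal.regular_fibLocRing (CplFib6.isRegularHom_of_smooth A R) P'
        haveI := RegLoc6.isDomain_of_isRegularLocalRing (EGA4.FibLocRing A R P')
        exact (Ideal.Quotient.isDomain_iff_prime J).1 inferInstance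
      have hJm : J = maximalIdeal RP := by
        by_contra hne
        refine hlt ?_
        have hlt' : (⟨J, inferInstance⟩ : PrimeSpectrum RP) < closedPoint RP := lt_of_le_of_ne hJ fun e => hne (congrArg PrimeSpectrum.asIdeal e)
        rw [ringKrullDim_quotient]
        let x₀ : PrimeSpectrum.zeroLocus (J : Set RP) := ⟨⟨J, inferInstance⟩, le_refl J⟩
        let x₁ : PrimeSpectrum.zeroLocus (J : Set RP) := ⟨closedPoint RP, hJ⟩
        exact_mod_cast Order.LTSeries.length_le_krullDim
          ((RelSeries.singleton _ x₁).cons x₀ (show x₀ < x₁ from hlt'))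
      let Jq := (q.comap (algebraMap A R)).map (algebraMap A Rq)
      have hqA : q.comap (algebraMap A R) = maximalIdeal A :=
        ((maximalIdeal.isMaximal A).eq_of_le (Ideal.IsPrime.ne_top inferInstance)
          (hP0.ge.trans (Ideal.comap_mono hPq))).symm
      have hgJ : ∀ g : g0, algebraMap R Rq (φ (up (gs g))) ∈ Jq := fun g => by
        have h1 : algebraMap R RP (φ (up (gs g))) ∈ J := hJm.ge
          ((IsLocalization.AtPrime.to_map_mem_maximal_iff RP P' _).2 (hPg g))
        rw [show J = ((P'.comap (algebraMap A R)).map (algebraMap A R)).map (algebraMap R RP) from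
          (congrArg (fun t => Ideal.map t _) (IsScalarTower.algebraMap_eq A R RP)).trans (Ideal.map_map _ _).symm] at h1
        obtain ⟨t, ht, hmem⟩ := (IsLocalization.algebraMap_mem_map_algebraMap_iff P'.primeCompl RP _ _).1 h1
        have h2 : algebraMap R Rq t * algebraMap R Rq (φ (up (gs g))) ∈ Jq := by
          rw [← map_mul, show Jq = ((q.comap (algebraMap A R)).map (algebraMap A R)).map (algebraMap R Rq) from
            (congrArg (fun t => Ideal.map t _) (IsScalarTower.algebraMap_eq A R Rq)).trans (Ideal.map_map _ _).symm, hqA]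
          exact Ideal.mem_map_of_mem _ (hP0 ▸ hmem)
        haveI : Jq.IsPrime := (Ideal.Quotient.isDomain_iff_prime Jq).1 inferInstance
        refine (Ideal.IsPrime.mem_or_mem inferInstance h2).resolve_left fun h3 => ?_
        have hle : Jq ≤ x.asIdeal := Ideal.map_le_iff_le_comap.2 fun a ha => by
          rw [hqA] at ha
          rw [Ideal.mem_comap, IsScalarTower.algebraMap_apply A R Rq]
          exact hP0.ge ha
        exact ht (hle h3)
      have hmB : maximalIdeal B ≤ (maximalIdeal A).map (algebraMap A B) := by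
        rw [← hg0', Ideal.span_le]
        intro g hg
        have h4 := Ideal.mem_map_of_mem ψ (hgJ ⟨g, hg⟩)
        rw [hψ, Ideal.map_map, show h (φ (up (gs ⟨g, hg⟩))) = g from AlgHom.congr_fun hφ _,
          show ψ.comp (algebraMap A Rq) = algebraMap A B from RingHom.ext fun a => by
            rw [RingHom.comp_apply, IsScalarTower.algebraMap_apply A R Rq, hψ, h.commutes], hqA] at h4
        exact h4
      haveI : ((maximalIdeal A).map (algebraMap A B)).IsMaximal := by
        rw [le_antisymm (IsLocalRing.map_maximalIdeal_le _) hmB]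
        exact maximalIdeal.isMaximal B
      rw [ringKrullDim_eq_zero_of_isField (Ideal.Quotient.maximal_ideal_iff_isField_quotient _ |>.1 inferInstance)] at hdim
      exact absurd hdim (by decide)
    haveI : (maximalIdeal A).IsPrime := inferInstance
    have hA' : (2 : ℕ∞) ≤ LocCoh.depth (Localization.AtPrime (maximalIdeal A)) (Localization.AtPrime (maximalIdeal A)) := by
      let σA : A ≃ₐ[A] Localization.AtPrime (maximalIdeal A) :=
        IsLocalization.atUnits A (maximalIdeal A).primeCompl fun x hx => by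
          by_contra h
          exact hx ((mem_maximalIdeal x).2 h)
      exact hA.trans (Alg6.depth_eq_of_semilinear σA.toRingEquiv.toRingHom σA.surjective σA.toRingEquiv.toAddEquiv
        (fun r z => map_mul σA r z)).le
    obtain ⟨h1, h2⟩ := purityHolds_atPrime_of_smooth P' (maximalIdeal A) hP0 hA' hd1
    letI : Algebra Rq ((Spec (CommRingCat.of Rq)).presheaf.stalk x) := (StructureSheaf.toStalk Rq x).hom.toAlgebra
    haveI : IsLocalization.AtPrime ((Spec (CommRingCat.of Rq)).presheaf.stalk x) x.asIdeal :=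
      StructureSheaf.IsLocalization.to_stalk Rq x
    let eP := (IsLocalization.localizationLocalizationAtPrimeIsoLocalization q.primeCompl x.asIdeal).toRingEquiv.symm
    let ex := eP.symm.trans (IsLocalization.algEquiv x.asIdeal.primeCompl (Localization.AtPrime x.asIdeal)
      ((Spec (CommRingCat.of Rq)).presheaf.stalk x)).toRingEquiv
    exact ⟨h1.trans (Alg6.depth_eq_of_semilinear ex.toRingHom ex.surjective ex.toAddEquiv fun r z => map_mul ex r z).le,
      purityHolds_of_ringEquiv ex h2⟩
  haveI : IsLocallyNoetherian (Spec (CommRingCat.of Rq)) := inferInstance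
  haveI := restrict_isEquivalence_of_purity W (fun x hx => (key x hx).1) fun x hx => (key x hx).2
  let tW : (W : Scheme.{u}) ⟶ DV.obj j := τ ∣_ (D.map j.hom ⁻¹ᵁ U0)
  let Y := (FEt.restrict W.ι).objPreimage ((FEt.restrict tW).obj Ej)
  have hk : cn.π.app i0 ⁻¹ᵁ U0 ≤ π ⁻¹ᵁ W := by
    refine le_of_eq ?_
    show _ = π ⁻¹ᵁ (τ ⁻¹ᵁ _)
    rw [← Scheme.Hom.comp_preimage, hπτ, ← Scheme.Hom.comp_preimage, cn.w]
  let k : (cV.pt : Scheme.{u}) ⟶ (W : Scheme.{u}) := π.resLE W _ hk
  have hkt : cV.π.app j = k ≫ tW := by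
    refine (cancel_mono (D.map j.hom ⁻¹ᵁ U0).ι).1 ?_
    rw [Category.assoc, morphismRestrict_ι, Scheme.Hom.resLE_comp_ι_assoc, hπτ]
    exact Scheme.Hom.resLE_comp_ι _ _
  haveI : (FEt.restrict κ.hom).IsEquivalence := isEquivalence_of_iso _
  refine ⟨(FEt.restrict π).obj Y, ⟨(FEt.restrict κ.hom).preimageIso ?_⟩⟩
  exact (Spread.restrictComp κ.hom P.ι _ rfl _).symm ≪≫
    Spread.restrictSquare (κ.hom ≫ P.ι) π k W.ι (by
      rw [Scheme.Hom.resLE_comp_ι]
      congr 1
      exact Scheme.isoOfEq_hom_ι _ _) Y ≪≫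
    (FEt.restrict k).mapIso ((FEt.restrict W.ι).objObjPreimageIso _) ≪≫
    (Spread.restrictComp k tW _ hkt Ej).symm ≪≫ ej

end Groth.Agent.PurX
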