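import Groth.Agent.PurX.DescendPurity
import Groth.Agent.PurX.LiftPurity
import Groth.Agent.PurX.NhdPurity
import Groth.Agent.FormalFib6.Cplt
import Groth.Agent.LinTop7.Misc
import Groth.Agent.Hensel.DepthFlat
import Groth.Agent.SkDesc.Basic
import Groth.Agent.S0239

/-!
# Purity lifts along a regular element in depth at least two
-/

set_option autoImplicit false
set_option linter.style.haveILetI false
set_option linter.unusedSectionVars false

universe u

open CategoryTheory CategoryTheory.Limits AlgebraicGeometry IsLocalRing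
open Groth.Agent.Pi1Ext

set_option backward.isDefEq.respectTransparency false

noncomputable section

namespace Groth.Agent.PurX

/-- Extension to the spectrum when restriction to a hypersurface is fully faithful and the hypersurface is pure. -/
theorem essSurj_of_quot_pure {A : Type u} [CommRing A] [IsLocalRing A] (t : A) [HenselianRing A (Ideal.span {t})]
    [IsLocalRing (A ⧸ Ideal.span {t})]
    (hF : (FEt.restrict (pullback.fst (FEt.puncturedSpec A).ι (Spec.map (CommRingCat.ofHom (Ideal.Quotient.mk (Ideal.span {t})))))).Full)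
    (hFa : (FEt.restrict (pullback.fst (FEt.puncturedSpec A).ι (Spec.map (CommRingCat.ofHom (Ideal.Quotient.mk (Ideal.span {t})))))).Faithful)
    (hB : FEt.PurityHolds (A ⧸ Ideal.span {t})) : FEt.PurityHolds A := by
  let B := A ⧸ Ideal.span {t}
  let ι := (FEt.puncturedSpec A).ι
  let q := Spec.map (CommRingCat.ofHom (Ideal.Quotient.mk (Ideal.span {t})))
  let j := pullback.fst ι q
  let jj := pullback.snd ι q
  haveI : IsOpenImmersion jj := MorphismProperty.pullback_snd _ _ inferInstance
  have hrange : Set.range jj.base = Set.range (FEt.puncturedSpec B).ι.base := by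
    rw [show Set.range jj.base = _ from Scheme.Pullback.range_snd _ _, Scheme.Opens.range_ι, Scheme.Opens.range_ι]
    ext x
    show PrimeSpectrum.comap (Ideal.Quotient.mk (Ideal.span {t})) x ≠ closedPoint A ↔ x ≠ closedPoint B
    refine not_congr ?_
    haveI : IsLocalHom (Ideal.Quotient.mk (Ideal.span {t})) := Function.Surjective.isLocalHom _ Ideal.Quotient.mk_surjective
    rw [← IsLocalRing.comap_closedPoint (f := Ideal.Quotient.mk (Ideal.span {t}))]
    exact (PrimeSpectrum.comap_injective_of_surjective _ Ideal.Quotient.mk_surjective).eq_iff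
  let κ := IsOpenImmersion.isoOfRangeEq jj (FEt.puncturedSpec B).ι hrange
  have hκ : κ.hom ≫ (FEt.puncturedSpec B).ι = jj := IsOpenImmersion.isoOfRangeEq_hom_fac _ _ _
  haveI : (FEt.restrict (FEt.puncturedSpec B).ι).EssSurj := hB
  haveI : (FEt.restrict κ.hom).IsEquivalence := isEquivalence_of_iso _
  haveI : (FEt.restrict q).IsEquivalence := S0239.result A (Ideal.span {t})
  haveI := hF
  haveI := hFa
  refine ⟨fun E => ?_⟩
  let T := (FEt.restrict κ.hom).objPreimage ((FEt.restrict j).obj E)
  let Y₀ := (FEt.restrict (FEt.puncturedSpec B).ι).objPreimage T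
  let Y := (FEt.restrict q).objPreimage Y₀
  refine ⟨Y, ⟨(FEt.restrict j).preimageIso ?_⟩⟩
  exact Spread.restrictSquare j ι jj q pullback.condition Y ≪≫
    (FEt.restrict jj).mapIso ((FEt.restrict q).objObjPreimageIso Y₀) ≪≫
    Spread.restrictComp κ.hom (FEt.puncturedSpec B).ι jj hκ.symm Y₀ ≪≫
    (FEt.restrict κ.hom).mapIso ((FEt.restrict (FEt.puncturedSpec B).ι).objObjPreimageIso T) ≪≫
    (FEt.restrict κ.hom).objObjPreimageIso _

variable {A : Type u} [CommRing A] [IsLocalRing A] [IsNoetherianRing A]

/-- Purity lifts along a regular element if the quotient has depth at least two. -/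
theorem purityHolds_of_quot_regular {t : A} (ht : t ∈ maximalIdeal A) (hreg : IsSMulRegular A t)
    [IsLocalRing (A ⧸ Ideal.span {t})]
    (hd : (2 : ℕ∞) ≤ LocCoh.depth (A ⧸ Ideal.span {t}) (A ⧸ Ideal.span {t}))
    (hB : FEt.PurityHolds (A ⧸ Ideal.span {t})) : FEt.PurityHolds A := by
  classical
  have hdA : ((2 + 1 : ℕ) : ℕ∞) ≤ LocCoh.depth A A := by
    rw [Hensel.succ_le_depth_iff ht hreg 2]
    refine hd.trans (le_of_eq (Eq.symm ?_))
    let e : QuotSMulTop t A ≃ₗ[A] A ⧸ Ideal.span {t} := Submodule.quotEquivOfEq _ _ (by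
      rw [← Submodule.ideal_span_singleton_smul]
      simp)
    rw [Hensel.depth_congr e]
    exact Alg6.depth_eq_of_semilinear (Ideal.Quotient.mk (Ideal.span {t})) Ideal.Quotient.mk_surjective
      (AddEquiv.refl _) fun r x => rfl
  have h3 : (3 : ℕ∞) ≤ LocCoh.depth A A := le_trans (by decide) hdA
  have hle : Ideal.span {t} ≤ maximalIdeal A := (Ideal.span_singleton_le_iff_mem _).2 ht
  let C := AdicCompletion (Ideal.span {t}) A
  have fg : (Ideal.span {t}).FG := IsNoetherian.noetherian _
  haveI : IsNoetherianRing C := FormalFib6.isNoetherianRing_adicCompletion A _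
  haveI : IsLocalRing C := LinTop7.isLocalRing_adicCompletion _ fg hle
  have hmax : (maximalIdeal A).map (algebraMap A C) = maximalIdeal C :=
    haveI := AdicCompletion.isMaximal_map_of_le (I := Ideal.span {t}) (maximalIdeal A) hle fg
    IsLocalRing.eq_maximalIdeal inferInstance
  haveI : IsLocalHom (algebraMap A C) := by
    refine ⟨fun a ha => ?_⟩
    by_contra h
    have : algebraMap A C a ∈ maximalIdeal C := hmax ▸ Ideal.mem_map_of_mem _ ((mem_maximalIdeal a).2 h)
    exact (mem_maximalIdeal _).1 this ha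
  haveI : Module.FaithfullyFlat A C := Module.FaithfullyFlat.of_flat_of_isLocalHom
  let t' := algebraMap A C t
  haveI : IsAdicComplete (Ideal.span {t'}) C := by
    have h := AdicCompletion.isAdicComplete_self (Ideal.span {t}) fg
    rwa [Ideal.map_span, Set.image_singleton] at h
  haveI : HenselianRing C (Ideal.span {t'}) := IsAdicComplete.henselianRing _ _
  have ht' : t' ∈ maximalIdeal C := hmax ▸ Ideal.mem_map_of_mem _ ht
  -- the quotient of the completion
  let e : C ⧸ Ideal.span {t'} ≃+* A ⧸ Ideal.span {t} :=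
    (Ideal.quotEquivOfEq (by
      rw [AdicCompletion.ker_evalOneₐ_eq_map (Ideal.span {t}) fg, Ideal.map_span, Set.image_singleton])).trans
      (RingHom.quotientKerEquivOfSurjective (f := (AdicCompletion.evalOneₐ (Ideal.span {t})).toRingHom)
        (AdicCompletion.evalOneₐ_surjective (Ideal.span {t})))
  haveI : Nontrivial (C ⧸ Ideal.span {t'}) := e.toEquiv.nontrivial
  haveI : IsLocalRing (C ⧸ Ideal.span {t'}) := IsLocalRing.of_surjective' _ Ideal.Quotient.mk_surjective
  have hpure : FEt.PurityHolds (C ⧸ Ideal.span {t'}) := purityHolds_of_ringEquiv e.symm hB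
  obtain ⟨k, g, hg⟩ := exists_gens (maximalIdeal C)
  have hdC : (3 : ℕ∞) ≤ LocCoh.depth C C := by
    rw [SkDesc.depth_eq (R := A) C fun P hP hP' => le_antisymm (le_maximalIdeal hP.ne_top) (hmax ▸ hP')]
    exact h3
  obtain ⟨h0, h1⟩ := killed_of_depth g hg C hdC
  obtain ⟨hF, hFa⟩ := restrict_ff_of_killed t' ht' g hg (n := 0) (by rwa [pow_zero]) (by rwa [pow_zero])
  have hC := essSurj_of_quot_pure t' hF hFa hpure
  -- descent
  haveI : (FEt.restrict (FEt.puncturedSpec C).ι).EssSurj := hC
  let c := PuritySch.sp A C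
  let u₁ := pullback.fst (FEt.puncturedSpec A).ι c
  let u₂ := pullback.snd (FEt.puncturedSpec A).ι c
  haveI : IsOpenImmersion u₂ := MorphismProperty.pullback_snd _ _ inferInstance
  have hrange : Set.range u₂.base = Set.range (FEt.puncturedSpec C).ι.base := by
    rw [show Set.range u₂.base = _ from Scheme.Pullback.range_snd _ _, Scheme.Opens.range_ι, Scheme.Opens.range_ι]
    ext x
    show PrimeSpectrum.comap (algebraMap A C) x ≠ closedPoint A ↔ x ≠ closedPoint C
    refine not_congr ⟨fun h => PrimeSpectrum.ext (le_antisymm (le_maximalIdeal x.2.ne_top) ?_), fun h => ?_⟩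
    · show maximalIdeal C ≤ x.asIdeal
      rw [← hmax, Ideal.map_le_iff_le_comap]
      exact (congrArg PrimeSpectrum.asIdeal h).ge
    · rw [h]
      exact IsLocalRing.comap_closedPoint (algebraMap A C)
  let κ := IsOpenImmersion.isoOfRangeEq u₂ (FEt.puncturedSpec C).ι hrange
  haveI : (FEt.restrict κ.hom).IsEquivalence := isEquivalence_of_iso _
  refine ⟨fun E => ?_⟩
  let T := (FEt.restrict κ.hom).objPreimage ((FEt.restrict u₁).obj E)
  obtain ⟨Y, hY⟩ := exists_extension_of_faithfullyFlat A (le_trans (by decide) h3) (S := C) E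
    ((FEt.restrict (FEt.puncturedSpec C).ι).objPreimage T)
    (Spread.restrictComp κ.hom (FEt.puncturedSpec C).ι u₂ (IsOpenImmersion.isoOfRangeEq_hom_fac _ _ _).symm _ ≪≫
      (FEt.restrict κ.hom).mapIso ((FEt.restrict (FEt.puncturedSpec C).ι).objObjPreimageIso T) ≪≫
      (FEt.restrict κ.hom).objObjPreimageIso _)
  exact ⟨Y, hY⟩

end Groth.Agent.PurX
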