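import Groth.Agent.PurX.SmoothLocalPurity
import Groth.Agent.PurX.PureDescent
import Groth.Agent.PurX.NormExtend
import Groth.Agent.Codepth5.Sk
import Groth.Agent.ParaF2.Spread

/-!
# Purity of smooth schemes over a base of depth two
-/

universe u

open CategoryTheory CategoryTheory.Limits AlgebraicGeometry IsLocalRing
open Groth.Agent.Pi1Ext Groth.Agent.Pi1X

set_option linter.style.haveILetI false
set_option backward.isDefEq.respectTransparency false

noncomputable section

namespace Groth.Agent.PurX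

/-- Purity of the local rings outside an open of depth two gives the equivalence. -/
theorem restrict_isEquivalence_of_purity {X : Scheme.{u}} [IsLocallyNoetherian X] (U : X.Opens)
    (hdep : ∀ x : X, x ∉ U → (2 : ℕ∞) ≤ LocCoh.depth (X.presheaf.stalk x) (X.presheaf.stalk x))
    (hpur : ∀ x : X, x ∉ U → FEt.PurityHolds (X.presheaf.stalk x)) :
    (FEt.restrict U.ι).IsEquivalence := by
  obtain ⟨hF, hFa⟩ := restrict_open_full_faithful U (dense_of_depth U hdep) hdep
  haveI := hF
  haveI := hFa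
  haveI : (FEt.restrict U.ι).EssSurj := ⟨fun E => exists_extension_of_local U hdep E
    fun U' hle E' _ x hx hmin =>
      Spread.exists_local_extension U' E' x (hpur x fun h => hx (hle h)) hx hmin⟩
  exact { }

/-- A point outside an open in the closure of the open has a local ring of positive dimension. -/
theorem one_le_dim_stalk_of_mem_closure {F : Scheme.{u}} [IsLocallyNoetherian F] (O : F.Opens) (z : F)
    (hz : z ∉ O) (hcl : z ∈ closure (O : Set F)) : (1 : WithBot ℕ∞) ≤ ringKrullDim (F.presheaf.stalk z) := by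
  obtain ⟨_, ⟨(W : F.Opens), hW, rfl⟩, hzW, -⟩ := F.isBasis_affineOpens.exists_subset_of_mem_open (Set.mem_univ z) isOpen_univ
  haveI : CompactSpace ↥(W : Scheme.{u}) := isCompact_iff_compactSpace.1 hW.isCompact
  haveI : IsNoetherian (W : Scheme.{u}) := {}
  have h1 : (⟨z, hzW⟩ : (W : Scheme.{u})) ∈ closure ((W.ι ⁻¹ᵁ O : (W : Scheme.{u}).Opens) : Set (W : Scheme.{u})) := by
    have h := (W.ι.isOpenEmbedding.isOpenMap.preimage_closure_eq_closure_preimage W.ι.continuous (O : Set F))
    exact h.le (show W.ι ⟨z, hzW⟩ ∈ closure (O : Set F) from hcl)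
  obtain ⟨y, ⟨hyO, -⟩, hy⟩ := ParaF2.exists_specializes (C := Set.univ) (W.ι ⁻¹ᵁ O).2 isClosed_univ
    (v := (⟨z, hzW⟩ : (W : Scheme.{u}))) (by rw [Set.inter_univ]; exact h1)
  have hy' : W.ι y ⤳ z := hy.map W.ι.continuous
  obtain ⟨q, hq⟩ := (Scheme.range_fromSpecStalk (X := F) (x := z)).ge hy'
  have hne : q ≠ closedPoint (F.presheaf.stalk z) := fun h => by
    rw [h, Scheme.fromSpecStalk_closedPoint] at hq
    refine hz ?_
    rw [hq]
    exact hyO
  by_contra hlt
  haveI : Ring.KrullDimLE 0 (F.presheaf.stalk z) := (Ring.krullDimLE_iff).2 (by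
    revert hlt
    generalize ringKrullDim (F.presheaf.stalk z) = d
    intro hlt
    induction d with
    | bot => exact bot_le
    | coe d =>
      have h : d < (1 : ℕ∞) := lt_of_not_ge fun h => hlt (WithBot.coe_le_coe.2 h)
      exact WithBot.coe_le_coe.2 (ENat.lt_one_iff_eq_zero.1 h).le)
  exact hne (PrimeSpectrum.ext (Ring.KrullDimLE.eq_maximalIdeal_of_isPrime q.asIdeal))

/-- Purity of a smooth scheme at a point of positive fibre dimension over a point of depth two. -/
theorem purityHolds_stalk_of_smooth {X S : Scheme.{u}} (f : X ⟶ S) [Smooth f] [IsLocallyNoetherian S] (x : X)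
    (hd : (2 : ℕ∞) ≤ LocCoh.depth (S.presheaf.stalk (f x)) (S.presheaf.stalk (f x)))
    (hdim : (1 : WithBot ℕ∞) ≤ ringKrullDim ((f.fiber (f x)).presheaf.stalk (f.asFiber x))) :
    (2 : ℕ∞) ≤ LocCoh.depth (X.presheaf.stalk x) (X.presheaf.stalk x) ∧ FEt.PurityHolds (X.presheaf.stalk x) := by
  haveI : IsLocallyNoetherian X := LocallyOfFiniteType.isLocallyNoetherian f
  refine ⟨?_, ?_⟩
  · letI : Algebra (S.presheaf.stalk (f x)) (X.presheaf.stalk x) := (f.stalkMap x).hom.toAlgebra
    haveI : IsLocalHom (algebraMap (S.presheaf.stalk (f x)) (X.presheaf.stalk x)) :=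
      inferInstanceAs <| IsLocalHom (f.stalkMap x).hom
    haveI : Module.Flat (S.presheaf.stalk (f x)) (X.presheaf.stalk x) := Flat.stalkMap f x
    exact ParaF2.le_depth_of_flat _ _ (n := 2) hd
  obtain ⟨V, hV, U, hU, hxU, hle, hstd⟩ := Smooth.exists_isStandardSmooth f x
  obtain ⟨n, g₀, hg₀C, hg₀⟩ := RingHom.IsStandardSmooth.exists_etale_mvPolynomial hstd
  letI : Algebra Γ(S, V) Γ(X, U) := (f.appLE V U hle).hom.toAlgebra
  let g : MvPolynomial (Fin n) Γ(S, V) →ₐ[Γ(S, V)] Γ(X, U) :=
    { g₀ with commutes' := fun a => (RingHom.congr_fun hg₀C a).trans rfl }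
  haveI : IsNoetherianRing Γ(S, V) := IsLocallyNoetherian.component_noetherian ⟨V, hV⟩
  let q := (hU.primeIdealOf ⟨x, hxU⟩).asIdeal
  let p₀ := (hV.primeIdealOf ⟨f x, hle hxU⟩).asIdeal
  have hq : q.comap (algebraMap Γ(S, V) Γ(X, U)) = p₀ :=
    congrArg PrimeSpectrum.asIdeal (IsAffineOpen.comap_primeIdealOf_appLE V hV U hU hle hxU)
  -- the local rings
  letI := QCoh.stalkAlg (X := X) hxU
  haveI := QCoh.isLocalization_stalk' hU hxU
  let σ := IsLocalization.algEquiv q.primeCompl (Localization.AtPrime q) (X.presheaf.stalk x)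
  letI := QCoh.stalkAlg (X := S) (hle hxU)
  haveI := QCoh.isLocalization_stalk' hV (hle hxU)
  let τ := IsLocalization.algEquiv p₀.primeCompl (Localization.AtPrime p₀) (S.presheaf.stalk (f x))
  have hd' : (2 : ℕ∞) ≤ LocCoh.depth (Localization.AtPrime p₀) (Localization.AtPrime p₀) :=
    hd.trans (Alg6.depth_eq_of_semilinear τ.toRingEquiv.toRingHom τ.surjective τ.toRingEquiv.toAddEquiv
      fun r z => map_mul τ r z).ge
  obtain ⟨e⟩ := Codepth5.exists_fibre_stalk_equiv f hU hV hle hxU
  rw [← ringKrullDim_eq_of_ringEquiv e] at hdim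
  refine purityHolds_of_ringEquiv σ.toRingEquiv (purityHolds_atPrime_of_etale g hg₀ q p₀ hq ?_ hd')
  rw [← hq]
  exact hdim

end Groth.Agent.PurX
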