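import Groth.Agent.PurX.NhdFF
import Groth.Agent.PurX.DescendPurity
import Mathlib.RingTheory.Flat.FaithfullyFlat.Algebra

/-!
# Purity of a complete algebra over a base of depth two with a section cut out by one equation
-/

set_option autoImplicit false
set_option linter.style.haveILetI false
set_option linter.unusedSectionVars false

universe u

open CategoryTheory CategoryTheory.Limits AlgebraicGeometry IsLocalRing
open Groth.Agent.Pi1Ext Groth.Agent.Pi1X

set_option backward.isDefEq.respectTransparency false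

noncomputable section

namespace Groth.Agent.PurX

variable {A B : Type u} [CommRing A] [CommRing B] [IsLocalRing A] [IsLocalRing B] [IsNoetherianRing A]
  [IsNoetherianRing B] [Algebra A B] [IsLocalHom (algebraMap A B)] [Module.Flat A B]

/-- Purity of a complete flat algebra with a section cut out by one equation over a base of depth two. -/
theorem purityHolds_of_section {f : B} (hf : f ∈ maximalIdeal B) [IsAdicComplete (Ideal.span {f}) B]
    (hnz : f ∈ nonZeroDivisors B) (hd : (3 : ℕ∞) ≤ LocCoh.depth B B) (hA : (2 : ℕ∞) ≤ LocCoh.depth A A)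
    (hbij : Function.Bijective ((Ideal.Quotient.mk (Ideal.span {f})).comp (algebraMap A B)))
    (P : Ideal B) [P.IsPrime] (hP : P.comap (algebraMap A B) = maximalIdeal A) (hfP : f ∉ P) :
    FEt.PurityHolds B := by
  let ιA := (FEt.puncturedSpec A).ι
  let ιB := (FEt.puncturedSpec B).ι
  let π := PuritySch.sp A B
  let q := Spec.map (CommRingCat.ofHom (Ideal.Quotient.mk (Ideal.span {f})))
  let U' := π ⁻¹ᵁ FEt.puncturedSpec A
  let π' : (U' : Scheme.{u}) ⟶ FEt.puncturedSpec A := π ∣_ FEt.puncturedSpec A
  have hπ' : π' ≫ ιA = U'.ι ≫ π := morphismRestrict_ι _ _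
  have hle : U' ≤ FEt.puncturedSpec B := fun b hb h => hb (by
    rw [h]
    exact IsLocalRing.comap_closedPoint (algebraMap A B))
  -- the part of the hypersurface over the closed point is the closed point
  have hcov : ∀ b : PrimeSpectrum B, f ∈ b.asIdeal → b ≠ closedPoint B → b ∈ U' := by
    intro b hfb hb h
    have h' : b.asIdeal.comap (algebraMap A B) = maximalIdeal A := congrArg PrimeSpectrum.asIdeal h
    refine hb (PrimeSpectrum.ext (le_antisymm (le_maximalIdeal b.isPrime.ne_top) fun x hx => ?_))
    obtain ⟨a, ha⟩ := hbij.2 (Ideal.Quotient.mk _ x)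
    obtain ⟨c, hc⟩ := Ideal.mem_span_singleton.1 (Ideal.Quotient.eq.1 ha)
    have hab : algebraMap A B a ∈ maximalIdeal B := by
      rw [show algebraMap A B a = f * c + x by rw [← hc]; ring]
      exact add_mem (Ideal.mul_mem_right _ _ hf) hx
    have hma : a ∈ maximalIdeal A := (mem_maximalIdeal a).2 fun hu => hab (hu.map _)
    rw [show x = algebraMap A B a - f * c by rw [← hc]; ring]
    exact sub_mem (show a ∈ b.asIdeal.comap (algebraMap A B) from h'.symm ▸ hma) (Ideal.mul_mem_right _ _ hfb)
  have hu'r : Set.range (pullback.fst ιB q ≫ ιB).base ⊆ Set.range U'.ι.base := by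
    rw [Scheme.Opens.range_ι]
    rintro _ ⟨w, rfl⟩
    refine hcov _ ?_ ((pullback.fst ιB q w)).2
    rw [pullback.condition]
    show Ideal.Quotient.mk (Ideal.span {f}) f ∈ ((pullback.snd ιB q) w).asIdeal
    rw [Ideal.Quotient.eq_zero_iff_mem.2 (Ideal.mem_span_singleton_self f)]
    exact zero_mem _
  let u' := IsOpenImmersion.lift U'.ι _ hu'r
  have hu' : u' ≫ U'.ι = pullback.fst ιB q ≫ ιB := IsOpenImmersion.lift_fac _ _ _
  obtain ⟨hF, hFa⟩ := restrict_nhd_ff_of_depth_three hf hnz hd hle u' hu'
  haveI := hF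
  haveI := hFa
  -- the hypersurface is the punctured spectrum of the base
  let a := u' ≫ π'
  let e := Spec.map (CommRingCat.ofHom ((Ideal.Quotient.mk (Ideal.span {f})).comp (algebraMap A B)))
  haveI : IsIso e := by
    haveI : IsIso (CommRingCat.ofHom ((Ideal.Quotient.mk (Ideal.span {f})).comp (algebraMap A B))) :=
      (ConcreteCategory.isIso_iff_bijective _).2 hbij
    infer_instance
  have he : q ≫ π = e := by
    rw [← Spec.map_comp]
    rfl
  have haι : a ≫ ιA = pullback.snd ιB q ≫ e := by
    rw [Category.assoc, hπ', reassoc_of% hu', pullback.condition_assoc, he]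
  haveI : IsOpenImmersion (pullback.snd ιB q) := MorphismProperty.pullback_snd _ _ inferInstance
  haveI : IsOpenImmersion (a ≫ ιA) := by rw [haι]; infer_instance
  have hrange : Set.range (a ≫ ιA).base = Set.range ιA.base := by
    refine subset_antisymm ?_ fun x hx => ?_
    · rw [Scheme.Hom.comp_base, TopCat.coe_comp]
      exact Set.range_comp_subset_range _ _
    rw [Scheme.Opens.range_ι] at hx
    have hy : (inv e) x ∈ Set.range (pullback.snd ιB q).base := by
      rw [show Set.range (pullback.snd ιB q).base = _ from Scheme.Pullback.range_snd _ _, Scheme.Opens.range_ι]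
      intro h
      have h1 : (q ≫ π) ((inv e) x) = x := by
        rw [show (q ≫ π) ((inv e) x) = e ((inv e) x) from congrArg (fun t => t.base ((inv e) x)) he,
          ← Scheme.Hom.comp_apply]
        simp
      refine hx (h1.symm.trans ?_)
      exact (congrArg (fun t => π.base t) h).trans (IsLocalRing.comap_closedPoint (algebraMap A B))
    obtain ⟨w, hw⟩ := hy
    refine ⟨w, ?_⟩
    rw [haι, Scheme.Hom.comp_apply, hw, ← Scheme.Hom.comp_apply]
    simp
  haveI : IsIso a := by
    rw [show a = (IsOpenImmersion.isoOfRangeEq _ _ hrange).hom from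
      ((cancel_mono ιA).1 (IsOpenImmersion.isoOfRangeEq_hom_fac _ _ hrange)).symm]
    infer_instance
  haveI : (FEt.restrict a).IsEquivalence := isEquivalence_of_iso a
  refine ⟨fun E => ?_⟩
  let k := (Spec (CommRingCat.of B)).homOfLE hle
  obtain ⟨hkF, hkFa⟩ := restrict_homOfLE_ff hd hf hle hcov
  haveI := hkF
  haveI := hkFa
  let E' := (FEt.restrict k).obj E
  let E₀ := (FEt.restrict a).objPreimage ((FEt.restrict u').obj E')
  let φ : (FEt.restrict π').obj E₀ ≅ E' := (FEt.restrict u').preimageIso
    ((Spread.restrictComp u' π' a rfl E₀).symm ≪≫ (FEt.restrict a).objObjPreimageIso _)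
  -- extension over the localization at a prime outside the hypersurface
  let S := Localization.AtPrime P
  haveI : Module.Flat A S := Module.Flat.trans A B S
  haveI : IsLocalHom (algebraMap A S) := ⟨fun x hx => by
    by_contra h
    have hxP : algebraMap A B x ∈ P := show x ∈ P.comap _ from hP.symm ▸ (mem_maximalIdeal x).2 h
    rw [IsScalarTower.algebraMap_apply A B S] at hx
    exact (IsLocalization.AtPrime.isUnit_to_map_iff S P _).1 hx hxP⟩
  haveI : Module.FaithfullyFlat A S := Module.FaithfullyFlat.of_flat_of_isLocalHom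
  let c := PuritySch.sp A S
  let c' := PuritySch.sp B S
  have hc : c' ≫ π = c := by
    rw [← Spec.map_comp, ← CommRingCat.ofHom_comp, ← IsScalarTower.algebraMap_eq A B S]
  have hlr : Set.range c'.base ⊆ Set.range ιB.base := by
    rw [Scheme.Opens.range_ι]
    rintro _ ⟨y, rfl⟩ h
    have h1 : f ∈ (c' y).asIdeal := by
      rw [h]
      exact hf
    exact y.isPrime.ne_top (Ideal.eq_top_of_isUnit_mem _ h1 (IsLocalization.map_units S (⟨f, hfP⟩ : P.primeCompl)))
  let l := IsOpenImmersion.lift ιB c' hlr
  have hl : l ≫ ιB = c' := IsOpenImmersion.lift_fac _ _ _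
  let j₁ := pullback.fst ιA c
  let j₂ := pullback.snd ιA c
  have hvr : Set.range (j₂ ≫ c').base ⊆ Set.range U'.ι.base := by
    rw [Scheme.Opens.range_ι]
    rintro _ ⟨w, rfl⟩
    show π ((j₂ ≫ c') w) ∈ FEt.puncturedSpec A
    rw [← Scheme.Hom.comp_apply, Category.assoc, hc, ← pullback.condition]
    exact (j₁ w).2
  let v := IsOpenImmersion.lift U'.ι _ hvr
  have hv : v ≫ U'.ι = j₂ ≫ c' := IsOpenImmersion.lift_fac _ _ _
  have hvπ : j₁ = v ≫ π' := (cancel_mono ιA).1 (by
    rw [Category.assoc, hπ', reassoc_of% hv, hc, pullback.condition])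
  have hvk : j₂ ≫ l = v ≫ k := (cancel_mono ιB).1 (by
    rw [Category.assoc, Category.assoc, hl, Scheme.homOfLE_ι, hv])
  obtain ⟨Y, ⟨θ⟩⟩ := exists_extension_of_faithfullyFlat A hA E₀ ((FEt.restrict l).obj E)
    (Spread.restrictSquare j₂ l v k hvk E ≪≫ (FEt.restrict v).mapIso φ.symm ≪≫
      (Spread.restrictComp v π' j₁ hvπ E₀).symm)
  refine ⟨(FEt.restrict π).obj Y, ⟨(FEt.restrict k).preimageIso ?_⟩⟩
  exact (Spread.restrictComp k ιB U'.ι (Scheme.homOfLE_ι _ _).symm _).symm ≪≫
    Spread.restrictSquare U'.ι π π' ιA hπ'.symm Y ≪≫ (FEt.restrict π').mapIso θ ≪≫ φ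

end Groth.Agent.PurX
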