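import Groth.Agent.PurX.CplSmoothPurity

/-!
# Purity of the local rings of a smooth algebra of positive fibre dimension over a base of depth two
-/

universe u

open IsLocalRing

set_option linter.style.haveILetI false
set_option maxHeartbeats 1000000

noncomputable section

namespace Groth.Agent.PurX

variable {A : Type u} [CommRing A]
  {R : Type u} [CommRing R] [Algebra A R]

theorem isAlgebraic_adjoin_of_etale {n : ℕ} (g : MvPolynomial (Fin n) A →ₐ[A] R) (hg : g.toRingHom.Etale)
    (q : Ideal R) [q.IsPrime] (k : Type u) [Field k] [Algebra A k] [Algebra k q.ResidueField]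
    [IsScalarTower A k q.ResidueField] :
    Algebra.IsAlgebraic (Algebra.adjoin k
      (Set.range fun i => algebraMap R q.ResidueField (g (MvPolynomial.X i)))) q.ResidueField := by
  let K := q.ResidueField
  let P := MvPolynomial (Fin n) A
  let t : Fin n → K := fun i => algebraMap R K (g (MvPolynomial.X i))
  algebraize [g.toRingHom]
  haveI : IsScalarTower A P R := IsScalarTower.of_algebraMap_eq fun a => (g.commutes a).symm
  let y := q.comap (algebraMap P R)
  haveI : q.LiesOver y := ⟨rfl⟩
  letI := Localization.AtPrime.algebraOfLiesOver y q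
  haveI : Algebra.IsUnramifiedAt P q := Algebra.FormallyUnramified.comp P R (Localization.AtPrime q)
  haveI : Module.Finite y.ResidueField K := inferInstance
  let F := IntermediateField.adjoin k (Set.range t)
  rw [← IntermediateField.isAlgebraic_adjoin_iff_top]
  -- the residue field of the image lands in the field generated by the coordinates
  have hP : ∀ p : P, algebraMap R K (g p) ∈ F := fun p => by
    induction p using MvPolynomial.induction_on with
    | C a =>
      rw [← MvPolynomial.algebraMap_eq, g.commutes, ← IsScalarTower.algebraMap_apply A R K,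
        IsScalarTower.algebraMap_apply A k K]
      exact F.algebraMap_mem _
    | add p p' hp hp' => rw [map_add, map_add]; exact add_mem hp hp'
    | mul_X p i hp =>
      rw [map_mul, map_mul]
      exact mul_mem hp (IntermediateField.subset_adjoin k _ ⟨i, rfl⟩)
  have hy : ∀ z : y.ResidueField, algebraMap y.ResidueField K z ∈ F := fun z => by
    obtain ⟨a, b, -, rfl⟩ := IsFractionRing.div_surjective (P ⧸ y) z
    obtain ⟨a, rfl⟩ := Ideal.Quotient.mk_surjective a
    obtain ⟨b, rfl⟩ := Ideal.Quotient.mk_surjective b
    have h : ∀ p : P, algebraMap y.ResidueField K (algebraMap (P ⧸ y) y.ResidueField (Ideal.Quotient.mk y p)) =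
        algebraMap R K (g p) := fun p => by
      rw [← Ideal.Quotient.algebraMap_eq, ← IsScalarTower.algebraMap_apply P (P ⧸ y) y.ResidueField,
        ← IsScalarTower.algebraMap_apply P y.ResidueField K, IsScalarTower.algebraMap_apply P R K]
      rfl
    rw [map_div₀, h, h]
    exact div_mem (hP a) (hP b)
  letI : Algebra y.ResidueField F := ((algebraMap y.ResidueField K).codRestrict F.toSubalgebra.toSubring hy).toAlgebra
  haveI : IsScalarTower y.ResidueField F K := IsScalarTower.of_algebraMap_eq fun _ => rfl
  haveI : Module.Finite F K := Module.Finite.of_restrictScalars_finite y.ResidueField F K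
  exact Algebra.IsAlgebraic.of_finite F K

/-- The core: an etale neighbourhood of affine space. -/
theorem purityHolds_atPrime_of_etale [IsNoetherianRing A] {n : ℕ} (g : MvPolynomial (Fin n) A →ₐ[A] R) (hg : g.toRingHom.Etale)
    (q : Ideal R) [q.IsPrime] (p₀ : Ideal A) [p₀.IsPrime] (hq : q.comap (algebraMap A R) = p₀)
    (hdim : (1 : WithBot ℕ∞) ≤ ringKrullDim (Localization.AtPrime q ⧸
      p₀.map (algebraMap A (Localization.AtPrime q))))
    (hA : (2 : ℕ∞) ≤ LocCoh.depth (Localization.AtPrime p₀) (Localization.AtPrime p₀)) : FEt.PurityHolds (Localization.AtPrime q) := by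
  classical
  let k := p₀.ResidueField
  let K := q.ResidueField
  let B := Localization.AtPrime q
  let ψ : k →+* K := Ideal.ResidueField.lift p₀ (algebraMap A K) (fun a ha => by
    rw [RingHom.mem_ker, IsScalarTower.algebraMap_apply A R K, Ideal.algebraMap_residueField_eq_zero]
    exact hq.ge ha) fun a ha => by
    show IsUnit (algebraMap A K a)
    rw [isUnit_iff_ne_zero, IsScalarTower.algebraMap_apply A R K, Ne, Ideal.algebraMap_residueField_eq_zero]
    exact fun h => ha (hq.le h)
  letI : Algebra k K := ψ.toAlgebra
  haveI : IsScalarTower A k K := IsScalarTower.of_algebraMap_eq fun a =>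
    (Ideal.ResidueField.lift_algebraMap (I := p₀) (f := algebraMap A K) _ _ a).symm
  let t : Fin n → K := fun i => algebraMap R K (g (MvPolynomial.X i))
  haveI := isAlgebraic_adjoin_of_etale g hg q k
  obtain ⟨τ, hτ, hbasis⟩ := exists_isTranscendenceBasis_subset (R := k) (Set.range t)
  -- the chosen coordinates
  choose idx hidx using fun x : τ => hτ x.2
  have hinj : Function.Injective idx := fun x x' h => Subtype.ext (by rw [← hidx x, ← hidx x', h])
  haveI : Finite τ := Finite.of_injective idx hinj
  let T := MvPolynomial τ A
  let σ := {i : Fin n // i ∉ Set.range idx}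
  let e₀ : σ ⊕ τ ≃ Fin n := (Equiv.sumComm _ _).trans
    (((Equiv.ofInjective idx hinj).sumCongr (Equiv.refl σ)).trans (Equiv.Set.sumCompl (Set.range idx)))
  let e : MvPolynomial σ T ≃ₐ[A] MvPolynomial (Fin n) A :=
    (MvPolynomial.sumAlgEquiv A σ τ).symm.trans (MvPolynomial.renameEquiv A e₀)
  have he : (g.comp e.toAlgHom).toRingHom.Etale := by
    exact RingHom.Etale.respectsIso.2 g.toRingHom e.toRingEquiv hg
  let gT : T →+* R := (g.comp e.toAlgHom).toRingHom.comp MvPolynomial.C
  letI algT : Algebra T R := gT.toAlgebra
  letI : Algebra (MvPolynomial σ T) R := (g.comp e.toAlgHom).toRingHom.toAlgebra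
  haveI : IsScalarTower T (MvPolynomial σ T) R := IsScalarTower.of_algebraMap_eq fun _ => rfl
  haveI : IsScalarTower A T R := IsScalarTower.of_algebraMap_eq fun a => by
    show algebraMap A R a = g (e (MvPolynomial.C (algebraMap A T a)))
    rw [show (MvPolynomial.C (algebraMap A T a) : MvPolynomial σ T) = algebraMap A (MvPolynomial σ T) a from rfl,
      e.commutes, g.commutes]
  haveI : Algebra.Etale (MvPolynomial σ T) R := RingHom.etale_algebraMap.1 he
  haveI : Algebra.FormallySmooth T (MvPolynomial σ T) := inferInstance
  haveI : Algebra.FormallySmooth T R := Algebra.FormallySmooth.comp T (MvPolynomial σ T) R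
  -- the base
  let p := q.comap (algebraMap T R)
  have hp : p = p₀.map MvPolynomial.C := by
    have key : (algebraMap R K).comp (algebraMap T R) =
        (MvPolynomial.aeval (Subtype.val : τ → K)).toRingHom.comp (MvPolynomial.map (algebraMap A k)) := by
      refine MvPolynomial.ringHom_ext (fun a => ?_) fun x => ?_
      · simp only [RingHom.comp_apply, MvPolynomial.map_C, AlgHom.toRingHom_eq_coe, RingHom.coe_coe,
          MvPolynomial.aeval_C]
        rw [← MvPolynomial.algebraMap_eq, ← IsScalarTower.algebraMap_apply A T R,
          ← IsScalarTower.algebraMap_apply A R K, ← IsScalarTower.algebraMap_apply A k K]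
      · simp only [RingHom.comp_apply, MvPolynomial.map_X, AlgHom.toRingHom_eq_coe, RingHom.coe_coe,
          MvPolynomial.aeval_X]
        show algebraMap R K (g (e (MvPolynomial.C (MvPolynomial.X x)))) = _
        have he' : e (MvPolynomial.C (MvPolynomial.X x)) = MvPolynomial.X (idx x) := by
          show MvPolynomial.renameEquiv A e₀ ((MvPolynomial.sumAlgEquiv A σ τ).symm (MvPolynomial.C (MvPolynomial.X x))) = _
          refine (congrArg (MvPolynomial.renameEquiv A e₀) (MvPolynomial.sumAlgEquiv_symm_C_X A σ τ x)).trans ?_
          refine (MvPolynomial.rename_X _ _).trans ?_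
          simp [e₀]
          rfl
        rw [he']
        exact hidx x
    ext f
    show algebraMap T R f ∈ q ↔ _
    rw [← Ideal.algebraMap_residueField_eq_zero (I := q), show algebraMap R K (algebraMap T R f) =
      MvPolynomial.aeval (Subtype.val : τ → K) (MvPolynomial.map (algebraMap A k) f) from RingHom.congr_fun key f,
      map_eq_zero_iff _ hbasis.1, ← RingHom.mem_ker, MvPolynomial.ker_map]
    rw [show RingHom.ker (algebraMap A k) = p₀ from Ideal.ker_algebraMap_residueField p₀]
  let A' := Localization.AtPrime p
  letI : Algebra A' B := (Localization.localRingHom p q (algebraMap T R) rfl).toAlgebra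
  haveI : IsScalarTower T A' B := IsScalarTower.of_algebraMap_eq fun x => by
    rw [RingHom.algebraMap_toAlgebra, Localization.localRingHom_to_map, ← IsScalarTower.algebraMap_apply T R B]
  haveI : IsLocalHom (algebraMap A' B) := Localization.isLocalHom_localRingHom p q (algebraMap T R) rfl
  haveI : IsScalarTower A A' B := IsScalarTower.of_algebraMap_eq fun a => by
    rw [IsScalarTower.algebraMap_apply A T A', ← IsScalarTower.algebraMap_apply T A' B,
      ← IsScalarTower.algebraMap_apply A T B]
  haveI : IsNoetherianRing T := inferInstance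
  haveI : Algebra.FiniteType A R := by
    haveI : Algebra.FiniteType (MvPolynomial σ T) R := inferInstance
    haveI : Algebra.FiniteType A T := inferInstance
    exact Algebra.FiniteType.trans (R := A) (S := T) inferInstance
      (Algebra.FiniteType.trans (R := T) (S := MvPolynomial σ T) inferInstance inferInstance)
  haveI : IsNoetherianRing R := Algebra.FiniteType.isNoetherianRing A R
  haveI : Algebra.FormallySmooth R B := Algebra.FormallySmooth.of_isLocalization q.primeCompl
  haveI : Algebra.FormallySmooth T B := Algebra.FormallySmooth.comp T R B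
  haveI : Algebra.FormallySmooth A' B := Algebra.FormallySmooth.localization_base p.primeCompl
  have hfs : EGA41.IsFormallySmoothAdic A' (maximalIdeal A') B (maximalIdeal B) := fun C _ _ J hJ _ u _ =>
    ⟨Algebra.FormallySmooth.lift J hJ u, AlgHom.ext (Algebra.FormallySmooth.mk_lift J hJ u)⟩
  haveI : Module.Flat A' B := RegFS6.flat_of_fs
    (ParaF2.fs_of_isFormallySmoothAdic (IsLocalRing.map_maximalIdeal_le _) hfs)
  haveI : Module.Flat A A' := Module.Flat.trans A T A'
  let A₀ := Localization.AtPrime p₀
  have hpp : p₀ = p.comap (algebraMap A T) := by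
    rw [Ideal.comap_comap, ← IsScalarTower.algebraMap_eq A T R, hq]
  letI : Algebra A₀ A' := (Localization.localRingHom p₀ p (algebraMap A T) hpp).toAlgebra
  haveI : IsLocalHom (algebraMap A₀ A') := Localization.isLocalHom_localRingHom p₀ p (algebraMap A T) hpp
  haveI : IsScalarTower A A₀ A' := IsScalarTower.of_algebraMap_eq fun a => by
    rw [RingHom.algebraMap_toAlgebra, Localization.localRingHom_to_map, ← IsScalarTower.algebraMap_apply A T A']
  haveI : Module.Flat A₀ A' := (Module.flat_iff_of_isLocalization A₀ p₀.primeCompl A').2 inferInstance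
  have hm : maximalIdeal A' = p₀.map (algebraMap A A') := by
    refine (Localization.AtPrime.map_eq_maximalIdeal (I := p)).symm.trans
      ((congrArg (Ideal.map (algebraMap T A')) hp).trans ?_)
    rw [Ideal.map_map, IsScalarTower.algebraMap_eq A T A']
    rfl
  -- dimension
  have hd : ringKrullDim A' < ringKrullDim B := by
    have hfib : (maximalIdeal A').map (algebraMap A' B) = p₀.map (algebraMap A B) := by
      rw [hm, Ideal.map_map, ← IsScalarTower.algebraMap_eq A A' B]
    haveI : Nontrivial (B ⧸ (maximalIdeal A').map (algebraMap A' B)) := Ideal.Quotient.nontrivial_iff.2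
      (ne_top_of_le_ne_top (maximalIdeal.isMaximal B).ne_top (IsLocalRing.map_maximalIdeal_le _))
    haveI : IsLocalRing (B ⧸ (maximalIdeal A').map (algebraMap A' B)) :=
      IsLocalRing.of_surjective' _ Ideal.Quotient.mk_surjective
    rw [Cohen4.dim_eq_of_flat (A := A') (B := B)]
    have h1 : (1 : WithBot ℕ∞) ≤ ringKrullDim (B ⧸ (maximalIdeal A').map (algebraMap A' B)) := by
      rw [hfib]; exact hdim
    refine lt_of_lt_of_le ?_ (add_le_add le_rfl h1)
    obtain ⟨d, hd⟩ : ∃ d : ℕ, ringKrullDim A' = d := by
      obtain ⟨e, he⟩ := WithBot.ne_bot_iff_exists.1 (ringKrullDim_ne_bot (R := A'))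
      have htop := ringKrullDim_lt_top (R := A')
      obtain ⟨d, rfl⟩ := ENat.ne_top_iff_exists.1 (fun h : e = ⊤ => by rw [← he, h] at htop; exact lt_irrefl _ htop)
      exact ⟨d, he.symm⟩
    rw [hd]
    exact_mod_cast Nat.lt_succ_self d
  -- the residue extension is finite
  haveI : Module.Finite (ResidueField A') (ResidueField B) := by
    let kA := ResidueField A'
    haveI : IsScalarTower A kA K := IsScalarTower.of_algebraMap_eq fun a => by
      rw [IsScalarTower.algebraMap_apply A A' kA, IsScalarTower.algebraMap_apply A R K,
        IsScalarTower.algebraMap_apply R B K, ← IsScalarTower.algebraMap_apply A R B,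
        IsScalarTower.algebraMap_apply A A' B]
      rfl
    haveI : Algebra.EssFiniteType A K := Algebra.EssFiniteType.comp A R K
    haveI : Algebra.EssFiniteType kA K := Algebra.EssFiniteType.of_comp A kA K
    let φ : k →+* kA := Ideal.ResidueField.lift p₀ (algebraMap A kA) (fun a ha => by
      rw [RingHom.mem_ker, IsScalarTower.algebraMap_apply A A' kA]
      exact (residue_eq_zero_iff _).2 (hm.ge (Ideal.mem_map_of_mem _ ha))) fun a ha => by
      show IsUnit (algebraMap A kA a)
      rw [IsScalarTower.algebraMap_apply A A' kA, IsScalarTower.algebraMap_apply A A₀ A']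
      exact ((IsLocalization.map_units A₀ (⟨a, ha⟩ : p₀.primeCompl)).map _).map _
    letI : Algebra k kA := φ.toAlgebra
    haveI : IsScalarTower k kA K := IsScalarTower.of_algebraMap_eq' (Ideal.ResidueField.ringHom_ext
      (RingHom.ext fun a => by
        show algebraMap k K (algebraMap A k a) = algebraMap kA K (φ (algebraMap A k a))
        rw [← IsScalarTower.algebraMap_apply A k K, Ideal.ResidueField.lift_algebraMap,
          ← IsScalarTower.algebraMap_apply A kA K]))
    haveI := hbasis.isAlgebraic_field
    let L := IntermediateField.adjoin k (Set.range (Subtype.val : τ → K))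
    have hL : ∀ z : L, (z : K) ∈ (algebraMap kA K).range := by
      rintro ⟨z, hz⟩
      refine (IntermediateField.adjoin_le_iff (T := (IsScalarTower.toAlgHom k kA K).fieldRange)).2 ?_ hz
      rintro _ ⟨x, rfl⟩
      refine ⟨residue A' (algebraMap T A' (MvPolynomial.X x)), ?_⟩
      show algebraMap B K (algebraMap A' B (algebraMap T A' (MvPolynomial.X x))) = _
      rw [← IsScalarTower.algebraMap_apply T A' B, IsScalarTower.algebraMap_apply T R B,
        ← IsScalarTower.algebraMap_apply R B K]
      show algebraMap R K (g (e (MvPolynomial.C (MvPolynomial.X x)))) = _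
      have he' : e (MvPolynomial.C (MvPolynomial.X x)) = MvPolynomial.X (idx x) := by
        show MvPolynomial.renameEquiv A e₀ ((MvPolynomial.sumAlgEquiv A σ τ).symm (MvPolynomial.C (MvPolynomial.X x))) = _
        refine (congrArg (MvPolynomial.renameEquiv A e₀) (MvPolynomial.sumAlgEquiv_symm_C_X A σ τ x)).trans ?_
        refine (MvPolynomial.rename_X _ _).trans ?_
        simp [e₀]
        rfl
      rw [he']
      exact hidx x
    haveI : Algebra.IsAlgebraic kA K := ⟨fun z => by
      obtain ⟨f, hf0, hf⟩ := Algebra.IsAlgebraic.isAlgebraic (R := L) z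
      choose c hc using hL
      let c' : L →+* kA :=
        { toFun := c
          map_one' := (algebraMap kA K).injective (by rw [hc, map_one]; rfl)
          map_mul' := fun a b => (algebraMap kA K).injective (by rw [map_mul, hc, hc, hc]; rfl)
          map_zero' := (algebraMap kA K).injective (by rw [hc, map_zero]; rfl)
          map_add' := fun a b => (algebraMap kA K).injective (by rw [map_add, hc, hc, hc]; rfl) }
      refine ⟨f.map c', (Polynomial.map_ne_zero_iff c'.injective).2 hf0, ?_⟩
      rw [Polynomial.aeval_def, Polynomial.eval₂_map, show (algebraMap kA K).comp c' = algebraMap L K from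
        RingHom.ext hc, ← Polynomial.aeval_def, hf]⟩
    exact Algebra.finite_of_essFiniteType_of_isAlgebraic
  exact purityHolds_of_fs_finite_residue A' B hfs hd (ParaF2.le_depth_of_flat A₀ A' (n := 2) hA)

end Groth.Agent.PurX
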