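import Groth.Agent.PurX.ThickTower
import Groth.Agent.S0238

/-!
# The formal system of a cover of the punctured spectrum of `A ⧸ (f)`
-/

set_option autoImplicit false
set_option linter.style.haveILetI false
set_option linter.unusedSectionVars false

universe u

open CategoryTheory CategoryTheory.Limits AlgebraicGeometry TensorProduct IsLocalRing

set_option backward.isDefEq.respectTransparency false

noncomputable section

namespace Groth.Agent.PurX

variable {A : Type u} [CommRing A] (f : A)

/-- The ideals of the thickenings; the first is literally `(f)`. -/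
def thickIdeal : ℕ → Ideal A
  | 0 => Ideal.span {f}
  | n + 1 => Ideal.span {f ^ (n + 2)}

theorem thickIdeal_eq : ∀ n, thickIdeal f n = Ideal.span {f ^ (n + 1)}
  | 0 => by simp [thickIdeal]
  | _ + 1 => rfl

theorem thickIdeal_le (n : ℕ) : thickIdeal f (n + 1) ≤ thickIdeal f n := by
  rw [thickIdeal_eq, thickIdeal_eq]
  exact Ideal.span_singleton_le_span_singleton.2 (pow_dvd_pow f (Nat.le_succ _))

/-- The map to the spectrum from a thickening. -/
abbrev thickSpec (n : ℕ) :
    Spec (CommRingCat.of (A ⧸ thickIdeal f n)) ⟶ Spec (CommRingCat.of A) :=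
  Spec.map (CommRingCat.ofHom (Ideal.Quotient.mk (thickIdeal f n)))

instance (n : ℕ) : IsClosedImmersion (thickSpec f n) :=
  IsClosedImmersion.spec_of_surjective _ Ideal.Quotient.mk_surjective

variable [IsLocalRing A]

/-- The thickenings of `U₀` in the punctured spectrum. -/
abbrev thickU (n : ℕ) : Scheme.{u} := pullback (FEt.puncturedSpec A).ι (thickSpec f n)

/-- The transition maps between the thickenings. -/
def thickT (n : ℕ) : thickU f n ⟶ thickU f (n + 1) :=
  pullback.lift (pullback.fst _ _)
    (pullback.snd _ _ ≫ Spec.map (CommRingCat.ofHom (Ideal.Quotient.factor (thickIdeal_le f n)))) (by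
      rw [Category.assoc, ← Spec.map_comp, pullback.condition]
      congr 1)

theorem thickT_fst (n : ℕ) : thickT f n ≫ pullback.fst _ _ = pullback.fst _ _ := pullback.lift_fst _ _ _

theorem thickT_isPullback (n : ℕ) :
    IsPullback (thickT f n) (pullback.snd _ _)
      (pullback.fst (FEt.puncturedSpec A).ι (thickSpec f (n + 1)) ≫ (FEt.puncturedSpec A).ι) (thickSpec f n) := by
  refine ⟨⟨by rw [← Category.assoc, thickT_fst]; exact pullback.condition⟩,
    ⟨PullbackCone.IsLimit.mk _ (fun s => pullback.lift (s.fst ≫ pullback.fst _ _) s.snd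
        (by rw [Category.assoc, s.condition])) (fun s => ?_) (fun s => pullback.lift_snd _ _ _)
      fun s m h₁ h₂ => ?_⟩⟩
  · apply pullback.hom_ext
    · rw [Category.assoc, thickT_fst, pullback.lift_fst]
    · rw [← cancel_mono (thickSpec f (n + 1))]
      simp only [Category.assoc, ← pullback.condition]
      rw [← Category.assoc (thickT f n), thickT_fst, pullback.lift_fst_assoc, Category.assoc]
  · apply pullback.hom_ext
    · rw [pullback.lift_fst, ← h₁, Category.assoc, thickT_fst]
    · rw [pullback.lift_snd, h₂]

instance (n : ℕ) : IsClosedImmersion (thickT f n) := by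
  haveI : IsClosedImmersion (thickT f n ≫ pullback.fst _ _) := by rw [thickT_fst]; infer_instance
  exact IsClosedImmersion.of_comp _ (pullback.fst (FEt.puncturedSpec A).ι (thickSpec f (n + 1)))

instance (n : ℕ) : Surjective (thickT f n) := by
  refine ⟨fun y => ?_⟩
  let u := pullback.fst (FEt.puncturedSpec A).ι (thickSpec f (n + 1))
  have hy : (FEt.puncturedSpec A).ι (u y) ∈ Set.range (thickSpec f n).base := by
    have h1 : (FEt.puncturedSpec A).ι (u y) = thickSpec f (n + 1) (pullback.snd _ (thickSpec f (n + 1)) y) :=
      congrArg (fun t : thickU f (n + 1) ⟶ Spec (CommRingCat.of A) => t.base y) pullback.condition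
    rw [h1]
    have hf : f ^ (n + 2) ∈ (thickSpec f (n + 1) (pullback.snd _ (thickSpec f (n + 1)) y) : PrimeSpectrum A).asIdeal := by
      show Ideal.Quotient.mk (thickIdeal f (n + 1)) (f ^ (n + 2)) ∈ (pullback.snd (FEt.puncturedSpec A).ι (thickSpec f (n + 1)) y : PrimeSpectrum (A ⧸ thickIdeal f (n + 1))).asIdeal
      have h0 : Ideal.Quotient.mk (thickIdeal f (n + 1)) (f ^ (n + 2)) = 0 :=
        Ideal.Quotient.eq_zero_iff_mem.2 (Ideal.mem_span_singleton_self _)
      rw [h0]
      exact zero_mem _
    have hf' := Ideal.IsPrime.mem_of_pow_mem (PrimeSpectrum.isPrime _) _ hf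
    show _ ∈ Set.range (PrimeSpectrum.comap (Ideal.Quotient.mk (thickIdeal f n)))
    rw [range_comap_of_surjective _ _ Ideal.Quotient.mk_surjective, Ideal.mk_ker, PrimeSpectrum.mem_zeroLocus,
      SetLike.coe_subset_coe, thickIdeal_eq, Ideal.span_singleton_le_iff_mem]
    exact Ideal.pow_mem_of_mem _ hf' _ n.succ_pos
  have hr : u y ∈ Set.range (pullback.fst (FEt.puncturedSpec A).ι (thickSpec f n)).base := by
    rw [Scheme.Pullback.range_fst]
    exact hy
  obtain ⟨x, hx⟩ := hr
  refine ⟨x, u.isClosedEmbedding.injective ?_⟩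
  rw [← Scheme.Hom.comp_apply, thickT_fst]
  exact hx

instance (n : ℕ) : (FEt.restrict (thickT f n)).IsEquivalence := S0238.result _

variable (V₀ : FEt.Cat (thickU f 0))

/-- The lifts of a cover to the thickenings. -/
def thickV : ∀ n, FEt.Cat (thickU f n)
  | 0 => V₀
  | n + 1 => (FEt.restrict (thickT f n)).objPreimage (thickV n)

/-- The isomorphism between a lift restricted and the previous one. -/
def thickVIso (n : ℕ) : (FEt.restrict (thickT f n)).obj (thickV f V₀ (n + 1)) ≅ thickV f V₀ n :=
  (FEt.restrict (thickT f n)).objObjPreimageIso (thickV f V₀ n)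

/-- The transition maps of the lifts. -/
def thickC (n : ℕ) : (thickV f V₀ n).left ⟶ (thickV f V₀ (n + 1)).left :=
  (thickVIso f V₀ n).inv.left ≫ pullback.fst _ _

theorem thickC_isPullback (n : ℕ) :
    IsPullback (thickC f V₀ n) (thickV f V₀ n).hom (thickV f V₀ (n + 1)).hom (thickT f n) := by
  let e := thickVIso f V₀ n
  let el : (thickV f V₀ n).left ≅ pullback (thickV f V₀ (n + 1)).hom (thickT f n) :=
    ⟨e.inv.left, e.hom.left, congrArg (fun k => k.left) e.inv_hom_id, congrArg (fun k => k.left) e.hom_inv_id⟩
  exact (IsPullback.of_hasPullback (thickV f V₀ (n + 1)).hom (thickT f n)).of_iso el.symm (Iso.refl _) (Iso.refl _)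
    (Iso.refl _) (by
      simp only [Iso.refl_hom, Category.comp_id, thickC]
      exact (el.inv_hom_id_assoc _).symm) (by
      simp only [Iso.refl_hom, Category.comp_id]
      exact (MorphismProperty.Over.w e.hom).symm) (by simp) (by simp)

/-- The formal system of a cover. -/
def thickSystem : ThickSystem A f where
  I := thickIdeal f
  hI := thickIdeal_eq f
  X n := (thickV f V₀ n).left
  v n := (thickV f V₀ n).hom ≫ pullback.fst _ _
  affine n := by
    haveI : IsFinite (thickV f V₀ n).hom := (thickV f V₀ n).prop.1
    infer_instance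
  s n := (thickV f V₀ n).hom ≫ pullback.snd _ _
  fac n := by rw [Category.assoc, Category.assoc, pullback.condition]
  flat n := by
    haveI : Etale (thickV f V₀ n).hom := (thickV f V₀ n).prop.2
    infer_instance
  c := thickC f V₀
  isPullback n := by
    simpa only [Category.assoc] using (thickC_isPullback f V₀ n).paste_vert (thickT_isPullback f n)

end Groth.Agent.PurX
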