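import Groth.Agent.PurX.NhdEss
import Groth.Agent.PurX.TowerRingPro

/-!
# Finite models of the levels of the formal system of a cover
-/

set_option autoImplicit false
set_option linter.style.haveILetI false
set_option linter.unusedSectionVars false

universe u

open CategoryTheory CategoryTheory.Limits AlgebraicGeometry TensorProduct IsLocalRing
open Groth.Agent.Pi1Ext Groth.Agent.Pi1Ext.RegPurity

set_option backward.isDefEq.respectTransparency false

noncomputable section

namespace Groth.Agent.PurX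

variable {A : Type u} [CommRing A] [IsLocalRing A] [IsNoetherianRing A]

/-- The punctured spectrum of a quotient is the preimage of the punctured spectrum. -/
theorem exists_punctured_iso (I : Ideal A) [IsLocalRing (A ⧸ I)] :
    ∃ κ : (FEt.puncturedSpec (A ⧸ I) : Scheme.{u}) ≅
        pullback (FEt.puncturedSpec A).ι (Spec.map (CommRingCat.ofHom (Ideal.Quotient.mk I))),
      κ.hom ≫ pullback.snd _ _ = (FEt.puncturedSpec (A ⧸ I)).ι := by
  let B := A ⧸ I
  let q := Spec.map (CommRingCat.ofHom (Ideal.Quotient.mk I))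
  let jj : pullback (FEt.puncturedSpec A).ι q ⟶ Spec (CommRingCat.of B) := pullback.snd _ _
  haveI : IsOpenImmersion jj := MorphismProperty.pullback_snd _ _ inferInstance
  have hrange : Set.range (FEt.puncturedSpec B).ι.base = Set.range jj.base := by
    rw [show Set.range jj.base = _ from Scheme.Pullback.range_snd _ _, Scheme.Opens.range_ι, Scheme.Opens.range_ι]
    ext x
    show x ≠ closedPoint B ↔ PrimeSpectrum.comap (Ideal.Quotient.mk I) x ≠ closedPoint A
    refine not_congr ?_
    haveI : IsLocalHom (Ideal.Quotient.mk I) := Function.Surjective.isLocalHom _ Ideal.Quotient.mk_surjective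
    rw [← IsLocalRing.comap_closedPoint (f := Ideal.Quotient.mk I)]
    exact (PrimeSpectrum.comap_injective_of_surjective _ Ideal.Quotient.mk_surjective).eq_iff.symm
  exact ⟨IsOpenImmersion.isoOfRangeEq _ jj hrange, IsOpenImmersion.isoOfRangeEq_hom_fac _ _ _⟩

/-- An algebra isomorphic to a cover off the closed point maps to its functions. -/
theorem exists_model_map (I : Ideal A) [IsLocalRing (A ⧸ I)]
    (V : FEt.Cat (pullback (FEt.puncturedSpec A).ι (Spec.map (CommRingCat.ofHom (Ideal.Quotient.mk I)))))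
    [Algebra (A ⧸ I) Γ(V.left, ⊤)]
    (halg : CommRingCat.ofHom (algebraMap (A ⧸ I) Γ(V.left, ⊤)) = struct (V.hom ≫ pullback.snd _ _))
    {D : Type u} [CommRing D] [Algebra (A ⧸ I) D] [Module.Finite (A ⧸ I) D] {hD : EtOff (A ⧸ I) D}
    (κ : (FEt.puncturedSpec (A ⧸ I) : Scheme.{u}) ≅
      pullback (FEt.puncturedSpec A).ι (Spec.map (CommRingCat.ofHom (Ideal.Quotient.mk I))))
    (hκ : κ.hom ≫ pullback.snd _ _ = (FEt.puncturedSpec (A ⧸ I)).ι)
    (he : Nonempty (PuritySch.obj D (PuritySch.prop_rest D hD) ≅ (FEt.restrict κ.hom).obj V)) :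
    ∃ φ : D →ₐ[A ⧸ I] Γ(V.left, ⊤), ∀ b ∈ maximalIdeal (A ⧸ I), IsoAway φ b := by
  classical
  let B := A ⧸ I
  let X := V.left
  let s : X ⟶ Spec (CommRingCat.of B) := V.hom ≫ pullback.snd _ _
  obtain ⟨e⟩ := he
  let v₁ : pullback (PuritySch.sp B D) (FEt.puncturedSpec B).ι ⟶ pullback V.hom κ.hom := e.hom.left
  haveI : IsIso v₁ :=
    ⟨e.inv.left, congrArg (fun t => t.left) e.hom_inv_id, congrArg (fun t => t.left) e.inv_hom_id⟩
  let w : pullback (PuritySch.sp B D) (FEt.puncturedSpec B).ι ⟶ X := v₁ ≫ pullback.fst V.hom κ.hom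
  haveI : IsIso (pullback.fst V.hom κ.hom) := inferInstance
  haveI : IsIso w := inferInstance
  haveI : IsFinite (V.hom : X ⟶ _) := V.prop.1
  haveI : IsFinite (PuritySch.rest B D) := (PuritySch.prop_rest D hD).1
  haveI : CompactSpace (pullback (PuritySch.sp B D) (FEt.puncturedSpec B).ι :) :=
    QuasiCompact.compactSpace_of_compactSpace (PuritySch.rest B D)
  haveI : QuasiSeparatedSpace (pullback (PuritySch.sp B D) (FEt.puncturedSpec B).ι :) :=
    quasiSeparatedSpace_of_quasiSeparated (PuritySch.rest B D ≫ (FEt.puncturedSpec B).ι)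
  haveI : CompactSpace X := QuasiCompact.compactSpace_of_compactSpace (inv w)
  haveI : QuasiSeparatedSpace X := quasiSeparatedSpace_of_quasiSeparated (inv w)
  let E : X ⟶ Spec (CommRingCat.of D) := inv w ≫ pullback.fst _ _
  have hEsp : E ≫ PuritySch.sp B D = s := by
    have hv : v₁ ≫ pullback.snd V.hom κ.hom = PuritySch.rest B D := MorphismProperty.Over.w e.hom
    rw [Category.assoc, IsIso.inv_comp_eq, pullback.condition]
    have h2 : w ≫ s = v₁ ≫ (pullback.fst V.hom κ.hom ≫ V.hom) ≫ pullback.snd _ _ := by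
      simp only [w, s, Category.assoc]
    rw [h2, pullback.condition, Category.assoc, reassoc_of% hv]
    exact (congrArg (fun t => PuritySch.rest B D ≫ t) hκ).symm
  let φ : D →ₐ[B] Γ(X, ⊤) :=
    { toRingHom := (struct E).hom
      commutes' := fun a => by
        have h : CommRingCat.ofHom (algebraMap B D) ≫ struct E = struct s := by
          rw [← struct_comp_spec]
          exact congrArg struct hEsp
        rw [show struct s = CommRingCat.ofHom (algebraMap B Γ(X, ⊤)) from halg.symm] at h
        exact congr($h a) }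
  have hErange : (PuritySch.sp B D).base ⁻¹' (FEt.puncturedSpec B : Set (Spec (CommRingCat.of B))) ⊆ Set.range E.base := by
    rw [show Set.range E.base = Set.range (pullback.fst (PuritySch.sp B D) (FEt.puncturedSpec B).ι).base from by
      simp only [E, Scheme.Hom.comp_base, TopCat.coe_comp]
      exact Function.Surjective.range_comp (inv w).surjective _, Scheme.Pullback.range_fst, Scheme.Opens.range_ι]
  haveI : IsOpenImmersion E := inferInstance
  exact ⟨φ, fun b hb => isoAway_struct E hErange φ (fun y => rfl) hb⟩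

/-- The functions on a cover of the punctured spectrum of a quotient are modelled by a finite algebra. -/
theorem exists_model (I : Ideal A) [IsLocalRing (A ⧸ I)]
    (V : FEt.Cat (pullback (FEt.puncturedSpec A).ι (Spec.map (CommRingCat.ofHom (Ideal.Quotient.mk I)))))
    [Algebra (A ⧸ I) Γ(V.left, ⊤)]
    (halg : CommRingCat.ofHom (algebraMap (A ⧸ I) Γ(V.left, ⊤)) = struct (V.hom ≫ pullback.snd _ _)) :
    ∃ (D : Type u) (_ : CommRing D) (_ : Algebra (A ⧸ I) D) (_ : Module.Finite (A ⧸ I) D) (_ : EtOff (A ⧸ I) D)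
      (φ : D →ₐ[A ⧸ I] Γ(V.left, ⊤)), ∀ b ∈ maximalIdeal (A ⧸ I), IsoAway φ b := by
  obtain ⟨κ, hκ⟩ := exists_punctured_iso I
  obtain ⟨D, _, _, _, hD, he⟩ := PuritySch.exists_finite_model ((FEt.restrict κ.hom).obj V)
  exact ⟨D, inferInstance, inferInstance, inferInstance, hD, exists_model_map I V halg (hD := hD) κ hκ he⟩

/-- A regular element on a module modelled off `V(g)` by a finite one. -/
theorem exists_regular_of_model {ι : Type} [Finite ι] {g : ι → A} {D R : Type u} [AddCommGroup D] [Module A D]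
    [Module.Finite A D] [AddCommGroup R] [Module A R] (φ : D →ₗ[A] R)
    (hker : ∀ m, φ m = 0 → ∀ i, ∃ q : ℕ, g i ^ q • m = 0)
    (hsurj : ∀ (z : R) i, ∃ (q : ℕ) (m : D), g i ^ q • z = φ m)
    (hsep : ∀ z : R, (∀ i, ∃ k : ℕ, g i ^ k • z = 0) → z = 0) (t : ℕ) :
    ∃ x ∈ Ideal.span (Set.range g) ^ t, ∀ z : R, x • z = 0 → z = 0 := by
  classical
  let J := Ideal.span (Set.range g)
  let S : Finset (Ideal A) := (associatedPrimes.finite A D).toFinset.filter fun P => ¬ J ≤ P
  have hnot : ¬ ((J ^ t : Ideal A) : Set A) ⊆ ⋃ P ∈ (S : Set (Ideal A)), (P : Set A) := by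
    rw [Ideal.subset_union_prime (⊤ : Ideal A) ⊤ fun P hP _ _ =>
      IsAssociatedPrime.isPrime ((associatedPrimes.finite A D).mem_toFinset.1 (Finset.mem_filter.1 hP).1)]
    rintro ⟨P, hP, hle⟩
    obtain ⟨hP₁, hP₂⟩ := Finset.mem_filter.1 hP
    haveI := IsAssociatedPrime.isPrime ((associatedPrimes.finite A D).mem_toFinset.1 hP₁)
    exact hP₂ (Ideal.IsPrime.le_of_pow_le hle)
  obtain ⟨x, hx, hx'⟩ := Set.not_subset.1 hnot
  refine ⟨x, hx, fun z hz => hsep z fun i => ?_⟩
  obtain ⟨q, d, hd⟩ := hsurj z i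
  obtain ⟨q', hq'⟩ := hker (x • d) (by rw [map_smul, ← hd, smul_comm, hz, smul_zero]) i
  suffices h : ∃ N : ℕ, g i ^ N • d = 0 by
    obtain ⟨N, hN⟩ := h
    exact ⟨N + q, by rw [pow_add, mul_smul, hd, ← map_smul, hN, map_zero]⟩
  obtain ⟨N, hN⟩ := monotone_stabilizes_iff_noetherian.2 (inferInstance : IsNoetherian A A)
    ⟨fun N => LinearMap.ker (LinearMap.toSpanSingleton A D (g i ^ (N + q') • d)), fun a b hab r hr => by
      obtain ⟨c, rfl⟩ := Nat.exists_eq_add_of_le hab
      simp only [LinearMap.mem_ker, LinearMap.toSpanSingleton_apply] at hr ⊢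
      rw [add_right_comm, add_comm _ c, pow_add, mul_smul, smul_comm r, hr, smul_zero]⟩
  refine ⟨N + q', by_contra fun hne => hx' ?_⟩
  let e := g i ^ (N + q') • d
  let K := Submodule.span A {e}
  haveI : Nontrivial K := ⟨⟨⟨e, Submodule.mem_span_singleton_self e⟩, 0, fun h => hne (congrArg Subtype.val h)⟩⟩
  obtain ⟨P, hP, hle⟩ := exists_le_isAssociatedPrime_of_isNoetherianRing A
    (⟨e, Submodule.mem_span_singleton_self e⟩ : K) (fun h => hne (congrArg Subtype.val h))
  have hPD : P ∈ associatedPrimes A D := associatedPrimes.subset_of_injective (f := K.subtype) K.subtype_injective hP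
  have hxP : x ∈ P := by
    refine hle ?_
    have : x • e = 0 := by
      show x • g i ^ (N + q') • d = 0
      rw [pow_add, mul_smul, smul_comm x, smul_comm x, hq', smul_zero]
    simp [this]
  by_cases hJP : J ≤ P
  · exfalso
    have hP' := IsAssociatedPrime.isPrime hP
    rw [isAssociatedPrime_iff_exists_injective_linearMap] at hP
    obtain ⟨-, ψ, hψ⟩ := hP
    have hreg : ∀ y : K, g i • y = 0 → y = 0 := by
      rintro ⟨y, hy⟩ h
      obtain ⟨r, rfl⟩ := Submodule.mem_span_singleton.1 hy
      have h' : r • g i ^ (N + 1 + q') • d = 0 := by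
        have h2 : g i • r • e = 0 := congrArg Subtype.val h
        rw [show N + 1 + q' = 1 + (N + q') by omega, pow_add, pow_one, mul_smul, smul_comm]
        exact h2
      exact Subtype.ext (LinearMap.mem_ker.1 ((hN (N + 1) N.le_succ).ge (LinearMap.mem_ker.2 h')))
    refine hP'.ne_top ((Ideal.eq_top_iff_one _).2 (Ideal.Quotient.eq_zero_iff_mem.1 (hψ ?_)))
    rw [map_zero]
    refine hreg _ ?_
    rw [← map_smul, Algebra.smul_def, map_one, mul_one, Ideal.Quotient.algebraMap_eq,
      Ideal.Quotient.eq_zero_iff_mem.2 (hJP (Ideal.subset_span ⟨i, rfl⟩)), map_zero]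
  · exact Set.mem_biUnion (Finset.mem_filter.2 ⟨(associatedPrimes.finite A D).mem_toFinset.2 hPD, hJP⟩) hxP

end Groth.Agent.PurX
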