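import Groth.Agent.PurX.TowerRing
import Groth.Agent.PurX.Bridge
import Groth.Agent.PurX.GammaBC

/-!
# Formal systems of covers of the punctured spectrum give formal systems of algebras
-/

set_option autoImplicit false
set_option linter.style.haveILetI false
set_option linter.unusedSectionVars false

universe u

open CategoryTheory CategoryTheory.Limits AlgebraicGeometry TensorProduct IsLocalRing

set_option backward.isDefEq.respectTransparency false

noncomputable section

namespace Groth.Agent.PurX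

/-- A formal system of schemes over the punctured spectrum, flat over the thickenings of `V(f)`. -/
structure ThickSystem (A : Type u) [CommRing A] [IsLocalRing A] (f : A) where
  I : ℕ → Ideal A
  hI : ∀ n, I n = Ideal.span {f ^ (n + 1)}
  X : ℕ → Scheme.{u}
  v : ∀ n, X n ⟶ (FEt.puncturedSpec A : Scheme.{u})
  affine : ∀ n, IsAffineHom (v n)
  s : ∀ n, X n ⟶ Spec (CommRingCat.of (A ⧸ I n))
  fac : ∀ n, s n ≫ Spec.map (CommRingCat.ofHom (Ideal.Quotient.mk (I n))) = v n ≫ (FEt.puncturedSpec A).ι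
  flat : ∀ n, Flat (s n)
  c : ∀ n, X n ⟶ X (n + 1)
  isPullback : ∀ n, IsPullback (c n) (s n) (v (n + 1) ≫ (FEt.puncturedSpec A).ι)
    (Spec.map (CommRingCat.ofHom (Ideal.Quotient.mk (I n))))

namespace ThickSystem

variable {A : Type u} [CommRing A] [IsLocalRing A] {f : A} (S : ThickSystem A f)

/-- The map to the spectrum. -/
abbrev T (n : ℕ) : S.X n ⟶ Spec (CommRingCat.of A) := S.v n ≫ (FEt.puncturedSpec A).ι

/-- The global functions. -/
abbrev R (n : ℕ) : Type u := Γ(S.X n, ⊤)

instance algebraR (n : ℕ) : Algebra A (S.R n) := (struct (S.T n)).hom.toAlgebra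

theorem algebraMap_eq (n : ℕ) (a : A) : algebraMap A (S.R n) a = struct (S.T n) a := rfl

theorem c_T (n : ℕ) : S.c n ≫ S.T (n + 1) = S.T n := (S.isPullback n).w.trans (S.fac n)

/-- The transition maps. -/
def π (n : ℕ) : S.R (n + 1) →ₐ[A] S.R n :=
  { toRingHom := (S.c n).appTop.hom
    commutes' := fun a => by
      show (S.c n).appTop (struct (S.T (n + 1)) a) = struct (S.T n) a
      have h : struct (S.T (n + 1)) ≫ (S.c n).appTop = struct (S.T n) := by rw [← struct_comp, S.c_T]
      exact congr($h a) }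

theorem π_apply (n : ℕ) (y : S.R (n + 1)) : S.π n y = (S.c n).appTop y := rfl

/-- The piece over `D(a)`. -/
abbrev P (n : ℕ) (a : A) : (S.X n).Opens := (S.X n).basicOpen (algebraMap A (S.R n) a)

theorem P_eq (n : ℕ) (a : A) : S.P n a = S.T n ⁻¹ᵁ (Spec (CommRingCat.of A)).basicOpen ((Scheme.ΓSpecIso (CommRingCat.of A)).inv a) :=
  (Scheme.preimage_basicOpen_top (S.T n) _).symm

theorem mem_P (n : ℕ) (a : A) (x : S.X n) : x ∈ S.P n a ↔ a ∉ (S.T n x : PrimeSpectrum A).asIdeal := by
  rw [P_eq, Scheme.Hom.mem_preimage, basicOpen_eq_of_affine', Iso.inv_hom_id_apply]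
  exact Iff.rfl

theorem P_c (n : ℕ) (a : A) : S.c n ⁻¹ᵁ S.P (n + 1) a = S.P n a := by
  rw [P, Scheme.preimage_basicOpen_top, ← π_apply, AlgHom.commutes]

instance compact (n : ℕ) [IsNoetherianRing A] : CompactSpace (S.X n) :=
  haveI := S.affine n
  QuasiCompact.compactSpace_of_compactSpace (S.v n)

instance quasiSeparated (n : ℕ) : QuasiSeparatedSpace (S.X n) :=
  haveI := S.affine n
  quasiSeparatedSpace_of_quasiSeparated (S.v n ≫ (FEt.puncturedSpec A).ι)

theorem isAffineOpen_P (n : ℕ) {a : A} (ha : a ∈ maximalIdeal A) : IsAffineOpen (S.P n a) := by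
  haveI := S.affine n
  rw [P_eq, Scheme.Hom.comp_preimage]
  refine IsAffineOpen.preimage ?_ (S.v n)
  refine ((isAffineOpen_top _).basicOpen _).preimage_of_isOpenImmersion _ fun q hq => ?_
  show q ∈ Set.range (FEt.puncturedSpec A).ι.base
  rw [Scheme.Opens.range_ι]
  rintro rfl
  rw [basicOpen_eq_of_affine'] at hq
  simp at hq
  exact hq ha

variable [IsNoetherianRing A] {ι : Type} {g : ι → A}

instance isLocalization_P (n : ℕ) (a : A) :
    IsLocalization.Away (algebraMap A (S.R n) a) Γ(S.X n, S.P n a) :=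
  isLocalization_basicOpen_of_qcqs (isCompact_univ) (isQuasiSeparated_univ) _

/-- Restriction to the piece. -/
abbrev res (n : ℕ) (a : A) : S.R n →+* Γ(S.X n, S.P n a) :=
  ((S.X n).presheaf.map (homOfLE (le_top : S.P n a ≤ ⊤)).op).hom

theorem exists_res_eq (n : ℕ) (a : A) (w : Γ(S.X n, S.P n a)) :
    ∃ (k : ℕ) (y : S.R n), S.res n a y = S.res n a (algebraMap A _ a) ^ k * w := by
  obtain ⟨⟨y, ⟨_, k, rfl⟩⟩, hy⟩ := IsLocalization.surj (Submonoid.powers (algebraMap A (S.R n) a)) w
  refine ⟨k, y, hy.symm.trans ?_⟩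
  rw [mul_comm, ← map_pow]
  rfl

theorem exists_pow_of_res_eq (n : ℕ) (a : A) {x y : S.R n} (h : S.res n a x = S.res n a y) :
    ∃ k : ℕ, a ^ k • x = a ^ k • y := by
  obtain ⟨⟨_, k, rfl⟩, hk⟩ := IsLocalization.exists_of_eq (M := Submonoid.powers (algebraMap A (S.R n) a))
    (S := Γ(S.X n, S.P n a)) h
  exact ⟨k, by rw [Algebra.smul_def, Algebra.smul_def, map_pow]; exact hk⟩

theorem res_eq_of_pow (n : ℕ) (a : A) {x y : S.R n} {k : ℕ} (h : a ^ k • x = a ^ k • y) :
    S.res n a x = S.res n a y := by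
  have hu : IsUnit (S.res n a (algebraMap A _ a) ^ k) :=
    (IsLocalization.Away.algebraMap_isUnit (algebraMap A (S.R n) a) : IsUnit (algebraMap _ Γ(S.X n, S.P n a) _)).pow k
  refine hu.mul_left_cancel ?_
  rw [Algebra.smul_def, Algebra.smul_def] at h
  simpa only [map_mul, map_pow] using congrArg (S.res n a) h

variable (hg : Ideal.span (Set.range g) = maximalIdeal A)

include hg in
theorem mem_max (i : ι) : g i ∈ maximalIdeal A := hg ▸ Ideal.subset_span ⟨i, rfl⟩

include hg in
theorem iSup_P (n : ℕ) : ⨆ i, S.P n (g i) = ⊤ := by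
  refine top_le_iff.1 fun x _ => ?_
  rw [TopologicalSpace.Opens.mem_iSup]
  obtain ⟨i, hi⟩ := (mem_range_punctured hg (S.T n x)).1 ⟨S.v n x, rfl⟩
  exact ⟨i, (S.mem_P n _ x).2 hi⟩

theorem res_app_c (n : ℕ) (a : A) (y : S.R (n + 1)) :
    (S.c n).appLE (S.P (n + 1) a) (S.P n a) (S.P_c n a).ge (S.res (n + 1) a y) = S.res n a (S.π n y) := by
  have h : (S.X (n + 1)).presheaf.map (homOfLE (le_top : S.P (n + 1) a ≤ ⊤)).op ≫
      (S.c n).appLE (S.P (n + 1) a) (S.P n a) (S.P_c n a).ge =
      (S.c n).appTop ≫ (S.X n).presheaf.map (homOfLE (le_top : S.P n a ≤ ⊤)).op := by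
    rw [Scheme.Hom.map_appLE, Scheme.Hom.appLE, Scheme.Hom.appTop]
  exact congr($h y)

/-- Kernel of the restriction of a piece to the smaller thickening. -/
theorem exists_of_appLE_eq_zero (n : ℕ) {a : A} (ha : a ∈ maximalIdeal A) (w : Γ(S.X (n + 1), S.P (n + 1) a))
    (hw : (S.c n).appLE (S.P (n + 1) a) (S.P n a) (S.P_c n a).ge w = 0) :
    ∃ d, w = S.res (n + 1) a (algebraMap A _ (f ^ (n + 1))) * d := by
  let Q := Γ(S.X (n + 1), S.P (n + 1) a)
  let T' := S.T (n + 1)
  let q := Spec.map (CommRingCat.ofHom (Ideal.Quotient.mk (S.I n)))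
  have hUY : S.P n a = S.c n ⁻¹ᵁ S.P (n + 1) a ⊓ S.s n ⁻¹ᵁ ⊤ := by rw [S.P_c]; simp
  have hpo := (isIso_pushoutSection_iff (S.isPullback n) (US := ⊤) (UT := ⊤) (UX := S.P (n + 1) a) (UY := S.P n a)
    le_top le_top hUY).1 (isIso_pushoutSection_of_isAffineOpen (S.isPullback n) _ _ hUY
      (isAffineOpen_top _) (isAffineOpen_top _) (S.isAffineOpen_P (n + 1) ha))
  let φ : A →+* Q := (S.res (n + 1) a).comp (algebraMap A _)
  let K : Ideal Q := Ideal.span {φ (f ^ (n + 1))}
  let ψ : A ⧸ S.I n →+* Q ⧸ K := Ideal.Quotient.lift (S.I n) ((Ideal.Quotient.mk K).comp φ) (by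
    intro x hx
    rw [S.hI, Ideal.mem_span_singleton] at hx
    obtain ⟨b, rfl⟩ := hx
    rw [RingHom.comp_apply, Ideal.Quotient.eq_zero_iff_mem, map_mul]
    exact Ideal.mul_mem_right _ _ (Ideal.mem_span_singleton_self _))
  have hφ : T'.appLE ⊤ (S.P (n + 1) a) le_top =
      (Scheme.ΓSpecIso (CommRingCat.of A)).hom ≫ CommRingCat.ofHom φ := by
    rw [← cancel_epi (Scheme.ΓSpecIso (CommRingCat.of A)).inv, Iso.inv_hom_id_assoc]
    rfl
  have hq : q.appLE ⊤ ⊤ le_top = (Scheme.ΓSpecIso (CommRingCat.of A)).hom ≫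
      CommRingCat.ofHom (Ideal.Quotient.mk (S.I n)) ≫ (Scheme.ΓSpecIso (CommRingCat.of (A ⧸ S.I n))).inv := by
    rw [← Scheme.ΓSpecIso_naturality_assoc, Iso.hom_inv_id, Category.comp_id, Scheme.Hom.appTop,
      Scheme.Hom.app_eq_appLE]
    rfl
  have hw' : T'.appLE ⊤ (S.P (n + 1) a) le_top ≫ CommRingCat.ofHom (Ideal.Quotient.mk K) =
      q.appLE ⊤ ⊤ le_top ≫ (Scheme.ΓSpecIso (CommRingCat.of (A ⧸ S.I n))).hom ≫ CommRingCat.ofHom ψ := by
    rw [hφ, hq]
    simp only [Category.assoc, Iso.inv_hom_id_assoc]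
    congr 1
  have hd := congr($(hpo.inl_desc (CommRingCat.ofHom (Ideal.Quotient.mk K))
    ((Scheme.ΓSpecIso (CommRingCat.of (A ⧸ S.I n))).hom ≫ CommRingCat.ofHom ψ) hw') w)
  rw [CommRingCat.comp_apply, hw, map_zero] at hd
  have hmem : w ∈ K := Ideal.Quotient.eq_zero_iff_mem.1 hd.symm
  rw [Ideal.mem_span_singleton] at hmem
  exact hmem

set_option maxHeartbeats 1000000 in
/-- Annihilator of `f` on a piece. -/
theorem exists_of_f_mul_eq_zero (hnz : f ∈ nonZeroDivisors A) (n : ℕ) {a : A} (ha : a ∈ maximalIdeal A)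
    (w : Γ(S.X (n + 1), S.P (n + 1) a)) (hw : S.res (n + 1) a (algebraMap A _ f) * w = 0) :
    ∃ d, w = S.res (n + 1) a (algebraMap A _ (f ^ (n + 1))) * d := by
  haveI := S.flat (n + 1)
  let Q := Γ(S.X (n + 1), S.P (n + 1) a)
  let B := A ⧸ S.I (n + 1)
  let φ : B →+* Q :=
    ((Scheme.ΓSpecIso (CommRingCat.of B)).inv ≫ (S.s (n + 1)).appLE ⊤ (S.P (n + 1) a) le_top).hom
  have hflat : φ.Flat := RingHom.Flat.comp (RingHom.Flat.of_bijective
    (ConcreteCategory.bijective_of_isIso (Scheme.ΓSpecIso (CommRingCat.of B)).inv))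
    ((S.s (n + 1)).flat_appLE (isAffineOpen_top _) (S.isAffineOpen_P (n + 1) ha) le_top)
  have hφ : φ.comp (Ideal.Quotient.mk (S.I (n + 1))) = (S.res (n + 1) a).comp (algebraMap A _) := by
    have h1 : CommRingCat.ofHom (Ideal.Quotient.mk (S.I (n + 1))) ≫ (Scheme.ΓSpecIso (CommRingCat.of B)).inv ≫
        (S.s (n + 1)).appLE ⊤ (S.P (n + 1) a) le_top =
        struct (S.T (n + 1)) ≫ (S.X (n + 1)).presheaf.map (homOfLE (le_top : S.P (n + 1) a ≤ ⊤)).op := by
      rw [show S.T (n + 1) = S.s (n + 1) ≫ _ from (S.fac (n + 1)).symm, struct_comp_spec]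
      rw [struct, Category.assoc, Category.assoc, Scheme.Hom.appLE, Scheme.Hom.appTop]
    exact RingHom.ext fun x => congr($h1 x)
  letI := φ.toAlgebra
  haveI : Module.Flat B Q := hflat
  have hrel : ∑ _x : Fin 1, (Ideal.Quotient.mk (S.I (n + 1)) f : B) • w = 0 := by
    rw [Fin.sum_univ_one, Algebra.smul_def]
    exact (congrArg (· * w) (RingHom.congr_fun hφ f)).trans hw
  obtain ⟨k, co, z, hz, hco⟩ := Module.Flat.isTrivialRelation_of_sum_smul_eq_zero (R := B) (M := Q)
    (f := fun _ : Fin 1 => (Ideal.Quotient.mk (S.I (n + 1)) f : B)) (x := fun _ => w) hrel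
  have hb : ∀ j, ∃ b : A, co 0 j = Ideal.Quotient.mk (S.I (n + 1)) (f ^ (n + 1) * b) := fun j => by
    obtain ⟨b, hb⟩ := Ideal.Quotient.mk_surjective (co 0 j)
    have h0 := hco j
    beta_reduce at h0
    rw [Fin.sum_univ_one, ← hb, ← map_mul, Ideal.Quotient.eq_zero_iff_mem, S.hI, Ideal.mem_span_singleton] at h0
    obtain ⟨c, hc⟩ := h0
    have : b = f ^ (n + 1) * c := by
      rw [← sub_eq_zero]
      exact (mem_nonZeroDivisors_iff_right.1 hnz _ (by linear_combination hc))
    exact ⟨c, by rw [← hb, this]⟩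
  choose b hb using hb
  refine ⟨∑ j, S.res (n + 1) a (algebraMap A _ (b j)) * z j, ?_⟩
  rw [show w = ∑ j, co 0 j • z j from hz 0, Finset.mul_sum]
  refine Finset.sum_congr rfl fun j _ => ?_
  rw [hb, Algebra.smul_def, ← mul_assoc, ← map_mul, ← map_mul]
  exact congrArg (· * z j) (RingHom.congr_fun hφ _)

variable [Fintype ι]

include hg in
/-- The system of algebras. -/
theorem isTower (hnz : f ∈ nonZeroDivisors A) : IsTower g f S.R S.π where
  nil n x := by
    rw [Algebra.smul_def, algebraMap_eq, show struct (S.T n) = CommRingCat.ofHom (Ideal.Quotient.mk (S.I n)) ≫ struct (S.s n) by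
      rw [← struct_comp_spec, S.fac], CommRingCat.comp_apply]
    rw [show CommRingCat.ofHom (Ideal.Quotient.mk (S.I n)) (f ^ (n + 1)) = 0 from
      Ideal.Quotient.eq_zero_iff_mem.2 (by rw [S.hI]; exact Ideal.mem_span_singleton_self _), map_zero, zero_mul]
  sep n x hx := by
    refine TopCat.Sheaf.eq_of_locally_eq' (S.X n).sheaf (fun i => S.P n (g i)) ⊤ (fun i => homOfLE le_top)
      (S.iSup_P hg n).ge x 0 fun i => ?_
    obtain ⟨k, hk⟩ := hx i
    exact (S.res_eq_of_pow n (g i) (show g i ^ k • x = g i ^ k • (0 : S.R n) by rw [hk, smul_zero])).trans rfl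
  glue n k y hy := by
    classical
    have hu : ∀ i, IsUnit (S.res n (g i) (algebraMap A _ (g i ^ k))) := fun i => by
      rw [map_pow, map_pow]
      exact (IsLocalization.Away.algebraMap_isUnit (algebraMap A (S.R n) (g i)) :
        IsUnit (algebraMap _ Γ(S.X n, S.P n (g i)) _)).pow k
    let sf : ∀ i, Γ(S.X n, S.P n (g i)) := fun i => ↑(hu i).unit⁻¹ * S.res n (g i) (y i)
    obtain ⟨x, hx, -⟩ := TopCat.Sheaf.existsUnique_gluing' (S.X n).sheaf (fun i => S.P n (g i)) ⊤
      (fun i => homOfLE le_top) (S.iSup_P hg n).ge sf (fun i j => by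
        let r : ∀ (V : (S.X n).Opens), S.R n →+* Γ(S.X n, V) := fun V => ((S.X n).presheaf.map (homOfLE (le_top : V ≤ ⊤)).op).hom
        let V := S.P n (g i) ⊓ S.P n (g j)
        let ri := ((S.X n).presheaf.map (homOfLE (inf_le_left : V ≤ S.P n (g i))).op).hom
        let rj := ((S.X n).presheaf.map (homOfLE (inf_le_right : V ≤ S.P n (g j))).op).hom
        show ri (sf i) = rj (sf j)
        have ei : ∀ x, ri (S.res n (g i) x) = r V x := fun x => by
          show ((S.X n).presheaf.map _ ≫ (S.X n).presheaf.map _) x = _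
          rw [← Functor.map_comp]; rfl
        have ej : ∀ x, rj (S.res n (g j) x) = r V x := fun x => by
          show ((S.X n).presheaf.map _ ≫ (S.X n).presheaf.map _) x = _
          rw [← Functor.map_comp]; rfl
        have ui := (hu i).map ri
        have uj := (hu j).map rj
        refine (ui.mul uj).mul_left_cancel ?_
        have hi : ri (S.res n (g i) (algebraMap A _ (g i ^ k))) * ri (sf i) = r V (y i) := by
          rw [← map_mul, ← ei]
          simp only [sf, ← mul_assoc, IsUnit.mul_val_inv, one_mul]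
        have hj : rj (S.res n (g j) (algebraMap A _ (g j ^ k))) * rj (sf j) = r V (y j) := by
          rw [← map_mul, ← ej]
          simp only [sf, ← mul_assoc, IsUnit.mul_val_inv, one_mul]
        have hc := congrArg (r V) (hy i j)
        simp only [Algebra.smul_def, map_mul] at hc
        rw [← ei (algebraMap A _ (g i ^ k)), ← ej (algebraMap A _ (g j ^ k))] at hc
        linear_combination (rj (S.res n (g j) (algebraMap A _ (g j ^ k)))) * hi -
          (ri (S.res n (g i) (algebraMap A _ (g i ^ k)))) * hj + hc)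
    let x' : S.R n := x
    have h0 : ∀ i, ∃ p : ℕ, g i ^ p • y i = g i ^ p • g i ^ k • x' := fun i => S.exists_pow_of_res_eq n (g i) (by
      rw [Algebra.smul_def, map_mul, show S.res n (g i) x' = sf i from hx i]
      simp only [sf, ← mul_assoc, IsUnit.mul_val_inv, one_mul])
    choose p hp using h0
    refine ⟨x', ∑ i, p i, fun i => ?_⟩
    obtain ⟨d, hd⟩ := Nat.exists_eq_add_of_le (Finset.single_le_sum (f := p) (fun _ _ => Nat.zero_le _) (Finset.mem_univ i))
    rw [one_smul, hd, add_comm (p i) d, pow_add, mul_smul, hp i, smul_smul, smul_smul, ← pow_add, ← pow_add]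
    congr 2
    omega
  surj n i x := by
    haveI : IsClosedImmersion (S.c n) := by
      haveI : IsClosedImmersion (Spec.map (CommRingCat.ofHom (Ideal.Quotient.mk (S.I n)))) :=
        IsClosedImmersion.spec_of_surjective _ Ideal.Quotient.mk_surjective
      exact MorphismProperty.of_isPullback (P := @IsClosedImmersion) (S.isPullback n).flip inferInstance
    obtain ⟨w, hw⟩ := (S.c n).app_surjective _ (S.isAffineOpen_P (n + 1) (mem_max hg i))
      ((S.X n).presheaf.map (eqToHom (S.P_c n (g i))).op (S.res n (g i) x))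
    have hw' : (S.c n).appLE (S.P (n + 1) (g i)) (S.P n (g i)) (S.P_c n (g i)).ge w = S.res n (g i) x := by
      rw [Scheme.Hom.appLE, CommRingCat.comp_apply, hw]
      show ((S.X n).presheaf.map _ ≫ (S.X n).presheaf.map _) (S.res n (g i) x) = _
      rw [← Functor.map_comp]
      simp
    obtain ⟨k, y, hy⟩ := S.exists_res_eq (n + 1) (g i) w
    have : S.res n (g i) (S.π n y) = S.res n (g i) (g i ^ k • x) := by
      rw [← res_app_c, hy, map_mul, map_pow, res_app_c, hw', AlgHom.commutes, Algebra.smul_def, map_mul, map_pow,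
        map_pow]
    obtain ⟨p, hp⟩ := S.exists_pow_of_res_eq n (g i) this
    refine ⟨p + k, g i ^ p • y, ?_⟩
    rw [map_smul, hp, smul_smul, pow_add]
  ker n i y hy := by
    obtain ⟨d, hd⟩ := S.exists_of_appLE_eq_zero n (mem_max hg i) (S.res (n + 1) (g i) y)
      (by rw [res_app_c, hy, map_zero])
    obtain ⟨k, z, hz⟩ := S.exists_res_eq (n + 1) (g i) d
    obtain ⟨p, hp⟩ := S.exists_pow_of_res_eq (n + 1) (g i) (x := g i ^ k • y) (y := f ^ (n + 1) • z) (by
      rw [Algebra.smul_def, Algebra.smul_def, map_mul, map_mul, hd, hz, map_pow (algebraMap A (S.R (n + 1))) (g i),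
        map_pow]
      ring)
    exact ⟨p + k, g i ^ p • z, by rw [pow_add, mul_smul, hp, smul_comm]⟩
  ann n i y hy := by
    obtain ⟨d, hd⟩ := S.exists_of_f_mul_eq_zero hnz n (mem_max hg i) (S.res (n + 1) (g i) y)
      (by rw [← map_mul, ← Algebra.smul_def, hy, map_zero])
    obtain ⟨k, z, hz⟩ := S.exists_res_eq (n + 1) (g i) d
    obtain ⟨p, hp⟩ := S.exists_pow_of_res_eq (n + 1) (g i) (x := g i ^ k • y) (y := f ^ (n + 1) • z) (by
      rw [Algebra.smul_def, Algebra.smul_def, map_mul, map_mul, hd, hz, map_pow (algebraMap A (S.R (n + 1))) (g i),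
        map_pow]
      ring)
    exact ⟨p + k, g i ^ p • z, by rw [pow_add, mul_smul, hp, smul_comm]⟩

end ThickSystem

end Groth.Agent.PurX
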