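import Groth.Agent.PurX.Cech
import Mathlib.RingTheory.AdicCompletion.Basic
import Mathlib.RingTheory.Noetherian.Basic
import Mathlib.RingTheory.Finiteness.Basic

/-!
# Formal systems of modules off a closed set, elementwise

A `Tower g f` is the system of sections over `⋃ D(g i)` of a formal module along `f` on that open
for which `f` is regular. Only elementary properties of these sections are axiomatised; the limit is
shown to be finite, `f`-regular, and equal to `M 0` modulo `f` up to the image.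
-/

set_option autoImplicit false
set_option linter.unusedSectionVars false

universe u

namespace Groth.Agent.PurX

variable {A : Type u} [CommRing A] {ι : Type}

/-- Sections off `V(g)` of a formal module along `f`. -/
structure Tower (g : ι → A) (f : A) where
  M : ℕ → Type u
  [addCommGroup : ∀ n, AddCommGroup (M n)]
  [module : ∀ n, Module A (M n)]
  π : ∀ n, M (n + 1) →ₗ[A] M n
  nil : ∀ n (x : M n), f ^ (n + 1) • x = 0
  sep : ∀ n (x : M n), (∀ i, ∃ k : ℕ, g i ^ k • x = 0) → x = 0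
  glue : ∀ n, H0Killed g (M n) 1
  surj : ∀ n i (x : M n), ∃ (k : ℕ) (y : M (n + 1)), π n y = g i ^ k • x
  ker : ∀ n i (y : M (n + 1)), π n y = 0 → ∃ (k : ℕ) (z : M (n + 1)), g i ^ k • y = f ^ (n + 1) • z
  ann : ∀ n i (y : M (n + 1)), f • y = 0 → ∃ (k : ℕ) (z : M (n + 1)), g i ^ k • y = f ^ (n + 1) • z

namespace Tower

variable {g : ι → A} {f : A} (T : Tower g f)

instance (n : ℕ) : AddCommGroup (T.M n) := T.addCommGroup n

instance (n : ℕ) : Module A (T.M n) := T.module n

theorem eq_of_loc (n : ℕ) {x y : T.M n} (h : ∀ i, ∃ k : ℕ, g i ^ k • x = g i ^ k • y) : x = y := by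
  rw [← sub_eq_zero]
  exact T.sep n _ fun i => (h i).imp fun k hk => by rw [smul_sub, hk, sub_self]

theorem f_smul_eq_zero_of_π_eq_zero (n : ℕ) {y : T.M (n + 1)} (hy : T.π n y = 0) : f • y = 0 :=
  T.sep _ _ fun i => by
    obtain ⟨k, z, hz⟩ := T.ker n i y hy
    exact ⟨k, by rw [smul_comm, hz, smul_smul, ← pow_succ', T.nil]⟩

/-- Compatible families in `M n`, exactly. -/
theorem exists_glue (n : ℕ) (k : ℕ) (y : ι → T.M n) (hy : ∀ i j, g j ^ k • y i = g i ^ k • y j) :
    ∃ x : T.M n, ∀ i, ∃ p : ℕ, g i ^ p • y i = g i ^ (p + k) • x := by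
  obtain ⟨x, p, hx⟩ := T.glue n k y hy
  exact ⟨x, fun i => ⟨p, by have := hx i; rwa [one_smul, add_comm k p] at this⟩⟩

/-- Witness for `z = μ x`. -/
def IsMu (n : ℕ) (x : T.M n) (z : T.M (n + 1)) : Prop :=
  ∀ i, ∃ (k : ℕ) (y : T.M (n + 1)), T.π n y = g i ^ k • x ∧ g i ^ k • z = f • y

theorem IsMu.unique {n : ℕ} {x : T.M n} {z z' : T.M (n + 1)} (h : T.IsMu n x z) (h' : T.IsMu n x z') :
    z = z' := by
  refine T.eq_of_loc _ fun i => ?_
  obtain ⟨k, y, hy, hz⟩ := h i
  obtain ⟨k', y', hy', hz'⟩ := h' i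
  refine ⟨k + k', ?_⟩
  have h0 : f • (g i ^ k' • y - g i ^ k • y') = 0 := T.f_smul_eq_zero_of_π_eq_zero n (by
    rw [map_sub, map_smul, map_smul, hy, hy', smul_comm, sub_self])
  rw [smul_sub, sub_eq_zero, smul_comm, ← hz, smul_comm f, ← hz', smul_smul, smul_smul, ← pow_add, ← pow_add] at h0
  rwa [add_comm k' k] at h0

variable [Fintype ι]

theorem exists_isMu (n : ℕ) (x : T.M n) : ∃ z, T.IsMu n x z := by
  classical
  choose k y hy using fun i => T.surj n i x
  let K := ∑ i, k i
  have hyK : ∀ i, T.π n (g i ^ (K - k i) • y i) = g i ^ K • x := fun i => by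
    rw [map_smul, hy, smul_smul, ← pow_add,
      Nat.sub_add_cancel (Finset.single_le_sum (fun _ _ => Nat.zero_le _) (Finset.mem_univ i))]
  let Y : ι → T.M (n + 1) := fun i => f • g i ^ (K - k i) • y i
  obtain ⟨z, hz⟩ := T.exists_glue (n + 1) K Y fun i j => by
    rw [← sub_eq_zero, smul_comm _ f, smul_comm _ f, ← smul_sub]
    refine T.f_smul_eq_zero_of_π_eq_zero n ?_
    rw [map_sub, LinearMap.map_smul _ (g j ^ K), LinearMap.map_smul _ (g i ^ K), hyK, hyK, smul_comm, sub_self]
  refine ⟨z, fun i => ?_⟩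
  obtain ⟨p, hp⟩ := hz i
  refine ⟨p + K, g i ^ p • g i ^ (K - k i) • y i, ?_, ?_⟩
  · rw [map_smul, hyK, smul_smul, pow_add]
  · rw [← hp, smul_comm f]

/-- Multiplication by `f`, as a map to the next level. -/
noncomputable def μ (n : ℕ) : T.M n →ₗ[A] T.M (n + 1) where
  toFun x := (T.exists_isMu n x).choose
  map_add' x x' := by
    refine IsMu.unique T (T.exists_isMu n (x + x')).choose_spec fun i => ?_
    obtain ⟨k, y, hy, hz⟩ := (T.exists_isMu n x).choose_spec i
    obtain ⟨k', y', hy', hz'⟩ := (T.exists_isMu n x').choose_spec i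
    refine ⟨k + k', g i ^ k' • y + g i ^ k • y', ?_, ?_⟩
    · rw [map_add, map_smul, map_smul, hy, hy', smul_smul, smul_smul, ← pow_add, ← pow_add, smul_add,
        add_comm k' k]
    · rw [smul_add, smul_add, pow_add, mul_smul (g i ^ k), mul_smul (g i ^ k), hz', smul_comm _ (g i ^ k'), hz,
        smul_comm f, smul_comm f]
  map_smul' a x := by
    refine IsMu.unique T (T.exists_isMu n (a • x)).choose_spec fun i => ?_
    obtain ⟨k, y, hy, hz⟩ := (T.exists_isMu n x).choose_spec i
    refine ⟨k, a • y, by rw [map_smul, hy, smul_comm], ?_⟩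
    rw [RingHom.id_apply, smul_comm, hz, smul_comm]

theorem isMu (n : ℕ) (x : T.M n) : T.IsMu n x (T.μ n x) := (T.exists_isMu n x).choose_spec

theorem f_smul (n : ℕ) (y : T.M (n + 1)) : f • y = T.μ n (T.π n y) :=
  IsMu.unique T (fun i => ⟨0, y, by simp, by simp⟩) (T.isMu n _)

theorem π_μ (n : ℕ) (x : T.M n) : T.π n (T.μ n x) = f • x :=
  T.eq_of_loc n fun i => by
    obtain ⟨k, y, hy, hz⟩ := T.isMu n x i
    exact ⟨k, by rw [← map_smul, hz, map_smul, hy, smul_comm]⟩

theorem μ_injective (n : ℕ) : Function.Injective (T.μ n) := by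
  rw [injective_iff_map_eq_zero]
  intro x hx
  refine T.sep n x fun i => ?_
  obtain ⟨k, y, hy, hz⟩ := T.isMu n x i
  rw [hx, smul_zero] at hz
  obtain ⟨k', z, hz'⟩ := T.ann n i y hz.symm
  refine ⟨k' + k, ?_⟩
  rw [pow_add, mul_smul, ← hy, ← map_smul, hz', map_smul, T.nil]

theorem μ_π (n : ℕ) (x : T.M (n + 1)) : T.π (n + 1) (T.μ (n + 1) x) = T.μ n (T.π n x) := by
  rw [π_μ, f_smul]

/-- Projection to the bottom. -/
noncomputable def pr : ∀ n, T.M n →ₗ[A] T.M 0
  | 0 => LinearMap.id
  | n + 1 => pr n ∘ₗ T.π n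

/-- Multiplication by `f ^ n` from the bottom. -/
noncomputable def ν : ∀ n, T.M 0 →ₗ[A] T.M n
  | 0 => LinearMap.id
  | n + 1 => T.μ n ∘ₗ ν n

@[simp] theorem pr_zero (x : T.M 0) : T.pr 0 x = x := rfl

theorem pr_succ (n : ℕ) (x : T.M (n + 1)) : T.pr (n + 1) x = T.pr n (T.π n x) := rfl

theorem ν_succ (n : ℕ) (x : T.M 0) : T.ν (n + 1) x = T.μ n (T.ν n x) := rfl

theorem pow_smul (n : ℕ) (y : T.M n) : f ^ n • y = T.ν n (T.pr n y) := by
  induction n with
  | zero => simp [ν]
  | succ n ih => rw [ν_succ, pr_succ, ← ih, map_smul, pow_succ, mul_smul, f_smul]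

theorem ν_injective : ∀ n, Function.Injective (T.ν n)
  | 0 => fun _ _ h => h
  | n + 1 => (T.μ_injective n).comp (ν_injective n)

theorem π_ν (n : ℕ) (w : T.M 0) : T.π n (T.ν (n + 1) w) = 0 := by
  rw [ν_succ, π_μ, ← map_smul, show f • w = 0 by simpa using T.nil 0 w, map_zero]

/-- The kernel of a transition map is a copy of the bottom. -/
theorem exists_ν_of_π_eq_zero (n : ℕ) (y : T.M (n + 1)) (hy : T.π n y = 0) : ∃ w, T.ν (n + 1) w = y := by
  classical
  choose k z hz using fun i => T.ker n i y hy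
  let K := ∑ i, k i
  let W : ι → T.M 0 := fun i => g i ^ (K - k i) • T.pr (n + 1) (z i)
  have hW : ∀ i, T.ν (n + 1) (W i) = g i ^ K • y := fun i => by
    rw [map_smul, ← pow_smul, ← hz, smul_smul, ← pow_add,
      Nat.sub_add_cancel (Finset.single_le_sum (fun _ _ => Nat.zero_le _) (Finset.mem_univ i))]
  obtain ⟨w, hw⟩ := T.exists_glue 0 K W fun i j => T.ν_injective (n + 1) (by
    rw [LinearMap.map_smul _ (g j ^ K), LinearMap.map_smul _ (g i ^ K), hW, hW, smul_comm])
  refine ⟨w, T.eq_of_loc _ fun i => ?_⟩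
  obtain ⟨p, hp⟩ := hw i
  exact ⟨p + K, by rw [← map_smul, ← hp, map_smul, hW, smul_smul, ← pow_add]⟩

/-- The kernel of the projection to the bottom is the image of `μ`. -/
theorem exists_μ_of_pr_eq_zero : ∀ (n : ℕ) (y : T.M (n + 1)), T.pr (n + 1) y = 0 → ∃ x, T.μ n x = y := by
  classical
  intro n
  induction n with
  | zero => exact fun y hy => T.exists_ν_of_π_eq_zero 0 y hy
  | succ n ih =>
    intro y hy
    obtain ⟨x, hx⟩ := ih (T.π (n + 1) y) hy
    choose k u hu using fun i => T.surj n i x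
    have hloc : ∀ i, ∃ w, T.μ (n + 1) w = g i ^ k i • y := fun i => by
      obtain ⟨w, hw⟩ := T.exists_ν_of_π_eq_zero (n + 1) (g i ^ k i • y - T.μ (n + 1) (u i)) (by
        rw [map_sub, map_smul, μ_π, hu, map_smul, hx, sub_self])
      exact ⟨T.ν (n + 1) w + u i, by rw [map_add, ← ν_succ, hw, sub_add_cancel]⟩
    choose w hw using hloc
    let K := ∑ i, k i
    let W : ι → T.M (n + 1) := fun i => g i ^ (K - k i) • w i
    have hW : ∀ i, T.μ (n + 1) (W i) = g i ^ K • y := fun i => by
      rw [map_smul, hw, smul_smul, ← pow_add,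
        Nat.sub_add_cancel (Finset.single_le_sum (fun _ _ => Nat.zero_le _) (Finset.mem_univ i))]
    obtain ⟨v, hv⟩ := T.exists_glue (n + 1) K W fun i j => T.μ_injective (n + 1) (by
      rw [LinearMap.map_smul _ (g j ^ K), LinearMap.map_smul _ (g i ^ K), hW, hW, smul_comm])
    refine ⟨v, T.eq_of_loc _ fun i => ?_⟩
    obtain ⟨p, hp⟩ := hv i
    exact ⟨p + K, by rw [← map_smul, ← hp, map_smul, hW, smul_smul, ← pow_add]⟩

/-- The inverse limit. -/
def Lim : Submodule A (∀ n, T.M n) where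
  carrier := {s | ∀ n, T.π n (s (n + 1)) = s n}
  add_mem' ha hb n := by simp [ha n, hb n]
  zero_mem' n := by simp
  smul_mem' a x hx n := by simp [hx n]

/-- Evaluation of a compatible system. -/
def ev (n : ℕ) : T.Lim →ₗ[A] T.M n := LinearMap.proj n ∘ₗ T.Lim.subtype

theorem π_ev (n : ℕ) (s : T.Lim) : T.π n (T.ev (n + 1) s) = T.ev n s := s.2 n

theorem pr_ev : ∀ (n : ℕ) (s : T.Lim), T.pr n (T.ev n s) = T.ev 0 s
  | 0, _ => rfl
  | n + 1, s => by rw [pr_succ, π_ev, pr_ev n s]

theorem ext_ev {s t : T.Lim} (h : ∀ n, T.ev n s = T.ev n t) : s = t := Subtype.ext (funext h)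

theorem lim_regular {s : T.Lim} (h : f • s = 0) : s = 0 := by
  refine T.ext_ev fun n => ?_
  have := congrArg (T.ev (n + 1)) h
  rw [map_smul, f_smul, π_ev, map_zero] at this
  rw [map_zero]
  exact (map_eq_zero_iff _ (T.μ_injective n)).1 this

theorem exists_smul_of_ev_eq_zero {s : T.Lim} (h : T.ev 0 s = 0) : ∃ t : T.Lim, f • t = s := by
  choose x hx using fun n => T.exists_μ_of_pr_eq_zero n (T.ev (n + 1) s) (by rw [pr_ev, h])
  refine ⟨⟨x, fun n => T.μ_injective n ?_⟩, T.ext_ev fun n => ?_⟩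
  · rw [hx, ← μ_π, hx, π_ev]
  · show f • x n = T.ev n s
    rw [← π_μ, hx, π_ev]

theorem ev_f_smul_eq_zero (s : T.Lim) : T.ev 0 (f • s) = 0 := by
  rw [map_smul]
  simpa using T.nil 0 (T.ev 0 s)

/-- The limit is finite when its image at the bottom is. -/
theorem lim_finite_of_fg [IsPrecomplete (Ideal.span {f}) A] (hfg : (LinearMap.range (T.ev 0)).FG) :
    Module.Finite A T.Lim := by
  classical
  obtain ⟨q, v, hv⟩ := Submodule.fg_iff_exists_fin_generating_family.1 hfg
  choose c hc using fun t => LinearMap.mem_range.1 (hv ▸ Submodule.subset_span (Set.mem_range_self t) : v t ∈ LinearMap.range (T.ev 0))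
  refine Module.Finite.of_surjective (Fintype.linearCombination A c) fun s => ?_
  have hstep : ∀ s : T.Lim, ∃ (b : Fin q → A) (s' : T.Lim), s = Fintype.linearCombination A c b + f • s' := by
    intro s
    obtain ⟨b, hb⟩ := (Submodule.mem_span_range_iff_exists_fun A).1 (hv.ge ⟨s, rfl⟩)
    obtain ⟨t, ht⟩ := T.exists_smul_of_ev_eq_zero (s := s - Fintype.linearCombination A c b) (by
      simp [Fintype.linearCombination_apply, map_sum, hc, ← hb])
    exact ⟨b, t, by rw [ht, add_sub_cancel]⟩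
  choose b nx hnx using hstep
  let S : ℕ → T.Lim := fun m => nx^[m] s
  let a : ℕ → Fin q → A := fun m t => ∑ j ∈ Finset.range m, f ^ j * b (S j) t
  have ha : ∀ m, s = Fintype.linearCombination A c (a m) + f ^ m • S m := by
    intro m
    induction m with
    | zero => simp [a, S, Fintype.linearCombination_apply]
    | succ m ih =>
      have e : a (m + 1) = a m + f ^ m • b (S m) := by
        funext t
        simp [a, Finset.sum_range_succ]
      rw [e, map_add, map_smul, add_assoc, pow_succ, mul_smul, ← smul_add,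
        show S (m + 1) = nx (S m) from Function.iterate_succ_apply' nx m s, ← hnx, ← ih]
  have hcau : ∀ t {m n}, m ≤ n → a m t ≡ a n t [SMOD (Ideal.span {f} ^ m • ⊤ : Submodule A A)] := by
    intro t m n hmn
    rw [SModEq.sub_mem, smul_eq_mul, Ideal.mul_top, Ideal.span_singleton_pow]
    simp only [a]
    rw [← neg_sub, Finset.sum_range_sub_sum_range hmn]
    refine neg_mem (Ideal.sum_mem _ fun j hj => ?_)
    exact Ideal.mul_mem_right _ _ (Ideal.mem_span_singleton.2 (pow_dvd_pow f (Finset.mem_filter.1 hj).2))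
  choose L hL using fun t => IsPrecomplete.prec (I := Ideal.span {f}) (M := A) inferInstance (hcau t)
  refine ⟨L, T.ext_ev fun n => ?_⟩
  have hd : ∀ t, f ^ (n + 1) ∣ a (n + 1) t - L t := fun t => by
    have := hL t (n + 1)
    rwa [SModEq.sub_mem, smul_eq_mul, Ideal.mul_top, Ideal.span_singleton_pow, Ideal.mem_span_singleton] at this
  conv_rhs => rw [ha (n + 1)]
  rw [map_add, map_smul, T.nil, add_zero, ← sub_eq_zero, ← map_sub, ← map_sub,
    Fintype.linearCombination_apply, map_sum]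
  refine Finset.sum_eq_zero fun t _ => ?_
  obtain ⟨d, hd⟩ := hd t
  rw [Pi.sub_apply, show L t - a (n + 1) t = f ^ (n + 1) * -d by rw [← neg_sub, hd]; ring, map_smul, mul_smul, T.nil]

/-- The limit is finite. -/
theorem lim_finite [IsNoetherianRing A] [IsPrecomplete (Ideal.span {f}) A] [Module.Finite A (T.M 0)] :
    Module.Finite A T.Lim :=
  T.lim_finite_of_fg (IsNoetherian.noetherian _)

end Tower

end Groth.Agent.PurX
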