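import Groth.Agent.PurX.Tower
import Mathlib.Algebra.Module.LocalizedModule.Basic
import Mathlib.RingTheory.Ideal.AssociatedPrime.Finiteness

/-!
# Algebraization of formal systems off a closed set

If `H¹` of the bottom is killed by a power of the ideal, the obstructions to lifting stabilise, and
the limit maps onto the bottom up to a power of the ideal.
-/

set_option autoImplicit false
set_option linter.unusedSectionVars false

universe u

namespace Groth.Agent.PurX

variable {A : Type u} [CommRing A] {ι : Type}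

namespace Tower

variable {g : ι → A} {f : A} (T : Tower g f)

/-- Čech 1-cochains of the bottom. -/
abbrev C1 : Type u := ∀ i j, LocalizedModule (Submonoid.powers (g i * g j)) (T.M 0)

/-- A power as a member of the submonoid of powers. -/
abbrev pw (r : A) (k : ℕ) : Submonoid.powers r := ⟨r ^ k, Submonoid.mem_powers_iff _ _ |>.2 ⟨k, rfl⟩⟩

/-- The cochain with numerators `a` at level `k`. -/
noncomputable def cl (k : ℕ) : (ι → ι → T.M 0) →ₗ[A] T.C1 where
  toFun a i j := LocalizedModule.mk (a i j) (pw (g i * g j) k)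
  map_add' a b := funext fun i => funext fun j => by
    show _ = LocalizedModule.mk (a i j) _ + LocalizedModule.mk (b i j) _
    rw [LocalizedModule.mk_add_mk, ← smul_add, LocalizedModule.mk_cancel_common_left]
    rfl
  map_smul' r a := funext fun i => funext fun j => by
    simp only [Pi.smul_apply, RingHom.id_apply, LocalizedModule.smul'_mk]

theorem cl_scale (k p : ℕ) (a : ι → ι → T.M 0) :
    T.cl (k + p) (fun i j => (g i * g j) ^ p • a i j) = T.cl k a := by
  funext i j
  refine LocalizedModule.mk_eq.2 ⟨1, ?_⟩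
  simp only [one_smul, Submonoid.smul_def, smul_smul, ← pow_add]

theorem exists_of_cl_eq_zero [Fintype ι] {k : ℕ} {a : ι → ι → T.M 0} (h : T.cl k a = 0) :
    ∃ p : ℕ, ∀ i j, (g i * g j) ^ p • a i j = 0 := by
  classical
  have hp : ∀ e : ι × ι, ∃ p : ℕ, (g e.1 * g e.2) ^ p • a e.1 e.2 = 0 := fun e => by
    have := congrFun (congrFun h e.1) e.2
    obtain ⟨⟨_, p, rfl⟩, hp⟩ := LocalizedModule.mk_eq.1 (this.trans (LocalizedModule.zero_mk (1 : Submonoid.powers (g e.1 * g e.2))).symm)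
    exact ⟨p, by simpa [Submonoid.smul_def] using hp⟩
  choose p hp using hp
  refine ⟨∑ e, p e, fun i j => ?_⟩
  obtain ⟨d, hd⟩ := Nat.exists_eq_add_of_le (Finset.single_le_sum (f := p) (fun _ _ => Nat.zero_le _) (Finset.mem_univ (i, j)))
  rw [hd, add_comm, pow_add, mul_smul, hp (i, j), smul_zero]

/-- The coboundary numerators at level `k`. -/
def δn {M : Type u} [AddCommGroup M] [Module A M] (g : ι → A) (k : ℕ) : (ι → M) →ₗ[A] (ι → ι → M) where
  toFun w i j := g j ^ k • w i - g i ^ k • w j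
  map_add' v w := funext fun i => funext fun j => by simp only [Pi.add_apply, smul_add]; abel
  map_smul' r w := funext fun i => funext fun j => by
    simp only [Pi.smul_apply, RingHom.id_apply, smul_sub, smul_comm r]

theorem δn_scale {M : Type u} [AddCommGroup M] [Module A M] (k p : ℕ) (w : ι → M) :
    δn g (k + p) (fun i => g i ^ p • w i) = fun i j => (g i * g j) ^ p • δn g k w i j := by
  funext i j
  simp only [δn, LinearMap.coe_mk, AddHom.coe_mk, smul_sub, smul_smul]
  congr 2 <;> ring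

theorem cl_δn_scale (k p : ℕ) (w : ι → T.M 0) :
    T.cl (k + p) (δn g (k + p) fun i => g i ^ p • w i) = T.cl k (δn g k w) := by
  rw [δn_scale, cl_scale]

/-- Coboundaries. -/
noncomputable def cob : Submodule A T.C1 where
  carrier := {e | ∃ (k : ℕ) (w : ι → T.M 0), T.cl k (δn g k w) = e}
  add_mem' := by
    rintro _ _ ⟨k, v, rfl⟩ ⟨l, w, rfl⟩
    exact ⟨k + l, (fun i => g i ^ l • v i) + fun i => g i ^ k • w i, by
      rw [map_add, map_add, cl_δn_scale, add_comm k l, cl_δn_scale]⟩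
  zero_mem' := ⟨0, 0, by rw [map_zero, map_zero]⟩
  smul_mem' := by
    rintro r _ ⟨k, w, rfl⟩
    exact ⟨k, r • w, by rw [map_smul, map_smul]⟩

/-- `e` is the obstruction to lifting `x` one step. -/
def IsOb [Fintype ι] (n : ℕ) (x : T.M n) (e : T.C1) : Prop :=
  ∃ (k : ℕ) (y : ι → T.M (n + 1)) (a : ι → ι → T.M 0),
    (∀ i, T.π n (y i) = g i ^ k • x) ∧ (∀ i j, T.ν (n + 1) (a i j) = g j ^ k • y i - g i ^ k • y j) ∧
      T.cl k a = e

variable [Fintype ι]

theorem exists_isOb (n : ℕ) (x : T.M n) : ∃ e, T.IsOb n x e := by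
  classical
  choose k y hy using fun i => T.surj n i x
  let K := ∑ i, k i
  let Y : ι → T.M (n + 1) := fun i => g i ^ (K - k i) • y i
  have hY : ∀ i, T.π n (Y i) = g i ^ K • x := fun i => by
    rw [map_smul, hy, smul_smul, ← pow_add,
      Nat.sub_add_cancel (Finset.single_le_sum (fun _ _ => Nat.zero_le _) (Finset.mem_univ i))]
  choose a ha using fun i j => T.exists_ν_of_π_eq_zero n (g j ^ K • Y i - g i ^ K • Y j) (by
    rw [map_sub, LinearMap.map_smul _ (g j ^ K), LinearMap.map_smul _ (g i ^ K), hY, hY, smul_comm, sub_self])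
  exact ⟨_, K, Y, a, hY, ha, rfl⟩

theorem IsOb.scale {n : ℕ} {x : T.M n} {e : T.C1} (h : T.IsOb n x e) :
    ∃ k₀ : ℕ, ∀ p : ℕ, ∃ (y : ι → T.M (n + 1)) (a : ι → ι → T.M 0),
      (∀ i, T.π n (y i) = g i ^ (k₀ + p) • x) ∧
      (∀ i j, T.ν (n + 1) (a i j) = g j ^ (k₀ + p) • y i - g i ^ (k₀ + p) • y j) ∧ T.cl (k₀ + p) a = e := by
  obtain ⟨k, y, a, hy, ha, he⟩ := h
  refine ⟨k, fun p => ⟨fun i => g i ^ p • y i, fun i j => (g i * g j) ^ p • a i j, fun i => ?_, fun i j => ?_, ?_⟩⟩
  · rw [map_smul, hy, smul_smul, ← pow_add, add_comm]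
  · rw [map_smul, ha, smul_sub, smul_smul, smul_smul, smul_smul, smul_smul]
    congr 2 <;> ring
  · rw [cl_scale, he]

theorem IsOb.add {n : ℕ} {x x' : T.M n} {e e' : T.C1} (h : T.IsOb n x e) (h' : T.IsOb n x' e') :
    T.IsOb n (x + x') (e + e') := by
  obtain ⟨k, hk⟩ := IsOb.scale T h
  obtain ⟨l, hl⟩ := IsOb.scale T h'
  obtain ⟨y, a, hy, ha, he⟩ := hk l
  obtain ⟨y', a', hy', ha', he'⟩ := hl k
  rw [add_comm l k] at hy' ha' he'
  refine ⟨k + l, y + y', a + a', fun i => ?_, fun i j => ?_, by rw [map_add, he, he']⟩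
  · rw [Pi.add_apply, map_add, hy, hy', smul_add]
  · rw [Pi.add_apply, Pi.add_apply, map_add, ha, ha', Pi.add_apply, Pi.add_apply, smul_add, smul_add]
    abel

theorem IsOb.smul {n : ℕ} {x : T.M n} {e : T.C1} (r : A) (h : T.IsOb n x e) :
    T.IsOb n (r • x) (r • e) := by
  obtain ⟨k, y, a, hy, ha, he⟩ := h
  refine ⟨k, r • y, r • a, fun i => ?_, fun i j => ?_, by rw [map_smul, he]⟩
  · rw [Pi.smul_apply, map_smul, hy, smul_comm]
  · rw [Pi.smul_apply, Pi.smul_apply, map_smul, ha, smul_sub, Pi.smul_apply, Pi.smul_apply, smul_comm r, smul_comm r]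

theorem IsOb.zero (n : ℕ) : T.IsOb n 0 0 := ⟨0, 0, 0, by simp, by simp, map_zero _⟩

/-- A vanishing obstruction gives a lift. -/
theorem IsOb.exists_lift {n : ℕ} {x : T.M n} {e : T.C1} (h : T.IsOb n x e) (he : e ∈ T.cob) :
    ∃ x', T.π n x' = x := by
  obtain ⟨k, hk⟩ := IsOb.scale T h
  obtain ⟨l, w, hw⟩ := he
  obtain ⟨y, a, hy, ha, hea⟩ := hk l
  have h0 : T.cl (k + l) (a - δn g (k + l) fun i => g i ^ k • w i) = 0 := by
    rw [map_sub, hea, ← hw, sub_eq_zero, add_comm k l, cl_δn_scale]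
  obtain ⟨q, hq⟩ := T.exists_of_cl_eq_zero h0
  let K := k + l
  let y' : ι → T.M (n + 1) := fun i => g i ^ q • (y i - T.ν (n + 1) (g i ^ k • w i))
  have hπy : ∀ i, T.π n (y' i) = g i ^ (K + q) • x := fun i => by
    rw [map_smul, map_sub, π_ν, sub_zero, hy, smul_smul, ← pow_add, add_comm]
  obtain ⟨z, hz⟩ := T.exists_glue (n + 1) (K + q) y' fun i j => by
    have h1 := congrArg (T.ν (n + 1)) (hq i j)
    rw [map_smul, map_zero, Pi.sub_apply, Pi.sub_apply, map_sub, ha] at h1
    simp only [δn, LinearMap.coe_mk, AddHom.coe_mk, map_sub, map_smul, smul_sub, smul_smul] at h1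
    rw [← sub_eq_zero, ← h1]
    simp only [y', map_smul, smul_sub, smul_smul]
    rw [show g j ^ (K + q) * g i ^ q = (g i * g j) ^ q * g j ^ (k + l) by ring,
      show g i ^ (K + q) * g j ^ q = (g i * g j) ^ q * g i ^ (k + l) by ring,
      show g j ^ (K + q) * (g i ^ q * g i ^ k) = (g i * g j) ^ q * (g j ^ (k + l) * g i ^ k) by ring,
      show g i ^ (K + q) * (g j ^ q * g j ^ k) = (g i * g j) ^ q * (g i ^ (k + l) * g j ^ k) by ring]
    abel
  refine ⟨z, T.eq_of_loc n fun i => ?_⟩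
  obtain ⟨p, hp⟩ := hz i
  exact ⟨p + (K + q), by rw [← map_smul, ← hp, map_smul, hπy, smul_smul, ← pow_add]⟩

theorem IsOb.μ {n : ℕ} {x : T.M n} {e : T.C1} (h : T.IsOb n x e) : T.IsOb (n + 1) (T.μ n x) e := by
  obtain ⟨k, y, a, hy, ha, he⟩ := h
  refine ⟨k, fun i => T.μ (n + 1) (y i), a, fun i => ?_, fun i j => ?_, he⟩
  · rw [μ_π, hy, map_smul]
  · rw [ν_succ, ha, map_sub, LinearMap.map_smul _ (g j ^ k), LinearMap.map_smul _ (g i ^ k)]

/-- Obstructions occurring at level `n`. -/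
noncomputable def obs (n : ℕ) : Submodule A T.C1 where
  carrier := {e | ∃ x e', T.IsOb n x e' ∧ e - e' ∈ T.cob}
  add_mem' := by
    rintro a b ⟨x, e, h, h'⟩ ⟨y, d, k, k'⟩
    exact ⟨x + y, e + d, IsOb.add T h k, by rw [add_sub_add_comm]; exact add_mem h' k'⟩
  zero_mem' := ⟨0, 0, IsOb.zero T n, by rw [sub_zero]; exact zero_mem _⟩
  smul_mem' := by
    rintro r a ⟨x, e, h, h'⟩
    exact ⟨r • x, r • e, IsOb.smul T r h, by rw [← smul_sub]; exact Submodule.smul_mem _ _ h'⟩

theorem obs_mono : Monotone T.obs :=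
  monotone_nat_of_le_succ fun n _ ⟨_, e', h, h'⟩ => ⟨_, e', IsOb.μ T h, h'⟩

theorem cob_le_obs (n : ℕ) : T.cob ≤ T.obs n :=
  fun e he => ⟨0, 0, IsOb.zero T n, by rwa [sub_zero]⟩

section Bound

variable [IsNoetherianRing A] [Module.Finite A (T.M 0)] {t : ℕ}
  (hH1 : ∀ c ∈ Ideal.span (Set.range g) ^ t, H1Killed g (T.M 0) c)

include hH1

theorem smul_isOb_mem_cob {n : ℕ} {x : T.M n} {e : T.C1} (h : T.IsOb n x e) {c : A}
    (hc : c ∈ Ideal.span (Set.range g) ^ t) : c • e ∈ T.cob := by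
  obtain ⟨k, y, a, -, ha, rfl⟩ := h
  have hcoc : ∀ i j l, g l ^ k • a i j + g i ^ k • a j l = g j ^ k • a i l := fun i j l => by
    refine T.ν_injective (n + 1) ?_
    rw [map_add, map_smul, map_smul, map_smul, ha, ha, ha, smul_sub, smul_sub, smul_sub,
      smul_comm (g l ^ k) (g j ^ k), smul_comm (g i ^ k) (g l ^ k), smul_comm (g i ^ k) (g j ^ k)]
    abel
  obtain ⟨p, w, hw⟩ := hH1 c hc k a hcoc
  refine ⟨k + p, w, ?_⟩
  rw [← map_smul, ← T.cl_scale k p (c • a)]
  exact congrArg _ (funext fun i => funext fun j => (hw i j).symm)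

/-- An element of the ideal acting injectively on the bottom. -/
theorem exists_regular : ∃ x ∈ Ideal.span (Set.range g) ^ t, ∀ z : T.M 0, x • z = 0 → z = 0 := by
  classical
  let J := Ideal.span (Set.range g)
  have hne : ∀ P ∈ associatedPrimes A (T.M 0), ¬ J ^ t ≤ P := by
    intro P hP hle
    have hP' := IsAssociatedPrime.isPrime hP
    rw [AssociatedPrimes.mem_iff, isAssociatedPrime_iff_exists_injective_linearMap] at hP
    obtain ⟨-, φ, hφ⟩ := hP
    refine hP'.ne_top ((Ideal.eq_top_iff_one _).2 (Ideal.Quotient.eq_zero_iff_mem.1 (hφ ?_)))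
    rw [map_zero]
    refine T.sep 0 _ fun i => ⟨t, ?_⟩
    rw [← map_smul, Algebra.smul_def, map_one, mul_one, Ideal.Quotient.algebraMap_eq,
      Ideal.Quotient.eq_zero_iff_mem.2 (hle (Ideal.pow_mem_pow (Ideal.subset_span (Set.mem_range_self i)) t)),
      map_zero]
  have hfin := associatedPrimes.finite A (T.M 0)
  have hnot : ¬ ((J ^ t : Ideal A) : Set A) ⊆ ⋃ P ∈ (hfin.toFinset : Set (Ideal A)), (P : Set A) := by
    rw [Ideal.subset_union_prime (⊤ : Ideal A) ⊤ fun P hP _ _ =>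
      IsAssociatedPrime.isPrime (hfin.mem_toFinset.1 hP)]
    rintro ⟨P, hP, hle⟩
    exact hne P (hfin.mem_toFinset.1 hP) hle
  obtain ⟨x, hx, hx'⟩ := Set.not_subset.1 hnot
  refine ⟨x, hx, fun z hz => by_contra fun hz0 => hx' ?_⟩
  obtain ⟨P, hP, hle⟩ := exists_le_isAssociatedPrime_of_isNoetherianRing A z hz0
  refine Set.mem_biUnion (hfin.mem_toFinset.2 hP) (hle ?_)
  simp [hz]

/-- All obstructions live, modulo coboundaries, in the image of a finite module. -/
theorem exists_finite_bound : ∃ (P : Type u) (_ : AddCommGroup P) (_ : Module A P) (_ : Module.Finite A P)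
    (φ : P →ₗ[A] T.C1), ∀ n, T.obs n ≤ LinearMap.range φ ⊔ T.cob := by
  classical
  obtain ⟨x, hx, hreg⟩ := T.exists_regular hH1
  have hinj : Function.Injective (fun e : T.C1 => x • e) := by
    intro e e' h
    funext i j
    have hL : Function.Injective (fun z : LocalizedModule (Submonoid.powers (g i * g j)) (T.M 0) => x • z) := by
      intro z z' hzz
      revert hzz
      induction z using LocalizedModule.induction_on with
      | h m s =>
        induction z' using LocalizedModule.induction_on with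
        | h m' s' =>
          intro hzz
          simp only [LocalizedModule.smul'_mk, LocalizedModule.mk_eq] at hzz ⊢
          obtain ⟨u, hu⟩ := hzz
          refine ⟨u, ?_⟩
          rw [← sub_eq_zero]
          refine hreg _ ?_
          simp only [Submonoid.smul_def] at hu ⊢
          rw [smul_sub, smul_comm x, smul_comm x, smul_comm x, smul_comm x, hu, sub_self]
    exact hL (congrFun (congrFun h i) j)
  let W : (ι → T.M 0) →ₗ[A] T.C1 := T.cl t ∘ₗ δn g t
  let P : Submodule A (ι → T.M 0) := (LinearMap.range (LinearMap.lsmul A T.C1 x)).comap W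
  let div := LinearEquiv.ofInjective (LinearMap.lsmul A T.C1 x) hinj
  let φ : P →ₗ[A] T.C1 := div.symm.toLinearMap ∘ₗ (W.restrict fun m hm => hm)
  have hφ : ∀ m : P, x • φ m = W m := fun m => congrArg Subtype.val (div.apply_symm_apply ⟨W m, m.2⟩)
  refine ⟨P, inferInstance, inferInstance, inferInstance, φ, fun n e he => ?_⟩
  obtain ⟨x₀, e', hob, hd⟩ := he
  suffices he' : e' ∈ LinearMap.range φ ⊔ T.cob by
    simpa using add_mem (le_sup_right (a := LinearMap.range φ) hd) he'
  obtain ⟨N₀, w₀, hw₀⟩ := T.smul_isOb_mem_cob hH1 hob hx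
  choose Nl wl hwl using fun l => T.smul_isOb_mem_cob hH1 hob
    (Ideal.pow_mem_pow (Ideal.subset_span (Set.mem_range_self l)) t)
  let N := N₀ + ∑ l, Nl l
  let w : ι → T.M 0 := fun i => g i ^ (∑ l, Nl l) • w₀ i
  let v : ι → ι → T.M 0 := fun l i => g i ^ (N - Nl l) • wl l i
  have hw : T.cl N (δn g N w) = x • e' := by rw [cl_δn_scale, hw₀]
  have hv : ∀ l, T.cl N (δn g N (v l)) = g l ^ t • e' := fun l => by
    obtain ⟨d, hd⟩ := Nat.exists_eq_add_of_le (show Nl l ≤ N from
      le_add_left (Finset.single_le_sum (fun _ _ => Nat.zero_le _) (Finset.mem_univ l)))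
    simp only [v, hd, Nat.add_sub_cancel_left]
    rw [cl_δn_scale, hwl]
  have hm : ∀ l, ∃ (m : T.M 0) (r : ℕ), g l ^ r • (g l ^ t • w l - x • v l l) = g l ^ (r + N) • m := by
    intro l
    have h0 : T.cl N (δn g N (g l ^ t • w - x • v l)) = 0 := by
      rw [map_sub, map_sub, map_smul, map_smul, map_smul, map_smul, hw, hv, smul_comm, sub_self]
    obtain ⟨q, hq⟩ := T.exists_of_cl_eq_zero h0
    obtain ⟨m, hm⟩ := T.exists_glue 0 (N + q) (fun i => g i ^ q • (g l ^ t • w - x • v l) i) fun i j => by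
      rw [← sub_eq_zero]
      exact (congrFun (congrFun (δn_scale N q (g l ^ t • w - x • v l)) i) j).trans (hq i j)
    obtain ⟨p, hp⟩ := hm l
    exact ⟨m, p + q, by rw [pow_add, mul_smul, show p + q + N = p + (N + q) by omega]; exact hp⟩
  choose m r hmr using hm
  let R := ∑ l, r l
  have hR : ∀ l, g l ^ (R + t) • w l = g l ^ (R + N) • m l + x • g l ^ R • v l l := fun l => by
    obtain ⟨d, hd⟩ := Nat.exists_eq_add_of_le (Finset.single_le_sum (f := r) (fun _ _ => Nat.zero_le _) (Finset.mem_univ l))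
    have := congrArg (fun z => g l ^ d • z) (hmr l)
    simp only [smul_sub, smul_smul] at this
    rw [sub_eq_iff_eq_add] at this
    simp only [R, hd, smul_smul]
    rw [show g l ^ (r l + d + t) = g l ^ d * (g l ^ r l * g l ^ t) by ring, this]
    congr 2 <;> ring
  let u : ι → T.M 0 := fun l => g l ^ R • v l l
  have key : x • (e' - T.cl (N + R + t) (δn g (N + R + t) u)) = W m := by
    have h1 : T.cl (N + (R + t)) (δn g (N + (R + t)) fun l => g l ^ (R + t) • w l) = x • e' := by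
      rw [cl_δn_scale, hw]
    have h2 : (fun l => g l ^ (R + t) • w l) = (fun l => g l ^ (R + N) • m l) + x • u := funext hR
    rw [h2, map_add, map_add, map_smul, map_smul, ← add_assoc N R t] at h1
    rw [smul_sub, ← h1, add_sub_cancel_right, show N + R + t = t + (R + N) by omega]
    exact T.cl_δn_scale t (R + N) m
  have hmP : m ∈ P := ⟨_, key⟩
  rw [← sub_add_cancel e' (T.cl (N + R + t) (δn g (N + R + t) u))]
  refine add_mem (le_sup_left (b := T.cob) ⟨⟨m, hmP⟩, hinj ?_⟩) (le_sup_right (a := LinearMap.range φ) ⟨_, u, rfl⟩)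
  show x • φ ⟨m, hmP⟩ = _
  rw [hφ]
  exact key.symm

theorem exists_obs_stable : ∃ m₀, ∀ n, T.obs n ≤ T.obs m₀ := by
  obtain ⟨P, _, _, _, φ, hφ⟩ := T.exists_finite_bound hH1
  obtain ⟨m₀, hm₀⟩ := monotone_stabilizes_iff_noetherian.2 (inferInstance : IsNoetherian A P)
    ⟨fun n => (T.obs n).comap φ, fun a b hab => Submodule.comap_mono (T.obs_mono hab)⟩
  refine ⟨m₀, fun n => (T.obs_mono (le_max_left n m₀)).trans fun e he => ?_⟩
  obtain ⟨_, ⟨p, rfl⟩, c, hc, rfl⟩ := Submodule.mem_sup.1 (hφ _ he)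
  refine add_mem ?_ (T.cob_le_obs _ hc)
  have hp : p ∈ (T.obs (max n m₀)).comap φ := by
    simpa using sub_mem he (T.cob_le_obs _ hc)
  exact (hm₀ _ (le_max_right n m₀)).ge hp

end Bound

/-- Iterated `μ`. -/
noncomputable def μit (m : ℕ) : ∀ d, T.M m →ₗ[A] T.M (m + d)
  | 0 => LinearMap.id
  | d + 1 => T.μ (m + d) ∘ₗ μit m d

theorem IsOb.μit {m : ℕ} {x : T.M m} {e : T.C1} (h : T.IsOb m x e) :
    ∀ d, T.IsOb (m + d) (T.μit m d x) e
  | 0 => h
  | d + 1 => IsOb.μ T (IsOb.μit h d)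

theorem exists_pow_smul_μit (m : ℕ) (x : T.M m) : ∀ d i, ∃ (k : ℕ) (u : T.M (m + d)), g i ^ k • T.μit m d x = f ^ d • u
  | 0, i => ⟨0, x, by simp [Tower.μit]⟩
  | d + 1, i => by
    obtain ⟨k, u, hu⟩ := exists_pow_smul_μit m x d i
    obtain ⟨k', y, -, hy⟩ := T.isMu (m + d) u i
    refine ⟨k' + k, y, ?_⟩
    show g i ^ (k' + k) • T.μ (m + d) (T.μit m d x) = _
    rw [pow_add, mul_smul, ← map_smul (T.μ (m + d)), hu, map_smul, smul_comm, hy, pow_succ, mul_smul]

/-- Iterated transition maps. -/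
noncomputable def down {n N : ℕ} (h : n ≤ N) : T.M N →ₗ[A] T.M n :=
  Nat.leRecOn (C := fun k => T.M k →ₗ[A] T.M n) h (fun {k} φ => φ ∘ₗ T.π k) LinearMap.id

theorem down_self (n : ℕ) : T.down (le_refl n) = LinearMap.id :=
  Nat.leRecOn_self (C := fun k => T.M k →ₗ[A] T.M n) _

theorem down_succ {n N : ℕ} (h : n ≤ N) : T.down (h.trans N.le_succ) = T.down h ∘ₗ T.π N :=
  Nat.leRecOn_succ (C := fun k => T.M k →ₗ[A] T.M n) h _

theorem π_down {n N : ℕ} (h : n + 1 ≤ N) : T.π n ∘ₗ T.down h = T.down (Nat.le_of_succ_le h) := by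
  induction N, h using Nat.le_induction with
  | base => rw [down_self, down_succ T (le_refl n), down_self]; rfl
  | succ N hN ih => rw [down_succ T hN, ← LinearMap.comp_assoc, ih, down_succ T (Nat.le_of_succ_le hN)]

theorem pr_eq_down : ∀ N, T.pr N = T.down (Nat.zero_le N)
  | 0 => (T.down_self 0).symm
  | N + 1 => by rw [down_succ T (Nat.zero_le N), ← pr_eq_down N]; rfl

/-- Up to a power of the ideal, the bottom comes from the limit. -/
theorem exists_pow_le_range_ev [IsNoetherianRing A] [Module.Finite A (T.M 0)] {t : ℕ}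
    (hH1 : ∀ c ∈ Ideal.span (Set.range g) ^ t, H1Killed g (T.M 0) c) :
    ∃ E : ℕ, ∀ c ∈ Ideal.span (Set.range g) ^ E, ∀ z : T.M 0, c • z ∈ LinearMap.range (T.ev 0) := by
  obtain ⟨m, hm⟩ := T.exists_obs_stable hH1
  have hkill : ∀ n, ∀ c ∈ Ideal.span (Set.range g) ^ (t * n), ∀ z : T.M 0, c • z ∈ LinearMap.range (T.pr n) := by
    intro n
    induction n with
    | zero => exact fun c _ z => ⟨c • z, rfl⟩
    | succ n ih =>
      intro c hc z
      rw [mul_add, mul_one, pow_add] at hc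
      refine Submodule.mul_induction_on hc (fun a ha b hb => ?_) fun a b ha hb => by rw [add_smul]; exact add_mem ha hb
      obtain ⟨x, hx⟩ := ih a ha z
      obtain ⟨e, he⟩ := T.exists_isOb n x
      obtain ⟨x', hx'⟩ := IsOb.exists_lift T (IsOb.smul T b he) (T.smul_isOb_mem_cob hH1 he hb)
      exact ⟨x', by rw [pr_succ, hx', map_smul, hx, smul_smul, mul_comm]⟩
  refine ⟨t * (m + 1), fun c hc z => ?_⟩
  obtain ⟨x₁, hx₁⟩ := hkill (m + 1) c hc z
  have hnext : ∀ d (x : T.M (m + d)), ∃ (x' : T.M (m + d + 1)) (y : T.M m), T.π (m + d) x' = x - T.μit m d y := by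
    intro d x
    obtain ⟨e, he⟩ := T.exists_isOb (m + d) x
    obtain ⟨y, e', he', hd⟩ := hm (m + d) (⟨x, e, he, by rw [sub_self]; exact zero_mem _⟩ : e ∈ T.obs (m + d))
    obtain ⟨x', hx'⟩ := IsOb.exists_lift T (IsOb.add T he (IsOb.smul T (-1) (IsOb.μit T he' d)))
      (by simpa [sub_eq_add_neg] using hd)
    exact ⟨x', y, by rw [hx', neg_one_smul, sub_eq_add_neg]⟩
  choose nx ny hnx using hnext
  let zs : ∀ n, T.M (m + (n + 1)) := fun n => Nat.rec x₁ (fun k x => nx (k + 1) x) n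
  have hle : ∀ n, n ≤ m + (n + 1) := fun n => by omega
  let s : ∀ n, T.M n := fun n => T.down (hle n) (zs n)
  refine ⟨⟨s, fun n => ?_⟩, ?_⟩
  · have e1 := LinearMap.congr_fun (T.π_down (hle (n + 1))) (zs (n + 1))
    rw [LinearMap.comp_apply] at e1
    show T.π n (T.down (hle (n + 1)) (zs (n + 1))) = T.down (hle n) (zs n)
    rw [e1, show T.down (Nat.le_of_succ_le (hle (n + 1))) = _ from down_succ T (hle n), LinearMap.comp_apply,
      show T.π (m + (n + 1)) (zs (n + 1)) = zs n - T.μit m (n + 1) (ny (n + 1) (zs n)) from hnx (n + 1) (zs n),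
      map_sub, sub_eq_self]
    refine T.sep n _ fun i => ?_
    obtain ⟨k, u, hu⟩ := T.exists_pow_smul_μit m (ny (n + 1) (zs n)) (n + 1) i
    exact ⟨k, by rw [← map_smul, hu, map_smul, T.nil]⟩
  · show T.down (hle 0) (zs 0) = c • z
    rw [← hx₁, pr_eq_down]
    rfl

end Tower

end Groth.Agent.PurX
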