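import Groth.Agent.PurX.TowerH1

/-!
# Algebraization of formal systems when the bottom may be infinite

It is enough that `f` times the sections at level two is finite and that `c * f` kills the first
Čech group at level two for `c` in a power of the ideal. The obstructions are pushed to level two;
their vanishing lets one lift after projecting down twice.
-/

set_option autoImplicit false
set_option linter.unusedSectionVars false

universe u

namespace Groth.Agent.PurX

variable {A : Type u} [CommRing A] {ι : Type} {g : ι → A}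

section Cochain

variable (g) (M : Type u) [AddCommGroup M] [Module A M]

/-- Čech 1-cochains of a module. -/
abbrev C1M : Type u := ∀ i j, LocalizedModule (Submonoid.powers (g i * g j)) M

/-- The cochain with numerators `a` at level `k`. -/
noncomputable def clM (k : ℕ) : (ι → ι → M) →ₗ[A] C1M g M where
  toFun a i j := LocalizedModule.mk (a i j) (Tower.pw (g i * g j) k)
  map_add' a b := funext fun i => funext fun j => by
    show _ = LocalizedModule.mk (a i j) _ + LocalizedModule.mk (b i j) _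
    rw [LocalizedModule.mk_add_mk, ← smul_add, LocalizedModule.mk_cancel_common_left]
    rfl
  map_smul' r a := funext fun i => funext fun j => by
    simp only [Pi.smul_apply, RingHom.id_apply, LocalizedModule.smul'_mk]

theorem clM_scale (k p : ℕ) (a : ι → ι → M) :
    clM g M (k + p) (fun i j => (g i * g j) ^ p • a i j) = clM g M k a := by
  funext i j
  refine LocalizedModule.mk_eq.2 ⟨1, ?_⟩
  simp only [one_smul, Submonoid.smul_def, smul_smul, ← pow_add]

theorem exists_of_clM_eq_zero [Fintype ι] {k : ℕ} {a : ι → ι → M} (h : clM g M k a = 0) :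
    ∃ p : ℕ, ∀ i j, (g i * g j) ^ p • a i j = 0 := by
  classical
  have hp : ∀ e : ι × ι, ∃ p : ℕ, (g e.1 * g e.2) ^ p • a e.1 e.2 = 0 := fun e => by
    have := congrFun (congrFun h e.1) e.2
    obtain ⟨⟨_, p, rfl⟩, hp⟩ := LocalizedModule.mk_eq.1 (this.trans (LocalizedModule.zero_mk (1 : Submonoid.powers (g e.1 * g e.2))).symm)
    exact ⟨p, by simpa [Submonoid.smul_def] using hp⟩
  choose p hp using hp
  refine ⟨∑ e, p e, fun i j => ?_⟩
  obtain ⟨d, hd⟩ := Nat.exists_eq_add_of_le (Finset.single_le_sum (f := p) (fun _ _ => Nat.zero_le _) (Finset.mem_univ (i, j)))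
  rw [hd, add_comm, pow_add, mul_smul, hp (i, j), smul_zero]

theorem clM_δn_scale (k p : ℕ) (w : ι → M) :
    clM g M (k + p) (Tower.δn g (k + p) fun i => g i ^ p • w i) = clM g M k (Tower.δn g k w) := by
  rw [Tower.δn_scale, clM_scale]

/-- Coboundaries. -/
noncomputable def cobM : Submodule A (C1M g M) where
  carrier := {e | ∃ (k : ℕ) (w : ι → M), clM g M k (Tower.δn g k w) = e}
  add_mem' := by
    rintro _ _ ⟨k, v, rfl⟩ ⟨l, w, rfl⟩
    exact ⟨k + l, (fun i => g i ^ l • v i) + fun i => g i ^ k • w i, by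
      rw [map_add, map_add, clM_δn_scale, add_comm k l, clM_δn_scale]⟩
  zero_mem' := ⟨0, 0, by rw [map_zero, map_zero]⟩
  smul_mem' := by
    rintro r _ ⟨k, w, rfl⟩
    exact ⟨k, r • w, by rw [map_smul, map_smul]⟩

/-- An element acting injectively on the module acts injectively on its cochains. -/
theorem smul_C1M_injective {x : A} (hreg : ∀ z : M, x • z = 0 → z = 0) :
    Function.Injective (LinearMap.lsmul A (C1M g M) x) := by
  intro e e' h
  funext i j
  have hL : Function.Injective (fun z : LocalizedModule (Submonoid.powers (g i * g j)) M => x • z) := by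
    intro z z' hzz
    revert hzz
    induction z using LocalizedModule.induction_on with
    | h m s =>
      induction z' using LocalizedModule.induction_on with
      | h m' s' =>
        intro hzz
        simp only [LocalizedModule.smul'_mk, LocalizedModule.mk_eq] at hzz ⊢
        obtain ⟨u, hu⟩ := hzz
        refine ⟨u, ?_⟩
        rw [← sub_eq_zero]
        refine hreg _ ?_
        simp only [Submonoid.smul_def] at hu ⊢
        rw [smul_sub, smul_comm x, smul_comm x, smul_comm x, smul_comm x, hu, sub_self]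
  exact hL (congrFun (congrFun h i) j)

variable {g M}

/-- An element with coboundary multiples is, up to coboundaries, a quotient of a coboundary of a fixed level. -/
theorem exists_glue_bound [Fintype ι] (hglue : H0Killed g M 1) {t : ℕ} {x : A} {ε : C1M g M}
    (hx : x • ε ∈ cobM g M) (hl : ∀ l, g l ^ t • ε ∈ cobM g M) :
    ∃ (m : ι → M) (u : C1M g M), u ∈ cobM g M ∧ x • (ε - u) = clM g M t (Tower.δn g t m) := by
  classical
  obtain ⟨N₀, w₀, hw₀⟩ := hx
  choose Nl wl hwl using hl
  let N := N₀ + ∑ l, Nl l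
  let w : ι → M := fun i => g i ^ (∑ l, Nl l) • w₀ i
  let v : ι → ι → M := fun l i => g i ^ (N - Nl l) • wl l i
  have hw : clM g M N (Tower.δn g N w) = x • ε := by rw [clM_δn_scale, hw₀]
  have hv : ∀ l, clM g M N (Tower.δn g N (v l)) = g l ^ t • ε := fun l => by
    obtain ⟨d, hd⟩ := Nat.exists_eq_add_of_le (show Nl l ≤ N from
      le_add_left (Finset.single_le_sum (fun _ _ => Nat.zero_le _) (Finset.mem_univ l)))
    simp only [v, hd, Nat.add_sub_cancel_left]
    rw [clM_δn_scale, hwl]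
  have hm : ∀ l, ∃ (m : M) (r : ℕ), g l ^ r • (g l ^ t • w l - x • v l l) = g l ^ (r + N) • m := by
    intro l
    have h0 : clM g M N (Tower.δn g N (g l ^ t • w - x • v l)) = 0 := by
      rw [map_sub, map_sub, map_smul, map_smul, map_smul, map_smul, hw, hv, smul_comm, sub_self]
    obtain ⟨q, hq⟩ := exists_of_clM_eq_zero g M h0
    obtain ⟨m, p, hp⟩ := hglue (N + q) (fun i => g i ^ q • (g l ^ t • w - x • v l) i) fun i j => by
      rw [← sub_eq_zero]
      exact (congrFun (congrFun (Tower.δn_scale N q (g l ^ t • w - x • v l)) i) j).trans (hq i j)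
    refine ⟨m, p + q, ?_⟩
    have e := hp l
    beta_reduce at e
    rw [one_smul, smul_smul, ← pow_add, Pi.sub_apply, Pi.smul_apply, Pi.smul_apply] at e
    rw [e]
    congr 2
    omega
  choose m r hmr using hm
  let R := ∑ l, r l
  have hR : ∀ l, g l ^ (R + t) • w l = g l ^ (R + N) • m l + x • g l ^ R • v l l := fun l => by
    obtain ⟨d, hd⟩ := Nat.exists_eq_add_of_le (Finset.single_le_sum (f := r) (fun _ _ => Nat.zero_le _) (Finset.mem_univ l))
    have := congrArg (fun z => g l ^ d • z) (hmr l)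
    simp only [smul_sub, smul_smul] at this
    rw [sub_eq_iff_eq_add] at this
    simp only [R, hd, smul_smul]
    rw [show g l ^ (r l + d + t) = g l ^ d * (g l ^ r l * g l ^ t) by ring, this]
    congr 2 <;> ring
  let v' : ι → M := fun l => g l ^ R • v l l
  refine ⟨m, clM g M (N + R + t) (Tower.δn g (N + R + t) v'), ⟨_, v', rfl⟩, ?_⟩
  have h1 : clM g M (N + (R + t)) (Tower.δn g (N + (R + t)) fun l => g l ^ (R + t) • w l) = x • ε := by
    rw [clM_δn_scale, hw]
  have h2 : (fun l => g l ^ (R + t) • w l) = (fun l => g l ^ (R + N) • m l) + x • v' := funext hR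
  rw [h2, map_add, map_add, map_smul, map_smul, ← add_assoc N R t] at h1
  rw [smul_sub, ← h1, add_sub_cancel_right, show N + R + t = t + (R + N) by omega]
  exact clM_δn_scale g M t (R + N) m

end Cochain

namespace Tower

variable {f : A} (T : Tower g f) [Fintype ι]

theorem down_down {a b : ℕ} (hab : a ≤ b) : ∀ {N : ℕ} (hbN : b ≤ N) (v : T.M N),
    T.down hab (T.down hbN v) = T.down (hab.trans hbN) v := by
  intro N hbN
  induction N, hbN using Nat.le_induction with
  | base => intro v; rw [down_self T b]; rfl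
  | succ N hN ih =>
    intro v
    rw [down_succ T (hab.trans hN), down_succ T hN]
    exact ih _

theorem down_μ {n N : ℕ} (h : n ≤ N) (v : T.M N) :
    T.down (Nat.succ_le_succ h) (T.μ N v) = T.μ n (T.down h v) := by
  induction N, h using Nat.le_induction with
  | base => rw [down_self, down_self]; rfl
  | succ N hN ih =>
    rw [down_succ T (Nat.succ_le_succ hN), LinearMap.comp_apply, μ_π, ih, down_succ T hN, LinearMap.comp_apply]

theorem exists_down_eq {n N : ℕ} (h : n ≤ N) (i : ι) (x : T.M n) :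
    ∃ (k : ℕ) (Y : T.M N), T.down h Y = g i ^ k • x := by
  induction N, h using Nat.le_induction with
  | base => exact ⟨0, x, by rw [down_self, LinearMap.id_apply, pow_zero, one_smul]⟩
  | succ N hN ih =>
    obtain ⟨k, Y, hY⟩ := ih
    obtain ⟨q, Z, hZ⟩ := T.surj N i Y
    exact ⟨q + k, Z, by rw [down_succ T hN, LinearMap.comp_apply, hZ, map_smul, hY, smul_smul, pow_add]⟩

theorem down_μit (m : ℕ) (b : T.M m) : ∀ d, T.down (Nat.le_add_left d m) (T.μit m d b) = T.ν d (T.pr m b)
  | 0 => (LinearMap.congr_fun (pr_eq_down T m) b).symm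
  | d + 1 => by
    show T.down _ (T.μ (m + d) (T.μit m d b)) = T.μ d (T.ν d (T.pr m b))
    rw [← down_μit m b d]
    exact down_μ T (Nat.le_add_left d m) _

theorem exists_μit_of_down_eq_zero (m : ℕ) : ∀ (d : ℕ) (z : T.M (m + (d + 1))),
    T.down (show d ≤ m + (d + 1) by omega) z = 0 → ∃ b, T.μit m (d + 1) b = z
  | 0, z, hz => T.exists_μ_of_pr_eq_zero m z (by rw [pr_eq_down]; exact hz)
  | d + 1, z, hz => by
    obtain ⟨z', rfl⟩ := T.exists_μ_of_pr_eq_zero (m + (d + 1)) z (by
      rw [pr_eq_down]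
      show T.down (Nat.zero_le (m + (d + 1 + 1))) z = 0
      rw [← down_down T (Nat.zero_le (d + 1)) (show d + 1 ≤ m + (d + 1 + 1) by omega) z, hz, map_zero])
    obtain ⟨b, hb⟩ := exists_μit_of_down_eq_zero m d z' (T.μ_injective d (by
      rw [map_zero, ← hz]; exact (down_μ T (show d ≤ m + (d + 1) by omega) z').symm))
    exact ⟨b, by rw [← hb]; rfl⟩

theorem μit_ν (j : ℕ) : ∀ d (z : T.M 0), T.μit j d (T.ν j z) = T.ν (j + d) z
  | 0, _ => rfl
  | d + 1, z => by
    show T.μ (j + d) (T.μit j d (T.ν j z)) = _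
    rw [μit_ν j d z]
    rfl

theorem μit_injective (j : ℕ) : ∀ d, Function.Injective (T.μit j d)
  | 0 => fun _ _ h => h
  | d + 1 => (T.μ_injective _).comp (μit_injective j d)

/-- Two obstructions of an element differ by a coboundary. -/
theorem IsOb.sub_mem_cob {n : ℕ} {x : T.M n} {e e' : T.C1} (h : T.IsOb n x e) (h' : T.IsOb n x e') :
    e - e' ∈ T.cob := by
  have h0 := IsOb.add T h (IsOb.smul T (-1) h')
  rw [show x + (-1 : A) • x = 0 by simp, show e + (-1 : A) • e' = e - e' by simp [sub_eq_add_neg]] at h0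
  obtain ⟨k, y, a, hy, ha, he⟩ := h0
  choose w hw using fun i => T.exists_ν_of_π_eq_zero n (y i) (by rw [hy, smul_zero])
  refine ⟨k, w, ?_⟩
  rw [← he]
  refine congrArg _ (funext fun i => funext fun j => T.ν_injective (n + 1) ?_)
  rw [ha, ← hw i, ← hw j]
  simp only [δn, LinearMap.coe_mk, AddHom.coe_mk, map_sub, map_smul]

/-- Cochains of the bottom as cochains at level two. -/
noncomputable def pushC : T.C1 →ₗ[A] C1M g (T.M 2) :=
  LinearMap.pi fun i => LinearMap.pi fun j =>
    (IsLocalizedModule.map (Submonoid.powers (g i * g j))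
      (LocalizedModule.mkLinearMap (Submonoid.powers (g i * g j)) (T.M 0))
      (LocalizedModule.mkLinearMap (Submonoid.powers (g i * g j)) (T.M 2)) (T.ν 2)) ∘ₗ
      (LinearMap.proj j ∘ₗ LinearMap.proj i)

theorem pushC_cl (k : ℕ) (a : ι → ι → T.M 0) :
    T.pushC (T.cl k a) = clM g (T.M 2) k fun i j => T.ν 2 (a i j) := by
  funext i j
  show IsLocalizedModule.map _ _ _ (T.ν 2) (LocalizedModule.mk (a i j) _) = LocalizedModule.mk _ _
  rw [IsLocalizedModule.mk_eq_mk', IsLocalizedModule.map_mk',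
    ← IsLocalizedModule.mk_eq_mk']

theorem pushC_mem_cobM {e : T.C1} (he : e ∈ T.cob) : T.pushC e ∈ cobM g (T.M 2) := by
  obtain ⟨k, w, rfl⟩ := he
  refine ⟨k, fun i => T.ν 2 (w i), ?_⟩
  rw [pushC_cl]
  simp only [δn, LinearMap.coe_mk, AddHom.coe_mk, map_sub, map_smul]

/-- A pushed obstruction that vanishes gives a lift after projecting twice. -/
theorem IsOb.exists_lift_two {d : ℕ} {x : T.M (2 + d)} {e : T.C1} (h : T.IsOb (2 + d) x e)
    (he : T.pushC e ∈ cobM g (T.M 2)) :
    ∃ z : T.M (2 + d + 1), T.down (show d ≤ 2 + d + 1 by omega) z = T.down (Nat.le_add_left d 2) x := by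
  obtain ⟨k, hk⟩ := IsOb.scale T h
  obtain ⟨l, w, hw⟩ := he
  obtain ⟨y, a, hy, ha, hea⟩ := hk l
  let N := k + l
  have h0 : clM g (T.M 2) N ((fun i j => T.ν 2 (a i j)) - δn g N fun i => g i ^ k • w i) = 0 := by
    rw [map_sub, ← pushC_cl, hea, ← hw, sub_eq_zero]
    simp only [N]
    rw [add_comm k l, clM_δn_scale]
  obtain ⟨q, hq⟩ := exists_of_clM_eq_zero g (T.M 2) h0
  let up : T.M 2 →ₗ[A] T.M (2 + d + 1) := T.μit 2 (d + 1)
  have hupν : ∀ z : T.M 0, up (T.ν 2 z) = T.ν (2 + d + 1) z := fun z => μit_ν T 2 (d + 1) z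
  let K := N + q
  let y' : ι → T.M (2 + d + 1) := fun i => g i ^ q • (y i - up (g i ^ k • w i))
  obtain ⟨z, hz⟩ := T.exists_glue (2 + d + 1) K y' fun i j => by
    have h1 := congrArg up (hq i j)
    rw [map_smul, map_zero, Pi.sub_apply, Pi.sub_apply, map_sub, hupν, ha] at h1
    simp only [δn, LinearMap.coe_mk, AddHom.coe_mk, map_sub, map_smul, smul_sub, smul_smul] at h1
    rw [← sub_eq_zero, ← h1]
    simp only [y', map_smul, smul_sub, smul_smul]
    rw [show g j ^ K * g i ^ q = (g i * g j) ^ q * g j ^ (k + l) by simp only [K, N]; ring,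
      show g i ^ K * g j ^ q = (g i * g j) ^ q * g i ^ (k + l) by simp only [K, N]; ring,
      show g j ^ K * (g i ^ q * g i ^ k) = (g i * g j) ^ q * (g j ^ (k + l) * g i ^ k) by simp only [K, N]; ring,
      show g i ^ K * (g j ^ q * g j ^ k) = (g i * g j) ^ q * (g i ^ (k + l) * g j ^ k) by simp only [K, N]; ring]
    abel
  refine ⟨z, T.eq_of_loc d fun i => ?_⟩
  obtain ⟨p, hp⟩ := hz i
  have hkill : ∀ v : T.M 2, T.down (show d ≤ 2 + d + 1 by omega) (up v) = 0 := by
    intro v
    refine T.sep d _ fun i => ?_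
    obtain ⟨k', u, hu⟩ := T.exists_pow_smul_μit 2 v (d + 1) i
    exact ⟨k', by rw [← map_smul, show g i ^ k' • up v = _ from hu, map_smul, T.nil]⟩
  have hdy : T.down (show d ≤ 2 + d + 1 by omega) (y i) = g i ^ (k + l) • T.down (Nat.le_add_left d 2) x := by
    rw [show T.down (show d ≤ 2 + d + 1 by omega) (y i) = T.down (Nat.le_add_left d 2) (T.π (2 + d) (y i)) from
      LinearMap.congr_fun (down_succ T (Nat.le_add_left d 2)) (y i), hy, map_smul]
  refine ⟨p + K, ?_⟩
  have e1 := congrArg (T.down (show d ≤ 2 + d + 1 by omega)) hp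
  simp only [y', map_smul, map_sub, hkill, smul_zero, sub_zero, hdy, smul_smul] at e1
  rw [← e1]
  congr 1
  simp only [K, N]
  ring

/-- Obstructions lift to cocycles at level two. -/
theorem IsOb.exists_cocycle {n : ℕ} {x : T.M n} {e : T.C1} (h : T.IsOb n x e) :
    ∃ (k : ℕ) (b : ι → ι → T.M 2), (∀ i j l, g l ^ k • b i j + g i ^ k • b j l = g j ^ k • b i l) ∧
      T.pushC e - clM g (T.M 2) k (fun i j => f ^ 2 • b i j) ∈ cobM g (T.M 2) := by
  classical
  choose p u hu using fun i => T.exists_down_eq (show n ≤ 2 + (n + 1) by omega) i x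
  let K := ∑ i, p i
  let Y : ι → T.M (2 + (n + 1)) := fun i => g i ^ (K - p i) • u i
  have hY : ∀ i, T.down (show n ≤ 2 + (n + 1) by omega) (Y i) = g i ^ K • x := fun i => by
    rw [map_smul, hu, smul_smul, ← pow_add,
      Nat.sub_add_cancel (Finset.single_le_sum (f := p) (fun _ _ => Nat.zero_le _) (Finset.mem_univ i))]
  choose b hb using fun i j => T.exists_μit_of_down_eq_zero 2 n (g j ^ K • Y i - g i ^ K • Y j) (by
    rw [map_sub, LinearMap.map_smul _ (g j ^ K), LinearMap.map_smul _ (g i ^ K), hY, hY, smul_comm, sub_self])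
  refine ⟨K, b, fun i j l => T.μit_injective 2 (n + 1) ?_, ?_⟩
  · rw [map_add, map_smul, map_smul, map_smul, hb, hb, hb, smul_sub, smul_sub, smul_sub,
      smul_comm (g l ^ K) (g j ^ K), smul_comm (g i ^ K) (g l ^ K), smul_comm (g i ^ K) (g j ^ K)]
    abel
  have h₁ : T.IsOb n x (T.cl K fun i j => T.pr 2 (b i j)) := by
    refine ⟨K, fun i => T.down (show n + 1 ≤ 2 + (n + 1) by omega) (Y i), _, fun i => ?_, fun i j => ?_, rfl⟩
    · rw [← hY i]
      exact LinearMap.congr_fun (T.π_down (show n + 1 ≤ 2 + (n + 1) by omega)) (Y i)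
    · rw [← down_μit T 2 (b i j) (n + 1), hb, map_sub, LinearMap.map_smul _ (g j ^ K), LinearMap.map_smul _ (g i ^ K)]
  have hd := T.pushC_mem_cobM (IsOb.sub_mem_cob T h h₁)
  rw [map_sub, pushC_cl] at hd
  simpa only [T.pow_smul 2] using hd

/-- Obstructions, pushed to level two and modulo coboundaries. -/
noncomputable def obs2 (n : ℕ) : Submodule A (C1M g (T.M 2)) := (T.obs n).map T.pushC ⊔ cobM g (T.M 2)

theorem obs2_mono : Monotone T.obs2 := fun _ _ h => sup_le_sup_right (Submodule.map_mono (T.obs_mono h)) _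

section Bound

variable [IsNoetherianRing A] {t : ℕ} [Module.Finite A (LinearMap.range (LinearMap.lsmul A (T.M 2) f))]
  (hH1 : ∀ c ∈ Ideal.span (Set.range g) ^ t, H1Killed g (T.M 2) (c * f))

include hH1

theorem smul_cocycle_mem_cobM {k : ℕ} {b : ι → ι → T.M 2}
    (hb : ∀ i j l, g l ^ k • b i j + g i ^ k • b j l = g j ^ k • b i l) {c : A}
    (hc : c ∈ Ideal.span (Set.range g) ^ t) : c • f • clM g (T.M 2) k b ∈ cobM g (T.M 2) := by
  obtain ⟨p, w, hw⟩ := hH1 c hc k b hb
  refine ⟨k + p, w, ?_⟩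
  rw [smul_smul, ← clM_scale g (T.M 2) k p b, ← map_smul]
  refine congrArg _ (funext fun i => funext fun j => ?_)
  show _ = (c * f) • (g i * g j) ^ p • b i j
  rw [smul_comm]
  exact (hw i j).symm

theorem smul_pushC_mem_cobM {n : ℕ} {x : T.M n} {e : T.C1} (h : T.IsOb n x e) {c : A}
    (hc : c ∈ Ideal.span (Set.range g) ^ t) : c • T.pushC e ∈ cobM g (T.M 2) := by
  obtain ⟨k, b, hb, he⟩ := IsOb.exists_cocycle T h
  have h1 : c • clM g (T.M 2) k (fun i j => f ^ 2 • b i j) ∈ cobM g (T.M 2) := by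
    rw [show (fun i j => f ^ 2 • b i j) = f ^ 2 • b from rfl, map_smul, sq, mul_smul, smul_comm c f]
    exact Submodule.smul_mem _ f (T.smul_cocycle_mem_cobM hH1 hb hc)
  simpa [smul_sub] using add_mem (Submodule.smul_mem _ c he) h1

/-- All pushed obstructions live, modulo coboundaries, in the image of a finite module. -/
theorem exists_finite_bound2 {x : A} (hx : x ∈ Ideal.span (Set.range g) ^ t)
    (hreg : ∀ z : T.M 2, x • z = 0 → z = 0) :
    ∃ (P : Type u) (_ : AddCommGroup P) (_ : Module A P) (_ : Module.Finite A P)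
    (φ : P →ₗ[A] C1M g (T.M 2)), ∀ n, T.obs2 n ≤ LinearMap.range φ ⊔ cobM g (T.M 2) := by
  classical
  let F := LinearMap.range (LinearMap.lsmul A (T.M 2) f)
  let inc : (ι → F) →ₗ[A] (ι → T.M 2) := LinearMap.pi fun i => F.subtype ∘ₗ LinearMap.proj i
  let W : (ι → F) →ₗ[A] C1M g (T.M 2) := clM g (T.M 2) t ∘ₗ δn g t ∘ₗ inc
  have hinj := smul_C1M_injective g (T.M 2) hreg
  let P : Submodule A (ι → F) := (LinearMap.range (LinearMap.lsmul A (C1M g (T.M 2)) x)).comap W
  let div := LinearEquiv.ofInjective (LinearMap.lsmul A (C1M g (T.M 2)) x) hinj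
  let φ : P →ₗ[A] C1M g (T.M 2) := div.symm.toLinearMap ∘ₗ (W.restrict fun m hm => hm)
  have hφ : ∀ m : P, x • φ m = W m := fun m => congrArg Subtype.val (div.apply_symm_apply ⟨W m, m.2⟩)
  refine ⟨P, inferInstance, inferInstance, inferInstance, φ, fun n => sup_le ?_ le_sup_right⟩
  rintro _ ⟨e, ⟨x₀, e', hob, hd⟩, rfl⟩
  obtain ⟨k, b, hb, he⟩ := IsOb.exists_cocycle T hob
  have hd' := T.pushC_mem_cobM hd
  rw [map_sub] at hd'
  suffices hε : clM g (T.M 2) k (fun i j => f ^ 2 • b i j) ∈ LinearMap.range φ ⊔ cobM g (T.M 2) by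
    simpa using add_mem (add_mem hε (le_sup_right (a := LinearMap.range φ) he))
      (le_sup_right (a := LinearMap.range φ) hd')
  let ε := f • clM g (T.M 2) k b
  obtain ⟨m, u, hu, hm⟩ := exists_glue_bound (T.glue 2) (t := t) (ε := ε) (T.smul_cocycle_mem_cobM hH1 hb hx)
    fun l => T.smul_cocycle_mem_cobM hH1 hb (Ideal.pow_mem_pow (Ideal.subset_span (Set.mem_range_self l)) t)
  let m' : ι → F := fun i => ⟨f • m i, m i, rfl⟩
  have hW : x • f • (ε - u) = W m' := by
    rw [smul_comm, hm]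
    show f • _ = clM g (T.M 2) t (δn g t (f • m))
    rw [map_smul, map_smul]
  rw [show (fun i j => f ^ 2 • b i j) = f ^ 2 • b from rfl, map_smul, sq, mul_smul,
    show f • f • clM g (T.M 2) k b = f • (ε - u) + f • u by rw [← smul_add, sub_add_cancel]]
  refine add_mem (le_sup_left (b := cobM g (T.M 2)) ⟨⟨m', ⟨_, hW⟩⟩, hinj ?_⟩)
    (le_sup_right (a := LinearMap.range φ) (Submodule.smul_mem _ f hu))
  show x • φ _ = x • f • (ε - u)
  rw [hφ, hW]

theorem exists_obs2_stable {x : A} (hx : x ∈ Ideal.span (Set.range g) ^ t)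
    (hreg : ∀ z : T.M 2, x • z = 0 → z = 0) : ∃ m₀, ∀ n, T.obs2 n ≤ T.obs2 m₀ := by
  obtain ⟨P, _, _, _, φ, hφ⟩ := T.exists_finite_bound2 hH1 hx hreg
  obtain ⟨m₀, hm₀⟩ := monotone_stabilizes_iff_noetherian.2 (inferInstance : IsNoetherian A P)
    ⟨fun n => (T.obs2 n).comap φ, fun a b hab => Submodule.comap_mono (T.obs2_mono hab)⟩
  refine ⟨m₀, fun n => (T.obs2_mono (le_max_left n m₀)).trans fun e he => ?_⟩
  obtain ⟨_, ⟨p, rfl⟩, c, hc, rfl⟩ := Submodule.mem_sup.1 (hφ _ he)
  refine add_mem ?_ (Submodule.mem_sup_right hc)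
  have hp : p ∈ (T.obs2 (max n m₀)).comap φ := by
    simpa using sub_mem he (Submodule.mem_sup_right hc : c ∈ T.obs2 (max n m₀))
  exact (hm₀ _ (le_max_right n m₀)).ge hp

end Bound

/-- Transporting an element upwards keeps its obstruction. -/
theorem IsOb.exists_up {m : ℕ} {y : T.M m} {e : T.C1} (h : T.IsOb m y e) {n : ℕ} (hn : m ≤ n) :
    ∃ y' : T.M n, T.IsOb n y' e ∧ ∀ i, ∃ (k : ℕ) (u : T.M n), g i ^ k • y' = f ^ (n - m) • u := by
  induction n, hn using Nat.le_induction with
  | base => exact ⟨y, h, fun i => ⟨0, y, by simp⟩⟩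
  | succ n hn ih =>
    obtain ⟨y', hy', hloc⟩ := ih
    refine ⟨T.μ n y', IsOb.μ T hy', fun i => ?_⟩
    obtain ⟨k, u, hu⟩ := hloc i
    obtain ⟨k', v, -, hv⟩ := T.isMu n u i
    refine ⟨k' + k, v, ?_⟩
    rw [pow_add, mul_smul, ← map_smul (T.μ n), hu, map_smul, smul_comm, hv, Nat.succ_sub hn, pow_succ, mul_smul]

/-- Up to a power of the ideal, what lifts two levels comes from the limit. -/
theorem exists_pow_pr_two_le_range_ev [IsNoetherianRing A] {t : ℕ}
    [Module.Finite A (LinearMap.range (LinearMap.lsmul A (T.M 2) f))]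
    (hH1 : ∀ c ∈ Ideal.span (Set.range g) ^ t, H1Killed g (T.M 2) (c * f))
    {x : A} (hx : x ∈ Ideal.span (Set.range g) ^ t) (hreg : ∀ z : T.M 2, x • z = 0 → z = 0) :
    ∃ E : ℕ, ∀ c ∈ Ideal.span (Set.range g) ^ E, ∀ z : T.M 2, c • T.pr 2 z ∈ LinearMap.range (T.ev 0) := by
  obtain ⟨m, hm⟩ := T.exists_obs2_stable hH1 hx hreg
  have hpr : ∀ {d : ℕ} (v : T.M (2 + d)), T.down (Nat.zero_le d) (T.down (Nat.le_add_left d 2) v) = T.pr (2 + d) v :=
    fun v => by rw [pr_eq_down, down_down]
  have hkill : ∀ d, ∀ c ∈ Ideal.span (Set.range g) ^ (t * d), ∀ z : T.M 2,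
      ∃ z' : T.M (2 + d), T.pr (2 + d) z' = c • T.pr 2 z := by
    intro d
    induction d with
    | zero => exact fun c _ z => ⟨c • z, map_smul _ _ _⟩
    | succ d ih =>
      intro c hc z
      rw [mul_add, mul_one, pow_add] at hc
      refine Submodule.mul_induction_on hc (fun a ha b hb => ?_) fun a b ⟨za, ha⟩ ⟨zb, hb⟩ =>
        ⟨za + zb, by rw [map_add, ha, hb, add_smul]⟩
      obtain ⟨x₀, hx₀⟩ := ih a ha z
      obtain ⟨e, he⟩ := T.exists_isOb (2 + d) x₀
      obtain ⟨z', hz'⟩ := IsOb.exists_lift_two T (IsOb.smul T b he)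
        (by rw [map_smul]; exact T.smul_pushC_mem_cobM hH1 he hb)
      refine ⟨z', ?_⟩
      show T.pr (2 + d + 1) z' = _
      rw [pr_eq_down, ← down_down T (Nat.zero_le d) (show d ≤ 2 + d + 1 by omega) z', hz', hpr, map_smul, hx₀,
        smul_smul, mul_comm]
  refine ⟨t * (m + 1), fun c hc z => ?_⟩
  obtain ⟨x₁, hx₁⟩ := hkill (m + 1) c hc z
  have hnext : ∀ d (v : T.M (2 + (m + d + 1))), ∃ v' : T.M (2 + (m + d + 1) + 1),
      T.down (show d ≤ 2 + (m + d + 1) + 1 by omega) v' = T.down (show d ≤ 2 + (m + d + 1) by omega) v := by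
    intro d v
    obtain ⟨e, he⟩ := T.exists_isOb (2 + (m + d + 1)) v
    obtain ⟨_, ⟨e', ⟨y, e₂, hy, hd⟩, rfl⟩, u, hu, heq⟩ := Submodule.mem_sup.1
      (hm (2 + (m + d + 1)) (Submodule.mem_sup_left ⟨e, ⟨v, e, he, by rw [sub_self]; exact zero_mem _⟩, rfl⟩))
    obtain ⟨y', hy', hloc⟩ := IsOb.exists_up T hy (show m ≤ 2 + (m + d + 1) by omega)
    obtain ⟨v', hv'⟩ := IsOb.exists_lift_two T (IsOb.add T he (IsOb.smul T (-1) hy')) (by
      have h1 := T.pushC_mem_cobM hd
      rw [map_sub] at h1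
      rw [map_add, map_smul, ← heq]
      convert add_mem h1 hu using 1
      simp only [neg_one_smul]
      abel)
    refine ⟨v', ?_⟩
    have e1 := congrArg (T.down (show d ≤ m + d + 1 by omega)) hv'
    rw [down_down, down_down, map_add, map_smul] at e1
    have h0 : T.down (show d ≤ 2 + (m + d + 1) by omega) y' = 0 := by
      refine T.sep d _ fun i => ?_
      obtain ⟨k, w, hw⟩ := hloc i
      refine ⟨k, ?_⟩
      rw [← map_smul, hw, map_smul, show 2 + (m + d + 1) - m = 2 + (d + 1) by omega, pow_add, mul_smul, T.nil,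
        smul_zero]
    rwa [h0, smul_zero, add_zero] at e1
  choose nx hnx using hnext
  let zs : ∀ d, T.M (2 + (m + d + 1)) := fun d =>
    Nat.rec (motive := fun d => T.M (2 + (m + d + 1))) x₁ (fun k v => nx k v) d
  let s : ∀ d, T.M d := fun d => T.down (show d ≤ 2 + (m + d + 1) by omega) (zs d)
  refine ⟨⟨s, fun d => ?_⟩, ?_⟩
  · show T.π d (T.down _ (zs (d + 1))) = s d
    exact (LinearMap.congr_fun (T.π_down (show d + 1 ≤ 2 + (m + (d + 1) + 1) by omega)) (zs (d + 1))).trans (hnx d (zs d))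
  · show T.down (show 0 ≤ 2 + (m + 0 + 1) by omega) (zs 0) = c • T.pr 2 z
    rw [← hx₁, pr_eq_down]
    rfl

end Tower

end Groth.Agent.PurX
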